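import Cfsg.Agent.Lib.OddPrime.Pairs
import Cfsg.Agent.Lib.OddOrder.UniqueSCN
import Cfsg.Agent.Lib.OddOrder.TauTwoBasic
import Cfsg.Agent.Lib.Coprime.Abelian

/-!
Shared tools for Bender-Glauberman section 13.
* `zgroup_centralizer`, `isCyclic_centralizer`: `C_{M_α}(R)` is a Z-group, `R` of order `r` in rank one
* `exists_normalizer_not_centralizing`: a Frattini element moving a Sylow subgroup
* `commutator_le_centralizer_line`, `pair_rank_contra`
-/

set_option autoImplicit false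
set_option linter.unusedVariables false
set_option linter.unusedSectionVars false

universe u

namespace Cfsg.Agent.OddPrime

open scoped Pointwise commutatorElement

variable {G : Type u} [Group G] [Finite G]

theorem eq_of_forall_prime {H K : Subgroup G} (hle : H ≤ K)
    (h : ∀ r : ℕ, r.Prime → r ∣ Nat.card K → ¬ r ∣ H.relIndex K) : H = K := by
  refine le_antisymm hle (Subgroup.relIndex_eq_one.1 (by_contra fun hne => ?_))
  obtain ⟨r, hr, hd⟩ := Nat.exists_prime_and_dvd hne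
  exact h r hr (hd.trans (Dvd.intro_left _ (OddMax.card_mul_relIndex hle))) hd

theorem exists_invariant {A K : Subgroup G} (hAK : A ≤ Subgroup.normalizer (K : Set G))
    (hcop : (Nat.card A).Coprime (Nat.card K)) (hs : Group.IsSolvable K) (r : ℕ) [Fact r.Prime] :
    ∃ R : Subgroup G, R ≤ K ∧ IsPGroup r R ∧ ¬ r ∣ R.relIndex K ∧
      A ≤ Subgroup.normalizer (R : Set G) := by
  obtain ⟨P, hP⟩ := Coprime.exists_invariant_sylow hAK hcop (Or.inr hs) r
  exact ⟨_, Subgroup.map_subtype_le _, P.isPGroup'.map _, OddMax.sylow_relIndex P, hP⟩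

theorem exists_invariant_ge {A K U : Subgroup G} (hAK : A ≤ Subgroup.normalizer (K : Set G))
    (hcop : (Nat.card A).Coprime (Nat.card K)) (hs : Group.IsSolvable K) {r : ℕ} [Fact r.Prime]
    (hUK : U ≤ K) (hU : IsPGroup r U) (hUA : A ≤ Subgroup.normalizer (U : Set G)) :
    ∃ R : Subgroup G, R ≤ K ∧ IsPGroup r R ∧ ¬ r ∣ R.relIndex K ∧ U ≤ R ∧
      A ≤ Subgroup.normalizer (R : Set G) := by
  obtain ⟨P, hUP, hP⟩ := Coprime.exists_invariant_sylow_ge hAK hcop (Or.inr hs) hUK hU hUA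
  exact ⟨_, Subgroup.map_subtype_le _, P.isPGroup'.map _, OddMax.sylow_relIndex P, hUP, hP⟩

theorem le_normalizer_inf {A H K : Subgroup G} (hH : A ≤ Subgroup.normalizer (H : Set G))
    (hK : A ≤ Subgroup.normalizer (K : Set G)) :
    A ≤ Subgroup.normalizer ((H ⊓ K : Subgroup G) : Set G) := fun a ha =>
  Coprime.mem_normalizer_of_forall fun x hx =>
    ⟨(Subgroup.mem_normalizer_iff.1 (hH ha) x).1 hx.1, (Subgroup.mem_normalizer_iff.1 (hK ha) x).1 hx.2⟩

theorem normalizer_le_centralizer (X : Subgroup G) :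
    Subgroup.normalizer (X : Set G) ≤
      Subgroup.normalizer ((Subgroup.centralizer (X : Set G) : Subgroup G) : Set G) := by
  intro n hn
  refine Coprime.mem_normalizer_of_forall fun c hc x hx => ?_
  have h1 := hc (n⁻¹ * x * n) ((Subgroup.mem_normalizer_iff''.1 hn x).1 hx)
  calc x * (n * c * n⁻¹) = n * ((n⁻¹ * x * n) * c) * n⁻¹ := by group
    _ = n * (c * (n⁻¹ * x * n)) * n⁻¹ := by rw [h1]
    _ = n * c * n⁻¹ * x := by group

theorem le_centralizer_self {S : Subgroup G} (h : IsMulCommutative S) :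
    S ≤ Subgroup.centralizer (S : Set G) := fun x hx y hy =>
  congrArg Subtype.val (mul_comm' (⟨y, hy⟩ : S) ⟨x, hx⟩)

theorem normalizer_le_of_cyclic {X S : Subgroup G} (hS : IsCyclic S) (hXS : X ≤ S) :
    Subgroup.normalizer (S : Set G) ≤ Subgroup.normalizer (X : Set G) :=
  Facts.pair_sylow.normalizer_le_of_cyclic hXS

theorem mem_of_pow_eq_one {p : ℕ} [hp : Fact p.Prime] {S X : Subgroup G} (hS : IsCyclic S)
    (hXS : X ≤ S) (hX : Nat.card X = p) {x : G} (hx : x ∈ S) (hxp : x ^ p = 1) : x ∈ X := by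
  by_cases h1 : x = 1
  · exact h1 ▸ X.one_mem
  · rw [← eq_of_card_eq_of_cyclic (S := S) (Subgroup.zpowers_le.2 hx) hXS
      (by rw [Nat.card_zpowers, orderOf_eq_prime hxp h1, hX])]
    exact Subgroup.mem_zpowers x

theorem exists_elementary_sq {p k : ℕ} [hp : Fact p.Prime] {H : Subgroup G} (hk : 1 ≤ k)
    (h : ¬ PRankLE p k ↥H) :
    ∃ A : Subgroup G, A ≤ H ∧ IsElementaryAbelian p A ∧ Nat.card A = p ^ 2 := by
  obtain ⟨E, hEH, hE, hc⟩ := OddSigma.exists_elementary h
  obtain ⟨j, hj⟩ := (Signalizer.isPGroup_of_elemAb hE).exists_card_eq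
  rw [hj, Nat.pow_le_pow_iff_right hp.out.one_lt] at hc
  obtain ⟨B, hB⟩ := Sylow.exists_subgroup_card_pow_prime (G := E) p (n := 2)
    (by rw [hj]; exact pow_dvd_pow p (by omega))
  exact ⟨B.map E.subtype, (Subgroup.map_subtype_le B).trans hEH,
    OddSigma.isElementary_mono hE (Subgroup.map_subtype_le B),
    by rw [Subgroup.card_map_of_injective E.subtype_injective, hB]⟩

theorem exists_elementary_of_not_cyclic {p : ℕ} [hp : Fact p.Prime] (hp2 : p ≠ 2) {R : Subgroup G}
    (hR : IsPGroup p R) (h : ¬ IsCyclic R) :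
    ∃ A : Subgroup G, A ≤ R ∧ IsElementaryAbelian p A ∧ Nat.card A = p ^ 2 :=
  exists_elementary_sq le_rfl fun h1 => h <| by
    have := Isolated.isCyclic_of_rank_le_one hp2 h1 (⊤ : Subgroup R) (hR.to_subgroup ⊤)
    exact isCyclic_of_surjective (Subgroup.topEquiv (G := R)).toMonoidHom
      (Subgroup.topEquiv (G := R)).surjective

theorem not_prankLE_one {p : ℕ} [hp : Fact p.Prime] {A M : Subgroup G} (hA : IsElementaryAbelian p A)
    (hc : Nat.card A = p ^ 2) (hAM : A ≤ M) : ¬ PRankLE p 1 M :=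
  OddSigma.not_prankLE_of_le hAM hA
    (by rw [hc]; exact Nat.pow_lt_pow_right hp.out.one_lt one_lt_two)

theorem prankLE_conj {p k : ℕ} (g : G) {M : Subgroup G} (h : PRankLE p k M) :
    PRankLE p k ↥(MulAut.conj g • M) :=
  OddSigma.prankLE_of_injective (Subgroup.equivSMul (MulAut.conj g) M).symm.toMonoidHom
    (Subgroup.equivSMul (MulAut.conj g) M).symm.injective h

theorem elementary_conj {p : ℕ} (n : G) {A : Subgroup G} (hA : IsElementaryAbelian p A) :
    IsElementaryAbelian p (MulAut.conj n • A) := by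
  refine ⟨⟨⟨?_⟩⟩, ?_⟩
  · rintro ⟨_, a, ha, rfl⟩ ⟨_, b, hb, rfl⟩
    refine Subtype.ext ?_
    show MulAut.conj n a * MulAut.conj n b = MulAut.conj n b * MulAut.conj n a
    rw [← map_mul, ← map_mul, OddSigma.elem_comm hA ha hb]
  · rintro _ ⟨a, ha, rfl⟩
    show (MulAut.conj n a) ^ p = 1
    rw [← map_pow, hA.2 a ha, map_one]

theorem beta_conj_subset (g : G) (M : Subgroup G) : beta (MulAut.conj g • M) ⊆ beta M := by
  rintro p ⟨⟨hp, h⟩, hi⟩
  exact ⟨⟨hp, fun h1 => h (prankLE_conj g h1)⟩, hi⟩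

theorem not_conj_of_sigma {M L : Subgroup G} {p : ℕ} (hL : p ∈ sigma L) (hM : p ∉ sigma M) (g : G) :
    L ≠ MulAut.conj g • M := fun h => hM (by rwa [h, OddMax.sigma_conj] at hL)

theorem not_conj_of_sigma' {M L : Subgroup G} {p : ℕ} (hM : p ∈ sigma M) (hL : p ∉ sigma L) (g : G) :
    L ≠ MulAut.conj g • M := fun h => hL (by rwa [h, OddMax.sigma_conj])

theorem not_conj_of_rank {M L : Subgroup G} {p k : ℕ} (hM : PRankLE p k M) (hL : ¬ PRankLE p k L)
    (g : G) : L ≠ MulAut.conj g • M := fun h => hL (h ▸ prankLE_conj g hM)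

theorem betaCore_le_alphaCore (M : Subgroup G) : betaCore M ≤ alphaCore M := by
  refine Subgroup.map_mono (sSup_le_sSup ?_)
  exact fun N hN => ⟨hN.1, fun p hp hd => (hN.2 p hp hd).1⟩

/-- A subgroup normalising `A`, `|A| = r ^ 2`, and fixing a line of `A` acts abelianly on `A`. -/
theorem commutator_le_centralizer_line {r : ℕ} [hr : Fact r.Prime] {A X Y : Subgroup G}
    (hA : IsElementaryAbelian r A) (hAc : Nat.card A = r ^ 2) (hXA : X ≤ A) (hX : Nat.card X = r)
    (hYA : Y ≤ Subgroup.normalizer (A : Set G)) (hYX : Y ≤ Subgroup.normalizer (X : Set G))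
    (hcop : (Nat.card Y).Coprime r) : ⁅Y, Y⁆ ≤ Subgroup.centralizer (A : Set G) := by
  have := hA.1
  obtain ⟨a, ha, ha1, haX⟩ := OddTau2.exists_gen hX
  obtain ⟨b, hb, hb1, hba⟩ := OddTau2.exists_not_mem_line hA hAc a
  have hsup := OddTau2.sup_line hA hAc (hXA ha) ha1 hb hba
  rw [haX] at hsup
  have hinf : X ⊓ Subgroup.zpowers b = ⊥ := by
    rw [eq_bot_iff]
    rintro y ⟨hy, hy'⟩
    by_contra h
    exact hba (haX ▸ (OddTau2.line_eq hX hy h) ▸
      (OddTau2.line_eq (OddTau2.card_line hA hb hb1) hy' h).symm ▸ Subgroup.mem_zpowers b)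
  obtain ⟨W, hW, hYW, hXW, hXWA⟩ := Coprime.exists_invariant_complement (A := Y) (V := A) hYA
    (by rw [hAc]; exact hcop.pow_right 2) hXA hYX (Subgroup.zpowers_le.2 hb) hinf hsup
  have hWc : IsCyclic W := by
    by_cases hW1 : W = ⊥
    · subst hW1; infer_instance
    · refine isCyclic_of_prime_card (p := r) ?_
      have hd : Nat.card W ∣ r ^ 2 := hAc ▸ Subgroup.card_dvd_of_le hW
      obtain ⟨i, hi, hWi⟩ := (Nat.dvd_prime_pow hr.out).1 hd
      interval_cases i
      · exact absurd (Subgroup.card_eq_one.1 (by simpa using hWi)) hW1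
      · simpa using hWi
      · exfalso
        have hWA : W = A := Subgroup.eq_of_le_of_card_ge hW (hAc.trans hWi.symm).le
        rw [hWA, inf_eq_left.2 hXA] at hXW
        exact ne_bot_of_card_prime hr.out hX hXW
  intro y hy
  have h1 := (OddUniq.commutator_le_centralizer_cyclic hWc hYW) hy
  have h2 := (OddUniq.commutator_le_centralizer_cyclic
    (isCyclic_of_prime_card (p := r) hX) hYX) hy
  rw [← hXWA, Subgroup.sup_eq_closure, Subgroup.centralizer_closure]
  rintro z (hz | hz)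
  exacts [h2 z hz, h1 z hz]

namespace Facts

variable (F : Facts G) {M N : Subgroup G}
include F

theorem exists_max {H : Subgroup G} (h : H ≠ ⊤) : ∃ M : Subgroup G, IsCoatom M ∧ H ≤ M :=
  OddSigma.exists_coatom h

theorem exists_max_normalizer {p : ℕ} [Fact p.Prime] {X : Subgroup G} (hX : IsPGroup p X)
    (h1 : X ≠ ⊥) : ∃ M : Subgroup G, IsCoatom M ∧ Subgroup.normalizer (X : Set G) ≤ M :=
  F.exists_max (F.normalizer_ne_top h1 (F.ne_top_of_isPGroup hX))

theorem alphaCore_ne_bot (hM : IsCoatom M) {r : ℕ} (hr : r ∈ alpha M) : alphaCore M ≠ ⊥ := by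
  intro h
  refine (F.s1405 M hM).1.2.2 r hr.1 hr ?_
  rw [h, Subgroup.relIndex_bot_left]
  exact OddSigma.alpha_dvd hr

/-- `C_{M_α}(R)` is a Z-group for `|R| = r` with `M` of `r`-rank one. -/
theorem zgroup_centralizer (hM : IsCoatom M) (hα : alphaCore M ≠ ⊥) {r : ℕ} [hr : Fact r.Prime]
    (hrσ : r ∉ sigma M) (hr1 : PRankLE r 1 M) {R : Subgroup G} (hRM : R ≤ M) (hR : Nat.card R = r) :
    IsZGroup ↥(alphaCore M ⊓ Subgroup.centralizer (R : Set G)) := by
  have hd : r ∣ Nat.card M := hR ▸ Subgroup.card_dvd_of_le hRM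
  obtain ⟨P, hP⟩ := ((isPGroup_of_card_prime hR).comap_of_injective M.subtype
    M.subtype_injective).exists_le_sylow
  obtain ⟨x, hx, hxo, hz, -⟩ := F.s1407 M hM hα r hd hrσ P
  obtain ⟨_, ⟨z, -, rfl⟩, hxz⟩ := hx
  have hc : IsCyclic ↥((P : Subgroup M).map M.subtype) :=
    F.isCyclic_pSubgroup hM hrσ (fun h => h.2.2.2 hr1) (P.isPGroup'.map _) (Subgroup.map_subtype_le _)
  have hRP : R ≤ (P : Subgroup M).map M.subtype := fun y hy => ⟨⟨y, hRM hy⟩, hP hy, rfl⟩
  have hxP : x ∈ (P : Subgroup M).map M.subtype := ⟨_, z.2, hxz⟩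
  have he := eq_of_card_eq_of_cyclic (Subgroup.zpowers_le.2 hxP) hRP
    (show Nat.card (Subgroup.zpowers x) = Nat.card R by rw [Nat.card_zpowers, hxo, hR])
  rwa [centralizer_singleton_eq, he] at hz

theorem isCyclic_centralizer (hM : IsCoatom M) (hα : alphaCore M ≠ ⊥) {r : ℕ} [hr : Fact r.Prime]
    (hrσ : r ∉ sigma M) (hr1 : PRankLE r 1 M) {R : Subgroup G} (hRM : R ≤ M) (hR : Nat.card R = r)
    {s : ℕ} [Fact s.Prime] {U : Subgroup G} (hU : IsPGroup s U) (hUM : U ≤ alphaCore M) :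
    IsCyclic ↥(U ⊓ Subgroup.centralizer (R : Set G)) := by
  have := F.zgroup_centralizer hM hα hrσ hr1 hRM hR
  set Z := alphaCore M ⊓ Subgroup.centralizer (R : Set G)
  have hle : U ⊓ Subgroup.centralizer (R : Set G) ≤ Z := inf_le_inf_right _ hUM
  have : IsCyclic ↥((U ⊓ Subgroup.centralizer (R : Set G)).subgroupOf Z) := ((hU.to_le (inf_le_left : U ⊓ Subgroup.centralizer (R : Set G) ≤ U)).comap_of_injective
    Z.subtype Z.subtype_injective).isCyclic_of_isZGroup
  exact isCyclic_of_surjective (Subgroup.subgroupOfEquivOfLe hle).toMonoidHom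
    (Subgroup.subgroupOfEquivOfLe hle).surjective

theorem prankLE_of_sigma {p k : ℕ} [hp : Fact p.Prime] {L : Subgroup G} (hpL : p ∈ sigma L)
    (hk : PRankLE p k L) (N : Subgroup G) : PRankLE p k N := by
  by_contra h
  obtain ⟨E, -, hE, hc⟩ := OddSigma.exists_elementary h
  obtain ⟨g, hg⟩ := OddSigma.exists_conj_le_of_sigma hpL (Signalizer.isPGroup_of_elemAb hE)
  have h1 := prankLE_conj g hk
  exact OddSigma.not_prankLE_of_le hg hE
    (lt_of_lt_of_le (Nat.pow_lt_pow_right hp.out.one_lt (Nat.lt_succ_self k)) hc) h1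

theorem normalizer_le_of_cunique (hM : IsCoatom M) {p : ℕ} [Fact p.Prime] (hp : p ∈ sigma M)
    {X : Subgroup G} (hX : IsPGroup p X) (hX1 : X ≠ ⊥) (hXM : X ≤ M) (h : CUnique M X) :
    Subgroup.normalizer (X : Set G) ≤ M := by
  rw [(F.s1404 M hM p hp X hX hX1 hXM).2]
  exact sup_le inf_le_left h.1

/-- Frattini: some element normalising the Sylow subgroup `P` and a given Sylow `q`-subgroup of
`C(P)` over `D` moves `P`. -/
theorem exists_normalizer_not_centralizing {p q : ℕ} [hp : Fact p.Prime] [hq : Fact q.Prime]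
    {P : Subgroup G} (hP : IsPGroup p P) (hi : ¬ p ∣ P.index) (hP1 : P ≠ ⊥) {D : Subgroup G}
    (hD : IsPGroup q D) (hDC : D ≤ Subgroup.centralizer (P : Set G)) :
    ∃ Q : Subgroup G, IsPGroup q Q ∧ D ≤ Q ∧ Q ≤ Subgroup.centralizer (P : Set G) ∧
      ∃ e : G, e ∈ Subgroup.normalizer (P : Set G) ∧ e ∈ Subgroup.normalizer (Q : Set G) ∧
        e ∉ Subgroup.centralizer (P : Set G) := by
  set C := Subgroup.centralizer (P : Set G) with hC
  set N := Subgroup.normalizer (P : Set G) with hN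
  have hNs : Group.IsSolvable N :=
    OddSigma.proper_solvable F.hG (F.normalizer_ne_top hP1 (F.ne_top_of_isPGroup hP))
  obtain ⟨V, hV⟩ := OddMax.exists_compl (M := N) (N := P) Subgroup.le_normalizer le_rfl
    (coprime_of_not_dvd hP fun h =>
      hi (h.trans (Subgroup.relIndex_dvd_index_of_le Subgroup.le_normalizer)))
  obtain ⟨T, hT⟩ : ∃ T : Sylow p G, (T : Subgroup G) = P := ⟨hP.toSylow hi, rfl⟩
  have h1 := (F.s1411 p T V (by rw [hT]; exact OddMax.compl_symm hV)).1
  rw [hT] at h1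
  have hne : ¬ V ≤ C := fun h => hP1 (by
    rw [h1, Subgroup.commutator_eq_bot_iff_le_centralizer]
    exact Subgroup.le_centralizer_iff.1 h)
  obtain ⟨n, hnV, hnC⟩ := SetLike.not_le_iff_exists.1 hne
  have hnN : n ∈ N := hV.1 hnV
  obtain ⟨S, hS⟩ := (hD.comap_of_injective C.subtype C.subtype_injective).exists_le_sylow
  set Q := (S : Subgroup C).map C.subtype with hQ
  have hQC : Q ≤ C := Subgroup.map_subtype_le _
  have hnc : MulAut.conj n • C = C :=
    Coprime.conj_eq_of_mem_normalizer (normalizer_le_centralizer P hnN)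
  obtain ⟨c, hc, hcQ⟩ := exists_conj_sylow (S.isPGroup'.map _) hQC (OddMax.sylow_relIndex S)
    (Q := MulAut.conj n • Q) (OddMax.isPGroup_conj n (S.isPGroup'.map _))
    ((Solvable.conj_mono n hQC).trans hnc.le)
    (by rw [← hnc, OddMax.relIndex_conj]; exact OddMax.sylow_relIndex S)
  refine ⟨Q, S.isPGroup'.map _, fun x hx => ⟨⟨x, hDC hx⟩, hS hx, rfl⟩, hQC, c⁻¹ * n,
    N.mul_mem (N.inv_mem (Subgroup.centralizer_le_normalizer _ hc)) hnN,
    Coprime.mem_normalizer_of_conj_eq ?_, fun h => hnC ?_⟩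
  · rw [← Solvable.conj_conj, ← hcQ, Solvable.conj_inv_smul]
  · simpa using C.mul_mem hc h

/-- The pair argument of **Bender-Glauberman 12.15** against an elementary group of order `p ^ 2`
centralising a `σ(M)`-subgroup, `M` of `p`-rank one. -/
theorem pair_rank_contra (hM : IsCoatom M) {p : ℕ} [hp : Fact p.Prime] (hpσ : p ∉ sigma M)
    (hp1 : PRankLE p 1 M) (hpβ : ∀ N : Subgroup G, p ∉ beta N) {r : ℕ} [hr : Fact r.Prime]
    (hrσ : r ∈ sigma M) {Q : Subgroup G} (hQ : IsPGroup r Q) (hQ1 : Q ≠ ⊥) (hQM : Q ≤ M)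
    {X : Subgroup G} (hX : Nat.card X = p) (hXM : X ≤ M)
    (hXQ : X ≤ Subgroup.centralizer (Q : Set G))
    {A : Subgroup G} (hA : IsElementaryAbelian p A) (hAc : Nat.card A = p ^ 2)
    (hAQ : A ≤ Subgroup.centralizer (Q : Set G)) : False := by
  have hAM : ¬ A ≤ M := fun h => not_prankLE_one hA hAc h hp1
  obtain ⟨K, hK, hNK⟩ := F.exists_max_normalizer hQ hQ1
  have hCK : Subgroup.centralizer (Q : Set G) ≤ K := (Subgroup.centralizer_le_normalizer _).trans hNK
  have hne : K ≠ M := fun h => hAM (h ▸ hAQ.trans hCK)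
  have hAK : A ≤ K := hAQ.trans hCK
  have hD : p ∣ (M ⊓ K).relIndex K := by
    by_contra hd
    obtain ⟨n, -, hn⟩ := F.exists_conj_le_of_relIndex (F.solvable hK) (π := {p})
      (inf_le_right : M ⊓ K ≤ K) hAK
      (fun s hs hsd => eq_of_dvd_card_pGroup (Signalizer.isPGroup_of_elemAb hA) hs hsd)
      (fun s hs hsp => by rw [Set.mem_singleton_iff.1 hsp]; exact hd)
    refine not_prankLE_one (hA := ?_) (hc := by rw [Solvable.card_conj, hAc]) (hn.trans inf_le_left) hp1
    exact elementary_conj n hA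
  by_cases hrK : r ∈ sigma K
  · obtain ⟨S, hS, hSD, hQS, hSi⟩ := F.exists_sylow_inf hQ hQM (Subgroup.le_normalizer.trans hNK)
    obtain ⟨hNSM, hSiK⟩ := F.pair_sylow hM hrσ hNK hS hSD hQS hSi
    have hnc := F.pair_not_conj hM hrσ hQ hQ1 hQM hne hNK
    obtain ⟨-, hle, -⟩ := F.pair_le_sup hM hK hnc hrσ hrK hS (hSD.trans inf_le_right) hSiK hNSM
    have hKK : betaCore K ≤ K := OddTrans.piCoreOf_le _ _
    have hsup : (M ⊓ K) ⊔ betaCore K = K := le_antisymm (sup_le inf_le_right hKK) hle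
    refine hpβ K (OddTrans.piCoreOf_pi (beta K) K p hp.out (hD.trans ?_))
    refine Nat.dvd_of_mul_dvd_mul_left (k := Nat.card ↥(M ⊓ K)) Nat.card_pos ?_
    rw [OddMax.card_mul_relIndex inf_le_right]
    exact (dvd_of_eq (congrArg (fun L : Subgroup G => Nat.card L) hsup.symm)).trans
      (pair_relIndex.card_sup_dvd_mul
        (inf_le_right.trans (OddTrans.le_normalizer_piCoreOf _ _)))
  · obtain ⟨-, -, hc, -, -⟩ := F.pair_tau2 hM hK hrσ hQ hQ1 hQM hne hNK hrK
    rw [OddMax.compl_relIndex_right hc] at hD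
    have hXs : X ≤ (M ⊓ K) ⊓ sigmaCore K := le_inf (le_inf hXM (hXQ.trans hCK))
      (F.le_sigmaCore_of_pGroup hK ((F.s1350 K hK).1.2.1 p hp.out hD) (isPGroup_of_card_prime hX)
        (hXQ.trans hCK))
    rw [hc.2.2.1] at hXs
    exact ne_bot_of_card_prime hp.out hX (le_bot_iff.1 hXs)

end Facts

end Cfsg.Agent.OddPrime
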