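import Cfsg.Agent.Lib.Coprime.Generation
import Mathlib.GroupTheory.PGroup
import Mathlib.GroupTheory.SpecificGroups.Cyclic

/-!
A non-abelian subgroup `P` of order `p ^ 3` and exponent `p`: its centre `Z = P ⊓ C(P)` has order `p`
and contains the commutators (`cube_center`); generation by centralisers through the quotient by
a central subgroup (`le_of_central_pair`).
-/

set_option autoImplicit false

namespace Cfsg.Agent.OddPrime

variable {G : Type*} [Group G] [Finite G]

/-- The centre of a non-abelian group of order `p ^ 3`. -/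
theorem cube_center {p : ℕ} [hp : Fact p.Prime] {P : Subgroup G} (hc : Nat.card P = p ^ 3)
    (hna : ¬ IsMulCommutative P) :
    Nat.card ↥(P ⊓ Subgroup.centralizer (P : Set G)) = p ∧
      ∀ a ∈ P, ∀ b ∈ P, a * b * a⁻¹ * b⁻¹ ∈ P ⊓ Subgroup.centralizer (P : Set G) := by
  have hPp : IsPGroup p P := IsPGroup.of_card hc
  have : Nontrivial P := Finite.one_lt_card_iff_nontrivial.1 (by
    rw [hc]; exact Nat.one_lt_pow (by norm_num) hp.out.one_lt)
  have hmap : (Subgroup.center P).map P.subtype = P ⊓ Subgroup.centralizer (P : Set G) := by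
    ext x
    constructor
    · rintro ⟨z, hz, rfl⟩
      exact ⟨z.2, fun y hy => congrArg Subtype.val (Subgroup.mem_center_iff.1 hz ⟨y, hy⟩)⟩
    · rintro ⟨hx, hxc⟩
      exact ⟨⟨x, hx⟩, Subgroup.mem_center_iff.2 fun y => Subtype.ext (hxc y y.2), rfl⟩
  have hcard : Nat.card (Subgroup.center P) = p := by
    obtain ⟨j, hj⟩ := (hPp.to_subgroup (Subgroup.center P)).exists_card_eq
    have hnt := hPp.center_nontrivial
    have hj1 : j ≠ 0 := fun h => by
      rw [h, pow_zero] at hj
      exact (Subgroup.nontrivial_iff_ne_bot _).1 hnt (Subgroup.card_eq_one.1 hj)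
    have hmul := Subgroup.card_eq_card_quotient_mul_card_subgroup (Subgroup.center P)
    rw [hc, hj] at hmul
    have hj3 : j ≤ 3 := (Nat.pow_dvd_pow_iff_le_right hp.out.one_lt).1 (Dvd.intro_left _ hmul.symm)
    have hcyc : IsCyclic (P ⧸ Subgroup.center P) → False := fun h =>
      hna (isMulCommutative_of_isCyclic_quotient_center_self P)
    interval_cases j
    · exact absurd rfl hj1
    · rw [hj, pow_one]
    · exact (hcyc (isCyclic_of_prime_card (p := p) (Nat.eq_of_mul_eq_mul_right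
        (pow_pos hp.out.pos 2) (hmul.symm.trans (by ring))))).elim
    · have h1 : Nat.card (P ⧸ Subgroup.center P) = 1 :=
        Nat.eq_of_mul_eq_mul_right (pow_pos hp.out.pos 3) (hmul.symm.trans (one_mul _).symm)
      have : Subsingleton (P ⧸ Subgroup.center P) := (Nat.card_eq_one_iff_unique.1 h1).1
      exact (hcyc inferInstance).elim
  refine ⟨by rw [← hmap, Subgroup.card_map_of_injective P.subtype_injective, hcard], ?_⟩
  intro a ha b hb
  rw [← hmap]
  have hq : Nat.card (P ⧸ Subgroup.center P) = p ^ 2 := by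
    have hmul := Subgroup.card_eq_card_quotient_mul_card_subgroup (Subgroup.center P)
    rw [hc, hcard] at hmul
    exact Nat.eq_of_mul_eq_mul_right hp.out.pos (hmul.symm.trans (by ring))
  have hcomm := IsPGroup.isMulCommutative_of_card_eq_prime_sq hq
  refine ⟨⟨a, ha⟩ * ⟨b, hb⟩ * ⟨a, ha⟩⁻¹ * ⟨b, hb⟩⁻¹, ?_, rfl⟩
  rw [SetLike.mem_coe, ← QuotientGroup.eq_one_iff]
  simp only [QuotientGroup.mk_mul, QuotientGroup.mk_inv]
  rw [hcomm.is_comm.comm (QuotientGroup.mk (⟨a, ha⟩ : P)) (QuotientGroup.mk ⟨b, hb⟩)]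
  group

/-- Generation by centralisers for a pair commuting modulo a central subgroup `Z`. -/
theorem le_of_central_pair {K W Z : Subgroup G} {p : ℕ} (hp : p.Prime) {x y : G}
    (hK : x ∈ Subgroup.normalizer (K : Set G)) (hKy : y ∈ Subgroup.normalizer (K : Set G))
    (hxZ : x ∈ Subgroup.centralizer (Z : Set G)) (hyZ : y ∈ Subgroup.centralizer (Z : Set G))
    (hKZ : K ≤ Subgroup.centralizer (Z : Set G))
    (hxp : x ^ p = 1) (hyp : y ^ p = 1) (hc : x * y * x⁻¹ * y⁻¹ ∈ Z)
    (hpK : ¬ p ∣ Nat.card K) (hdisj : K ⊓ Z = ⊥) (hZW : Z ≤ W)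
    (hW : ∀ i j : ℕ, ¬(p ∣ i ∧ p ∣ j) → K ⊓ Subgroup.centralizer {x ^ i * y ^ j} ≤ W) :
    K ≤ W := by
  set H := Subgroup.centralizer (Z : Set G) with hH
  have hn : (Z.subgroupOf H).Normal := by
    refine ⟨fun n hn g => ?_⟩
    have : (g : G) * n * (g : G)⁻¹ = n := by
      rw [← g.2 n (Subgroup.mem_subgroupOf.1 hn), mul_inv_cancel_right]
    rw [Subgroup.mem_subgroupOf] at hn ⊢
    simpa [this] using hn
  set π := QuotientGroup.mk' (Z.subgroupOf H) with hπdef
  have hπ : ∀ u : H, π u = 1 ↔ (u : G) ∈ Z := fun u => by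
    rw [hπdef, QuotientGroup.mk'_apply, QuotientGroup.eq_one_iff, Subgroup.mem_subgroupOf]
  set x' : H := ⟨x, hxZ⟩
  set y' : H := ⟨y, hyZ⟩
  set a := π x'
  set b := π y'
  set K' := (K.subgroupOf H).map π with hK'
  set A : Subgroup (H ⧸ Z.subgroupOf H) := Subgroup.closure {a, b}
  have hab : a * b = b * a := by
    have h1 : π (x' * y' * x'⁻¹ * y'⁻¹) = 1 := (hπ _).2 hc
    simp only [map_mul, map_inv] at h1
    exact mul_inv_eq_iff_eq_mul.1 (mul_inv_eq_one.1 h1)
  have hA : IsMulCommutative A := Subgroup.isMulCommutative_closure fun u hu v hv => by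
    rcases hu with rfl | rfl <;> rcases hv with rfl | rfl <;> first | rfl | exact hab | exact hab.symm
  have hnorm : ∀ u : H, (u : G) ∈ Subgroup.normalizer (K : Set G) →
      π u ∈ Subgroup.normalizer (K' : Set (H ⧸ Z.subgroupOf H)) := fun u hu => by
    refine Coprime.mem_normalizer_of_forall ?_
    rintro _ ⟨v, hv, rfl⟩
    exact ⟨u * v * u⁻¹, (Subgroup.mem_normalizer_iff.1 hu _).1 hv, by simp⟩
  have hAK : A ≤ Subgroup.normalizer (K' : Set (H ⧸ Z.subgroupOf H)) :=
    (Subgroup.closure_le _).2 fun u hu => by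
      rcases hu with rfl | rfl
      · exact hnorm x' hK
      · exact hnorm y' hKy
  have hap : a ^ p = 1 := by
    rw [← map_pow, hπ]; simp [x', hxp, Z.one_mem]
  have hbp : b ^ p = 1 := by
    rw [← map_pow, hπ]; simp [y', hyp, Z.one_mem]
  have hAp : ∀ u ∈ A, u ^ p = 1 := fun u hu => by
    induction hu using Subgroup.closure_induction with
    | mem u hu =>
      rcases hu with rfl | rfl
      · exact hap
      · exact hbp
    | one => exact one_pow p
    | mul u v hu hv h1 h2 =>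
      have huv : Commute u v := congrArg Subtype.val (hA.is_comm.comm (⟨u, hu⟩ : A) ⟨v, hv⟩)
      rw [huv.mul_pow, h1, h2, one_mul]
    | inv u _ h => rw [inv_pow, h, inv_one]
  have hcardK : Nat.card K' ∣ Nat.card K :=
    (Subgroup.card_map_dvd _ _).trans (by rw [Nat.card_congr (Subgroup.subgroupOfEquivOfLe hKZ).toEquiv])
  have hcop : (Nat.card A).Coprime (Nat.card K') := Nat.coprime_of_dvd fun r hr h1 h2 => by
    have := Fact.mk hr
    obtain ⟨u, hu⟩ := exists_prime_orderOf_dvd_card' (G := A) r h1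
    have h3 : r ∣ p := hu ▸ orderOf_dvd_of_pow_eq_one (Subtype.ext (hAp u u.2))
    exact hpK ((Nat.prime_dvd_prime_iff_eq hr hp).1 h3 ▸ h2.trans hcardK)
  have hle : K' ≤ (W.subgroupOf H).map π := by
    refine Coprime.le_of_pair (A := A) hAK hcop hp (Subgroup.subset_closure (Set.mem_insert _ _))
      (Subgroup.subset_closure (Set.mem_insert_of_mem _ rfl))
      (by rw [hap]; exact Subgroup.one_mem _) (by rw [hbp]; exact Subgroup.one_mem _) ?_
    intro i j hij w hw
    obtain ⟨v, hv, rfl⟩ := hw.1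
    have hv2 : π (x' ^ i * y' ^ j) * π v = π v * π (x' ^ i * y' ^ j) := by
      rw [map_mul π (x' ^ i), map_pow, map_pow]
      exact ((Subgroup.mem_centralizer_singleton_iff.1 hw.2).symm)
    set u : H := x' ^ i * y' ^ j
    have h1 : (u : G) * v * (u : G)⁻¹ * (v : G)⁻¹ ∈ Z := by
      have h0 : π (u * v * u⁻¹ * v⁻¹) = 1 := by
        rw [map_mul, map_mul, map_mul, map_inv, map_inv, hv2]
        group
      exact (hπ _).1 h0
    have huK : (u : G) ∈ Subgroup.normalizer (K : Set G) :=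
      Subgroup.mul_mem _ (Subgroup.pow_mem _ hK i) (Subgroup.pow_mem _ hKy j)
    have h2 : (u : G) * v * (u : G)⁻¹ * (v : G)⁻¹ ∈ K :=
      K.mul_mem ((Subgroup.mem_normalizer_iff.1 huK _).1 hv) (K.inv_mem hv)
    have h3 : (u : G) * v = v * u :=
      mul_inv_eq_iff_eq_mul.1 (mul_inv_eq_one.1 (Subgroup.mem_bot.1 (hdisj ▸ ⟨h2, h1⟩)))
    refine ⟨v, hW i j hij ⟨hv, Subgroup.mem_centralizer_singleton_iff.2 ?_⟩, rfl⟩
    exact h3.symm
  intro k hk
  obtain ⟨w, hw, hwk⟩ := hle ⟨⟨k, hKZ hk⟩, hk, rfl⟩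
  have h0 : π (w⁻¹ * ⟨k, hKZ hk⟩) = 1 := by rw [map_mul, map_inv, hwk]; group
  have h1 : (w : G)⁻¹ * k ∈ W := hZW ((hπ _).1 h0)
  simpa using W.mul_mem hw h1

end Cfsg.Agent.OddPrime
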