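import Cfsg.Agent.Lib.PGroup.NormalAbelian
import Cfsg.Agent.Lib.PGroup.UniqueOrderP
import Cfsg.Agent.Lib.Signalizer.PAction

/-!
In a `p`-group of rank at least three (`p` odd) every element of order `p` of the derived group has a
centraliser of rank at least three (`exists_elementary_centralizer`).
-/

set_option autoImplicit false
set_option linter.unusedSectionVars false

open Subgroup
open scoped commutatorElement

namespace Cfsg.Agent.OddPrime

variable {H : Type*} [Group H] [Finite H] {p : ℕ} [hp : Fact p.Prime]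

theorem exists_normal_elementary_cube (hp2 : p ≠ 2) (hG : IsPGroup p H) {E : Subgroup H}
    (hE : ∀ a ∈ E, ∀ b ∈ E, a * b = b * a) (hEe : ∀ a ∈ E, a ^ p = 1) (hE3 : p ^ 3 ≤ Nat.card E) :
    ∃ K : Subgroup H, K.Normal ∧ (∀ a ∈ K, ∀ b ∈ K, a * b = b * a) ∧ (∀ a ∈ K, a ^ p = 1) ∧
      Nat.card K = p ^ 3 := by
  obtain ⟨A, -, hAn, hAc, hAe, hmax⟩ := PGroup.exists_maximal_normal_elementary (p := p)
    (⊥ : Subgroup H) inferInstance (fun a ha b hb => by simp_all) (fun a ha => by simp_all)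
  obtain ⟨a, ha⟩ := PGroup.exists_subgroup_card_eq_pow hG A
  rcases le_or_gt 3 a with ha3 | ha3
  · obtain ⟨K, hKn, hKA, hK⟩ := PGroup.exists_normal_le_card hG ha 3 ha3
    exact ⟨K, hKn, fun x hx y hy => hAc x (hKA hx) y (hKA hy), fun x hx => hAe x (hKA hx), hK⟩
  exfalso
  set C := centralizer (A : Set H)
  have h1 : E ⊓ C ≤ E ⊓ A := le_inf inf_le_left fun x hx =>
    PGroup.mem_of_maximal_normal_elementary hG hp2 hAc hAe hmax hx.2 (hEe x hx.1)
  have hb := (PGroup.card_le_card_inf_mul_index E C).trans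
    (Nat.mul_le_mul (card_le_of_le h1) (PGroup.index_centralizer_le hG a A hAn ha))
  have hlt : Nat.card (E ⊓ A : Subgroup H) < Nat.card A ∨ A ≤ E := by
    rcases (card_le_of_le (inf_le_right : E ⊓ A ≤ A)).lt_or_eq with h | h
    · exact Or.inl h
    · exact Or.inr ((Subgroup.eq_of_le_of_card_ge inf_le_right h.ge).ge.trans inf_le_left)
  have hpp := hp.out.one_lt
  rcases hlt with h | h
  · obtain ⟨w, hw⟩ := PGroup.exists_subgroup_card_eq_pow hG (E ⊓ A)
    rw [hw, ha, Nat.pow_lt_pow_iff_right hpp] at h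
    rw [hw, ← pow_add] at hb
    have := (Nat.pow_le_pow_iff_right hpp).1 (hE3.trans hb)
    interval_cases a <;> simp at this <;> omega
  · have hEC : E ≤ C := fun e he => mem_centralizer_iff.2 fun y hy => hE y (h hy) e he
    have h2 : E ≤ A := fun e he => (h1 ⟨he, hEC he⟩).2
    have := (Nat.pow_le_pow_iff_right hpp).1 (hE3.trans ((card_le_of_le h2).trans ha.le))
    omega

/-- An element of order `p` of the derived subgroup centralises an elementary subgroup of order at
least `p ^ 3`. -/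
theorem exists_elementary_centralizer (hp2 : p ≠ 2) (hG : IsPGroup p H) {E : Subgroup H}
    (hE : ∀ a ∈ E, ∀ b ∈ E, a * b = b * a) (hEe : ∀ a ∈ E, a ^ p = 1) (hE3 : p ^ 3 ≤ Nat.card E)
    {x : H} (hx : x ∈ commutator H) (hxp : x ^ p = 1) :
    ∃ F : Subgroup H, F ≤ centralizer ({x} : Set H) ∧ IsMulCommutative F ∧ (∀ a ∈ F, a ^ p = 1) ∧
      p ^ 3 ≤ Nat.card F := by
  obtain ⟨K, hKn, hKc, hKe, hK⟩ := exists_normal_elementary_cube hp2 hG hE hEe hE3
  obtain ⟨K2, hK2n, hK2K, hK2⟩ := PGroup.exists_normal_le_card hG hK 2 (by norm_num)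
  obtain ⟨K1, hK1n, hK1K, hK1⟩ := PGroup.exists_normal_le_card hG hK2 1 (by norm_num)
  have hpp := hp.out.one_lt
  have hK2lt : K2 < K := lt_of_le_of_ne hK2K fun h => by
    rw [h, hK] at hK2; exact absurd (Nat.pow_right_injective hp.out.two_le hK2) (by norm_num)
  have hK1lt : K1 < K2 := lt_of_le_of_ne hK1K fun h => by
    rw [h, hK2] at hK1; exact absurd (Nat.pow_right_injective hp.out.two_le hK1) (by norm_num)
  have hstep : ∀ (g : H) (e : H), e ∈ K → ⁅g, e⁆ ∈ K2 := fun g e he =>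
    PGroup.commutator_mem_of_card hG hK2lt (by rw [hK, hK2, ← pow_succ']) he g
  have hstep' : ∀ (g : H) (e : H), e ∈ K2 → ⁅g, e⁆ ∈ K1 := fun g e he =>
    PGroup.commutator_mem_of_card hG hK1lt (by rw [hK2, hK1, ← pow_succ']) he g
  let S : Subgroup H :=
    { carrier := {g | ∀ e ∈ K, ⁅g, e⁆ ∈ K1}
      one_mem' := fun e _ => by simp [commutatorElement_def]
      mul_mem' := fun {g h} hg hh e he => by
        have : ⁅g * h, e⁆ = (g * ⁅h, e⁆ * g⁻¹) * ⁅g, e⁆ := by
          simp only [commutatorElement_def]; group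
        rw [this]
        exact K1.mul_mem (hK1n.conj_mem _ (hh e he) g) (hg e he)
      inv_mem' := fun {g} hg e he => by
        have : ⁅g⁻¹, e⁆ = g⁻¹ * ⁅g, e⁆⁻¹ * g := by simp only [commutatorElement_def]; group
        rw [this]
        simpa using hK1n.conj_mem _ (K1.inv_mem (hg e he)) g⁻¹ }
  have hxS : x ∈ S := by
    refine (?_ : commutator H ≤ S) hx
    rw [commutator_eq_closure, closure_le]
    rintro _ ⟨g, h, rfl⟩ e he
    -- for every `e'`, with `v = h g e (h g)⁻¹`, `⁅⁅g, h⁆, v⁆ = u v⁻¹`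
    have key : ∀ e' ∈ K, g * h * e' * (g * h)⁻¹ * (h * g * e' * (h * g)⁻¹)⁻¹ ∈ K1 → 
        ⁅⁅g, h⁆, h * g * e' * (h * g)⁻¹⁆ ∈ K1 := by
      intro e' he' hm
      convert hm using 1
      simp only [commutatorElement_def]; group
    -- transport to `e`
    set e0 := (h * g)⁻¹ * e * (h * g) with he0
    have he0K : e0 ∈ K := by simpa [he0] using hKn.conj_mem e he (h * g)⁻¹
    have hm0 : g * h * e0 * (g * h)⁻¹ * (h * g * e0 * (h * g)⁻¹)⁻¹ ∈ K1 := by
      set a0 := ⁅h, e0⁆ with hha0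
      set b0 := ⁅g, e0⁆ with hgb0
      have haK0 : a0 ∈ K2 := hstep h e0 he0K
      have hbK0 : b0 ∈ K2 := hstep g e0 he0K
      have hu0 : g * h * e0 * (g * h)⁻¹ = (⁅g, a0⁆ * a0) * (b0 * e0) := by
        simp only [hha0, hgb0, commutatorElement_def]; group
      have hv0 : h * g * e0 * (h * g)⁻¹ = (⁅h, b0⁆ * b0) * (a0 * e0) := by
        simp only [hha0, hgb0, commutatorElement_def]; group
      have hab : Commute a0 b0 := hKc a0 (hK2K haK0) b0 (hK2K hbK0)
      have : ⁅g, a0⁆ * a0 * (b0 * e0) * (⁅h, b0⁆ * b0 * (a0 * e0))⁻¹ = ⁅g, a0⁆ * ⁅h, b0⁆⁻¹ := by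
        calc ⁅g, a0⁆ * a0 * (b0 * e0) * (⁅h, b0⁆ * b0 * (a0 * e0))⁻¹
            = ⁅g, a0⁆ * (a0 * b0 * (a0⁻¹ * b0⁻¹)) * ⁅h, b0⁆⁻¹ := by group
          _ = ⁅g, a0⁆ * ⁅h, b0⁆⁻¹ := by rw [hab.eq]; group
      rw [hu0, hv0, this]
      exact K1.mul_mem (hstep' g a0 haK0) (K1.inv_mem (hstep' h b0 hbK0))
    have := key e0 he0K hm0
    rwa [show h * g * e0 * (h * g)⁻¹ = e by rw [he0]; group] at this
  let φ : K →* H :=
    { toFun := fun e => ⁅x, (e : H)⁆
      map_one' := by simp [commutatorElement_def]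
      map_mul' := fun e f => by
        have h1 : ⁅x, ((e * f : K) : H)⁆ = ⁅x, (e : H)⁆ * ((e : H) * ⁅x, (f : H)⁆ * (e : H)⁻¹) := by
          simp only [commutatorElement_def, Subgroup.coe_mul]; group
        rw [h1, hKc e e.2 _ (hK2K (hK1K (hxS f f.2)))]
        group }
  have hker : p ^ 2 ≤ Nat.card φ.ker := by
    have h1 := φ.ker.card_mul_index
    rw [index_ker, hK] at h1
    have h2 : Nat.card φ.range ≤ p := by
      rw [← pow_one p, ← hK1]
      refine card_le_of_le ?_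
      rintro _ ⟨e, rfl⟩
      exact hxS e e.2
    refine Nat.le_of_mul_le_mul_right ?_ hp.out.pos
    rw [← pow_succ, ← h1]
    exact Nat.mul_le_mul le_rfl h2
  by_cases hxK : x ∈ K
  · refine ⟨K, fun k hk => mem_centralizer_singleton_iff.2 (hKc k hk x hxK), ⟨⟨fun a b => ?_⟩⟩,
      hKe, hK.ge⟩
    exact Subtype.ext (hKc a a.2 b b.2)
  set D := φ.ker.map K.subtype with hD
  have hDx : D ≤ centralizer ({x} : Set H) := by
    rintro _ ⟨e, he, rfl⟩
    have h0 : ⁅x, (e : H)⁆ = 1 := MonoidHom.mem_ker.1 he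
    exact mem_centralizer_singleton_iff.2 (commutatorElement_eq_one_iff_mul_comm.1 h0).symm
  have hDK : D ≤ K := map_subtype_le _
  have hgen : D ⊔ zpowers x = closure ((D : Set H) ∪ {x}) := by
    rw [Subgroup.closure_union, Subgroup.closure_eq, zpowers_eq_closure]
  have hcomm : IsMulCommutative ↥(D ⊔ zpowers x) := by
    rw [hgen]
    refine isMulCommutative_closure ?_
    rintro a (ha | rfl) b (hb | rfl)
    · exact hKc a (hDK ha) b (hDK hb)
    · exact mem_centralizer_singleton_iff.1 (hDx ha)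
    · exact (mem_centralizer_singleton_iff.1 (hDx hb)).symm
    · rfl
  refine ⟨D ⊔ zpowers x, sup_le hDx (zpowers_le.2 (mem_centralizer_singleton_iff.2 rfl)), hcomm,
    fun a ha => ?_, ?_⟩
  · have : D ⊔ zpowers x ≤ D ⊔ zpowers x := le_rfl
    rw [hgen] at ha
    induction ha using closure_induction with
    | mem y hy =>
      rcases hy with hy | hy
      · exact hKe y (hDK hy)
      · rw [Set.mem_singleton_iff.mp hy]; exact hxp
    | one => exact one_pow p
    | mul a b ha hb h1 h2 =>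
      rw [← hgen] at ha hb
      have : Commute a b := congrArg Subtype.val (hcomm.is_comm.comm (⟨a, ha⟩ : ↥(D ⊔ zpowers x)) ⟨b, hb⟩)
      rw [this.mul_pow, h1, h2, one_mul]
    | inv a _ h => rw [inv_pow, h, inv_one]
  · obtain ⟨j, hj⟩ := PGroup.exists_subgroup_card_eq_pow hG (D ⊔ zpowers x)
    have hlt : Nat.card D < Nat.card ↥(D ⊔ zpowers x) :=
      (card_le_of_le le_sup_left).lt_of_ne fun h => hxK (hDK
        ((Subgroup.eq_of_le_of_card_ge le_sup_left h.ge).symm ▸ mem_sup_right (mem_zpowers x) : x ∈ D))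
    rw [hj] at hlt ⊢
    rw [hD, card_map_of_injective K.subtype_injective] at hlt
    exact Nat.pow_le_pow_right hp.out.pos ((Nat.pow_lt_pow_iff_right hpp).1 (hker.trans_lt hlt))

end Cfsg.Agent.OddPrime
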