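import Cfsg.Agent.Lib.OddPrime.Basic
import Cfsg.Agent.Lib.FPF.Chief
import Mathlib.GroupTheory.SpecificGroups.ZGroup

/-!
Two facts on `M`: `fitting_split` (the `σ'`-part of `F(M)` is cyclic, its primes are in `τ₂`,
`F(M) = F(M_σ) × O_{σ'}(F(M))`) and `omega_facts` (primes outside `σ(M) ∪ κ(M)`).
-/

set_option autoImplicit false
set_option linter.unusedVariables false
set_option linter.unusedSectionVars false

universe u

namespace Cfsg.Agent.OddPrime

open scoped Pointwise IsMulCommutative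

variable {G : Type u} [Group G] [Finite G]

/-- The subgroup of elements of order dividing `n` of an abelian subgroup. -/
def omegaAb (n : ℕ) (Z : Subgroup G) (hZ : IsMulCommutative Z) : Subgroup G where
  carrier := {x | x ∈ Z ∧ x ^ n = 1}
  one_mem' := ⟨Z.one_mem, one_pow n⟩
  mul_mem' := fun {a b} ha hb => ⟨Z.mul_mem ha.1 hb.1, by
    have hab : Commute a b :=
      congrArg (fun t : Z => (t : G)) (hZ.is_comm.comm ⟨a, ha.1⟩ ⟨b, hb.1⟩)
    rw [hab.mul_pow, ha.2, hb.2, one_mul]⟩
  inv_mem' := fun {a} ha => ⟨Z.inv_mem ha.1, by rw [inv_pow, ha.2, inv_one]⟩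

theorem normalizer_le_omegaAb (n : ℕ) (Z : Subgroup G) (hZ : IsMulCommutative Z) :
    Subgroup.normalizer (Z : Set G) ≤ Subgroup.normalizer (omegaAb n Z hZ : Set G) := fun g hg =>
  Coprime.mem_normalizer_of_forall fun x hx =>
    ⟨(Subgroup.mem_normalizer_iff.1 hg x).1 hx.1, by rw [conj_pow, hx.2, mul_one, mul_inv_cancel]⟩

theorem omegaAb_elementary (p : ℕ) (Z : Subgroup G) (hZ : IsMulCommutative Z) :
    IsElementaryAbelian p (omegaAb p Z hZ) :=
  ⟨⟨⟨fun a b => Subtype.ext (congrArg (fun t : Z => (t : G))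
    (hZ.is_comm.comm ⟨a, a.2.1⟩ ⟨b, b.2.1⟩))⟩⟩, fun a ha => ha.2⟩

namespace Facts

variable (F : Facts G) {M : Subgroup G}
include F

theorem fitting_split (hM : IsCoatom M) :
    IsCyclic ↥(piCoreOf {q | q.Prime ∧ q ∉ sigma M} (fittingOf M)) ∧
      (∀ p : ℕ, p.Prime →
        p ∣ Nat.card ↥(piCoreOf {q | q.Prime ∧ q ∉ sigma M} (fittingOf M)) → p ∈ tau2 M) ∧
      fittingOf M = fittingOf (sigmaCore M) ⊔ piCoreOf {q | q.Prime ∧ q ∉ sigma M} (fittingOf M) := by
  set π : Set ℕ := {q | q.Prime ∧ q ∉ sigma M}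
  set Z := piCoreOf π (fittingOf M) with hZdef
  have hFM : fittingOf M ≤ M := OddMax.fittingOf_le M
  have hFn := OddMax.fittingOf_nilpotent M
  have hZF : Z ≤ fittingOf M := OddTrans.piCoreOf_le _ _
  have hZM : Z ≤ M := hZF.trans hFM
  have hMZ : M ≤ Subgroup.normalizer (Z : Set G) := fun m hm =>
    OddTrans.mem_normalizer_piCoreOf (OddMax.le_normalizer_fittingOf M hm)
  have hZσ : ∀ p : ℕ, p.Prime → p ∣ Nat.card Z → p ∉ sigma M := fun p hp hd =>
    (OddTrans.piCoreOf_pi π _ p hp hd).2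
  obtain ⟨E0, hE0⟩ := F.exists_compl hM
  have hZnil : Group.IsNilpotent Z := Cores.isNilpotent_of_le hZF hFn
  have hZab : IsMulCommutative Z := (F.s1420 M hM E0 hE0).1 Z hZM hZnil hZσ
  have hcyc : ∀ p : ℕ, p.Prime → p ∣ Nat.card Z →
      Nat.card (omegaAb p Z hZab) = p ∧ p ∈ tau2 M := by
    intro p hp hd
    have := Fact.mk hp
    have hpσ := hZσ p hp hd
    set A := omegaAb p Z hZab
    have hA := omegaAb_elementary p Z hZab
    have hAM : A ≤ M := fun x hx => hZM hx.1
    have hMA : M ≤ Subgroup.normalizer (A : Set G) := hMZ.trans (normalizer_le_omegaAb p Z hZab)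
    obtain ⟨x, hx⟩ := exists_prime_orderOf_dvd_card' (G := Z) p hd
    have hxA : (x : G) ∈ A := ⟨x.2, by rw [← hx, ← Subgroup.orderOf_coe]; exact pow_orderOf_eq_one _⟩
    have hA1 : A ≠ ⊥ := fun h => by
      rw [h, Subgroup.mem_bot] at hxA
      rw [← Subgroup.orderOf_coe, hxA, orderOf_one] at hx
      exact hp.one_lt.ne hx
    have hN : Subgroup.normalizer (A : Set G) = M := OddMax.normalizer_eq F.hG hM hA1 hAM hMA
    obtain ⟨j, hj⟩ := (Signalizer.isPGroup_of_elemAb hA).exists_card_eq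
    have hj2 : j ≤ 2 := by
      by_contra h
      refine OddSigma.not_prankLE_of_le hAM hA ?_ (F.prankLE_two hM hp hpσ)
      rw [hj]; exact Nat.pow_lt_pow_right hp.one_lt (by omega)
    have hj0 : j ≠ 0 := fun h => hA1 (Subgroup.card_eq_one.1 (by rw [hj, h, pow_zero]))
    interval_cases j
    · exact absurd rfl hj0
    · rw [pow_one] at hj
      exact ⟨hj, by_contra fun hτ => F.not_normalizer_le hM hpσ hτ hj hN.le⟩
    · exfalso
      have hτ : p ∈ tau2 M := F.mem_tau2 hM hp hpσ fun h1 => by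
        refine OddSigma.not_prankLE_of_le hAM hA ?_ h1
        rw [hj, pow_one]; nlinarith [hp.two_le]
      obtain ⟨E, hE, hAE⟩ := F.exists_compl_ge hM hAM fun r hr hrd =>
        eq_of_dvd_card_pGroup (Signalizer.isPGroup_of_elemAb hA) hr hrd ▸ hpσ
      exact ((F.s1418 M hM E hE p hτ A ⟨hAE, hA, hj⟩).2.1.2.2) hN.le
  refine ⟨?_, fun p hp hd => (hcyc p hp hd).2, ?_⟩
  · have hZG : IsZGroup Z := ⟨fun p hp S => by
      have := Fact.mk hp
      by_cases hS : (S : Subgroup Z) = ⊥
      · rw [show IsCyclic S ↔ IsCyclic (S : Subgroup Z) from Iff.rfl, hS]; infer_instance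
      have hd : p ∣ Nat.card Z := (dvd_card_of_ne_bot S.isPGroup' hS).trans
        (Subgroup.card_subgroup_dvd_card _)
      refine Isolated.isCyclic_of_rank_le_one (F.prime_ne_two hd) ?_ _ S.isPGroup'
      intro A hA hA'
      have hle : A.map Z.subtype ≤ omegaAb p Z hZab := by
        rintro _ ⟨a, ha, rfl⟩
        exact ⟨a.2, by rw [← map_pow, hA' a ha, map_one]⟩
      have := Subgroup.card_le_of_le hle
      rwa [Subgroup.card_map_of_injective Z.subtype_injective, (hcyc p hp hd).1, ← pow_one p] at this⟩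
    infer_instance
  · refine le_antisymm ?_ (sup_le ?_ hZF)
    · set W := fittingOf (sigmaCore M) ⊔ Z
      refine (inf_eq_left.1 (Subgroup.eq_of_le_of_card_ge (inf_le_left : fittingOf M ⊓ W ≤ fittingOf M) ?_))
      refine Nat.le_of_dvd Nat.card_pos ?_
      rw [Nat.dvd_iff_prime_pow_dvd_dvd]
      intro p n hp hn
      have := Fact.mk hp
      obtain ⟨S⟩ : Nonempty (Sylow p (fittingOf M)) := inferInstance
      set T := (S : Subgroup (fittingOf M)).map (fittingOf M).subtype with hT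
      have hTF : T ≤ fittingOf M := Subgroup.map_subtype_le _
      have hTp : IsPGroup p T := S.isPGroup'.map _
      have hMT : M ≤ Subgroup.normalizer (T : Set G) := (OddMax.le_normalizer_fittingOf M).trans
        (OddMax.normalizer_le_normalizer_sylow hFn S)
      have hTW : T ≤ W := by
        by_cases hpσ : p ∈ sigma M
        · have hTs := F.le_sigmaCore_of_pGroup hM hpσ hTp (hTF.trans hFM)
          exact (OddMax.le_fittingOf hTs ((OddMax.sigmaCore_le M).trans hMT) hTp.isNilpotent).trans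
            le_sup_left
        · have h1 : T ≤ Z := OddTrans.le_piCoreOf hTF (hFM.trans hMT)
            fun r hr hrd => show r.Prime ∧ r ∉ sigma M from
              ⟨hr, eq_of_dvd_card_pGroup hTp hr hrd ▸ hpσ⟩
          exact h1.trans le_sup_right
      refine dvd_trans ?_ (Subgroup.card_dvd_of_le (le_inf hTF hTW))
      rw [hT, Subgroup.card_map_of_injective (fittingOf M).subtype_injective, S.card_eq_multiplicity]
      exact pow_dvd_pow p ((Nat.Prime.pow_dvd_iff_le_factorization hp Nat.card_pos.ne').1 hn)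
    · refine OddMax.le_fittingOf ((OddMax.fittingOf_le _).trans (OddMax.sigmaCore_le M)) ?_
        (OddMax.fittingOf_nilpotent _)
      exact (OddMax.le_normalizer_sigmaCore M).trans
        (Cores.normalizer_le_normalizer_map (fittingSubgroup ↥(sigmaCore M)) )

theorem omega_facts (hM : IsCoatom M) {p : ℕ} [hp : Fact p.Prime] (hpM : p ∣ Nat.card M)
    (hps : p ∉ sigma M) (hpk : p ∉ kappa M) (S : Sylow p M) :
    Nat.card ↥(Subgroup.closure {x : G | x ∈ (S : Subgroup M).map M.subtype ∧ x ^ p = 1}) ≤ p ^ 2 ∧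
      sigmaCore M ⊓ Subgroup.centralizer
          ((Subgroup.closure {x : G | x ∈ (S : Subgroup M).map M.subtype ∧ x ^ p = 1} : Subgroup G) : Set G) = ⊥ ∧
      Group.IsNilpotent (sigmaCore M) := by
  set T := (S : Subgroup M).map M.subtype with hT
  set Ω := Subgroup.closure {x : G | x ∈ T ∧ x ^ p = 1} with hΩ
  have hTM : T ≤ M := Subgroup.map_subtype_le _
  have hTp : IsPGroup p T := S.isPGroup'.map _
  by_cases hτ : p ∈ tau2 M
  · obtain ⟨A, hAT, hA, hAc⟩ := OddSigma.exists_elementary (p := p) (k := 1) (H := T)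
      fun h => hτ.2.2.2 (OddSigma.prankLE_of_sylow S h)
    have hAM := hAT.trans hTM
    have hAc2 : Nat.card A = p ^ 2 := le_antisymm
      (not_lt.1 fun h => OddSigma.not_prankLE_of_le hAM hA h hτ.2.2.1) hAc
    obtain ⟨hnil, hS, -, hCA, -, -⟩ := F.s1417 M hM p hτ A ⟨hAM, hA, hAc2⟩
    obtain ⟨hiff, -⟩ := (hS S).2 hAT
    have hΩA : Ω = A := by
      refine le_antisymm ((Subgroup.closure_le _).2 fun x hx => (hiff x hx.1).1 hx.2) fun a ha => ?_
      exact Subgroup.subset_closure ⟨hAT ha, hA.2 a ha⟩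
    rw [hΩA]
    exact ⟨hAc2.le, hCA, hnil⟩
  have hTc : IsCyclic T := F.isCyclic_pSubgroup hM hps hτ hTp hTM
  have hΩT : Ω ≤ T := (Subgroup.closure_le _).2 fun x hx => hx.1
  have hTc' : IsMulCommutative T := IsCyclic.isMulCommutative
  have hΩo : Ω ≤ omegaAb p T hTc' := (Subgroup.closure_le _).2 fun x hx => hx
  have : IsCyclic Ω := Subgroup.isCyclic_of_le hΩT
  obtain ⟨w, hw⟩ := IsCyclic.exists_ofOrder_eq_natCard (α := Ω)
  have hΩc : Nat.card Ω ∣ p := hw ▸ orderOf_dvd_of_pow_eq_one (Subtype.ext (hΩo w.2).2)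
  have hS1 : T ≠ ⊥ := fun h => OddMax.sylow_relIndex S (by
    rw [← hT, h, Subgroup.relIndex_bot_left]; exact hpM)
  obtain ⟨x, hx⟩ := exists_prime_orderOf_dvd_card' p (dvd_card_of_ne_bot hTp hS1)
  have hxo : orderOf (x : G) = p := by rw [Subgroup.orderOf_coe, hx]
  have hxΩ : (x : G) ∈ Ω := Subgroup.subset_closure
    ⟨x.2, by rw [← hxo]; exact pow_orderOf_eq_one _⟩
  -- no nonidentity element of `T` centralises a nonidentity element of `M_σ`
  have hfree : ∀ t ∈ T, t ≠ 1 → ∀ y ∈ sigmaCore M, t * y = y * t → y = 1 := by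
    intro t ht ht1 y hy hty
    by_contra hy1
    apply hpk
    refine ⟨hp.out, hpM, hps, fun P => ⟨?_, ?_⟩⟩
    · have hc := F.isCyclic_pSubgroup hM hps hτ (P.isPGroup'.map M.subtype) (Subgroup.map_subtype_le _)
      exact isCyclic_of_injective
        ((Subgroup.equivMapOfInjective (P : Subgroup M) M.subtype M.subtype_injective).toMonoidHom)
        (Subgroup.equivMapOfInjective (P : Subgroup M) M.subtype M.subtype_injective).injective
    · obtain ⟨m, hm⟩ := MulAction.exists_smul_eq M S P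
      obtain ⟨t', ht', rfl⟩ := ht
      refine ⟨m * t' * m⁻¹, ?_, ?_, m * y * (m : G)⁻¹,
        (Subgroup.mem_normalizer_iff.1 (OddMax.le_normalizer_sigmaCore M m.2) y).1 hy, ?_, ?_⟩
      · rw [← hm]; exact ⟨t', ht', rfl⟩
      · intro h
        rw [mul_inv_eq_one, mul_eq_left] at h
        exact ht1 (by rw [h]; rfl)
      · intro h
        rw [mul_inv_eq_one, mul_eq_left] at h
        exact hy1 h
      · have : (t' : G) * y = y * t' := hty
        simp only [Subgroup.coe_mul, InvMemClass.coe_inv]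
        calc (m : G) * t' * (m : G)⁻¹ * (m * y * (m : G)⁻¹) = m * ((t' : G) * y) * (m : G)⁻¹ := by group
          _ = m * (y * t') * (m : G)⁻¹ := by rw [this]
          _ = m * y * (m : G)⁻¹ * (m * t' * (m : G)⁻¹) := by group
  have hxne : (x : G) ≠ 1 := fun h => by rw [h, orderOf_one] at hxo; exact hp.out.one_lt.ne hxo
  refine ⟨(Nat.le_of_dvd hp.out.pos hΩc).trans (Nat.le_self_pow (by norm_num) p), ?_, ?_⟩
  · rw [eq_bot_iff]
    intro y hy
    exact Subgroup.mem_bot.2 (hfree x x.2 hxne y hy.1 (hy.2 x hxΩ))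
  · have hxM : Subgroup.zpowers (x : G) ≤ M := Subgroup.zpowers_le.2 (hTM x.2)
    refine FPF.isNilpotent_of_fpf_prime (p := p) (A := Subgroup.zpowers (x : G))
      (by rw [Nat.card_zpowers, hxo]) (Nat.card (sigmaCore M)) (sigmaCore M) le_rfl
      (Coprime.isSolvable_of_le (OddMax.sigmaCore_le M) (F.solvable hM))
      ((sigmaCore M).normalizerMonoidHom.comp
        (Subgroup.inclusion (hxM.trans (OddMax.le_normalizer_sigmaCore M)))) fun y hy => ?_
    have h1 := congrArg Subtype.val (hy ⟨x, Subgroup.mem_zpowers _⟩)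
    exact Subtype.ext (hfree x x.2 hxne y y.2 (mul_inv_eq_iff_eq_mul.1 h1))

end Facts

end Cfsg.Agent.OddPrime
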