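import Cfsg.Agent.Lib.OddPrime.Basic
import Cfsg.Agent.Lib.OddPrime.CubeGroup

/-!
Bender-Glauberman 12.13: a non-abelian `p`-subgroup lies in a unique maximal subgroup
(`Facts.unique_of_nonabelian`), and its corollary `Facts.isMulCommutative_of_two`: a `p`-subgroup of
two different maximal subgroups is abelian.
-/

set_option autoImplicit false
set_option linter.unusedVariables false
set_option linter.unusedSectionVars false

universe u

namespace Cfsg.Agent.OddPrime

open scoped Pointwise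

variable {G : Type u} [Group G] [Finite G]

/-- `L` is the only maximal subgroup over `N(X)`. -/
def NUnique (L X : Subgroup G) : Prop :=
  Subgroup.normalizer (X : Set G) ≤ L ∧
    ∀ L' : Subgroup G, IsCoatom L' → Subgroup.normalizer (X : Set G) ≤ L' → L' = L

theorem NUnique.eq {L L' X : Subgroup G} (h : NUnique L X) (hL' : IsCoatom L') (h' : NUnique L' X) :
    L' = L := h.2 L' hL' h'.1

theorem NUnique.conj {L X : Subgroup G} (h : NUnique L X) {g : G} (hg : g ∈ L) :
    NUnique L (MulAut.conj g • X) := by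
  refine ⟨?_, fun L' hL' hle => ?_⟩
  · rw [OddMax.normalizer_conj, ← Solvable.conj_eq_self hg]
    exact Solvable.conj_mono g h.1
  · rw [OddMax.normalizer_conj] at hle
    have h1 := Solvable.conj_mono g⁻¹ hle
    rw [Solvable.conj_inv_smul] at h1
    have h2 := h.2 _ (OddSigma.isCoatom_conj hL' g⁻¹) h1
    rw [← Solvable.conj_eq_self hg, ← h2, Solvable.conj_conj, mul_inv_cancel,
      Solvable.conj_one_smul]

namespace Facts

variable (F : Facts G)
include F

theorem unique_of_nonabelian {p : ℕ} [hpp : Fact p.Prime] {P : Subgroup G} (hP : IsPGroup p P)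
    (hna : ¬ IsMulCommutative P) : InUniqueMaximal P := by
  have hp : p.Prime := hpp.out
  obtain ⟨M, hM, hPM⟩ := OddSigma.exists_coatom (F.ne_top_of_isPGroup hP)
  refine ⟨M, ⟨hM, hPM⟩, fun H hHH => ?_⟩
  obtain ⟨hH, hPH⟩ := hHH
  by_contra hne
  -- a Sylow subgroup `T` of `M ⊓ H` over `P`
  obtain ⟨T0, hT0⟩ := (hP.comap_of_injective (M ⊓ H).subtype
    (M ⊓ H).subtype_injective).exists_le_sylow
  set T := (T0 : Subgroup ↥(M ⊓ H)).map (M ⊓ H).subtype with hT
  have hTp : IsPGroup p T := T0.isPGroup'.map _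
  have hPT : P ≤ T := fun x hx => ⟨⟨x, hPM hx, hPH hx⟩, hT0 hx, rfl⟩
  have hTMH : T ≤ M ⊓ H := Subgroup.map_subtype_le _
  have hTi : ¬ p ∣ T.relIndex (M ⊓ H) := OddMax.sylow_relIndex T0
  have hmono : ∀ {A B : Subgroup G}, A ≤ B → IsMulCommutative B → IsMulCommutative A :=
    fun {A B} hAB hB => ⟨⟨fun a b => Subtype.ext (congrArg (fun t : B => (t : G))
      (hB.is_comm.comm ⟨a, hAB a.2⟩ ⟨b, hAB b.2⟩))⟩⟩
  have hTna : ¬ IsMulCommutative T := fun h => hna (hmono hPT h)
  have hT1 : T ≠ ⊥ := fun h => hTna (by rw [h]; infer_instance)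
  have hσ : ∀ L : Subgroup G, IsCoatom L → T ≤ L → p ∈ sigma L := by
    intro L hL hTL
    by_contra h
    obtain ⟨E, hE⟩ := F.exists_compl hL
    exact hTna ((F.s1420 L hL E hE).1 T hTL hTp.isNilpotent fun q hq hd =>
      eq_of_dvd_card_pGroup hTp hq hd ▸ h)
  have hMσ := hσ M hM (hTMH.trans inf_le_left)
  have hHσ := hσ H hH (hTMH.trans inf_le_right)
  have hTnc : ¬ IsCyclic T := fun h => hTna IsCyclic.isMulCommutative
  have hNT : ∀ L : Subgroup G, IsCoatom L → T ≤ L → Subgroup.normalizer (T : Set G) ≤ L := by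
    intro L hL hTL
    obtain ⟨E, hE⟩ := F.exists_compl hL
    exact (F.s1420 L hL E hE).2.2.1 p T (hσ L hL hTL) hTp hTL hTnc
  have hNM := hNT M hM (hTMH.trans inf_le_left)
  have hNH := hNT H hH (hTMH.trans inf_le_right)
  -- `T` is a Sylow subgroup of `M`, `H` and `G`
  have hsyl : ∀ L : Subgroup G, T ≤ L → ¬ p ∣ T.relIndex L := by
    intro L hTL hd
    obtain ⟨S0, hS0⟩ := (hTp.comap_of_injective L.subtype L.subtype_injective).exists_le_sylow
    set S := (S0 : Subgroup L).map L.subtype with hS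
    have hTS : T ≤ S := fun x hx => ⟨⟨x, hTL hx⟩, hS0 hx, rfl⟩
    have hlt : T < S := lt_of_le_of_ne hTS fun h => OddMax.sylow_relIndex S0 (by rw [← hS, ← h]; exact hd)
    have h1 := OddTrans.lt_inf_normalizer (S0.isPGroup'.map L.subtype) hlt
    have h2 : S ⊓ Subgroup.normalizer (T : Set G) ≤ M ⊓ H :=
      inf_le_right.trans (le_inf hNM hNH)
    have hp1 : IsPGroup p ↥(S ⊓ Subgroup.normalizer (T : Set G)) :=
      (S0.isPGroup'.map L.subtype).to_le inf_le_left
    apply hTi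
    have hne1 : T.relIndex (S ⊓ Subgroup.normalizer (T : Set G)) ≠ 1 := fun h =>
      h1.not_ge (Subgroup.relIndex_eq_one.1 h)
    obtain ⟨r, hr, hrd⟩ := Nat.exists_prime_and_dvd hne1
    have hrp : r = p := eq_of_dvd_card_pGroup hp1 hr (hrd.trans
      (Dvd.intro_left _ (OddMax.card_mul_relIndex h1.le)))
    exact (hrp ▸ hrd).trans (Dvd.intro _ (Subgroup.relIndex_mul_relIndex T _ _ h1.le h2))
  obtain ⟨TG, hTG⟩ : ∃ TG : Sylow p G, (TG : Subgroup G) = T :=
    ⟨hTp.toSylow (by rw [← Subgroup.relIndex_top_right]; exact hsyl ⊤ le_top), rfl⟩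
  -- rank two
  have hr2 : PRankLE p 2 ↥T := by
    by_contra h
    exact hne ((F.unique_of_rank_three (F.ne_top_of_isPGroup hTp) h).unique
      ⟨hH, hTMH.trans inf_le_right⟩ ⟨hM, hTMH.trans inf_le_left⟩)
  have hβ : ∀ L : Subgroup G, T ≤ L → p ∉ beta L := by
    intro L hTL h
    obtain ⟨S, hS⟩ := OddMax.exists_sylow_eq hTp hTL (hsyl L hTL)
    exact h.1.2 (OddSigma.prankLE_of_sylow S (hS ▸ hr2))
  have hfac : ∀ L : Subgroup G, IsCoatom L → T ≤ L → L ≤ (M ⊓ H) ⊔ betaCore L := fun L hL hTL =>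
    (F.le_sup_betaCore hL (hσ L hL hTL) (hβ L hTL) hTp hTL (hsyl L hTL)).trans
      (sup_le_sup_right (inf_le_right.trans (le_inf hNM hNH)) _)
  -- the structure of `T`
  obtain hab | ⟨P₁, P₂, hsup, hcomm, hP₁na, hP₁c, hP₁e, -, -⟩ := F.s1412 p TG (hTG ▸ hr2)
  · exact hTna (hTG ▸ hab)
  rw [hTG] at hsup
  have hP₁T : P₁ ≤ T := hsup ▸ le_sup_left
  obtain ⟨hZc, hcZ⟩ := cube_center hP₁c hP₁na
  set Z := P₁ ⊓ Subgroup.centralizer (P₁ : Set G) with hZ
  have hexp : ∀ x ∈ P₁, x ^ p = 1 := fun x hx => by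
    have h := Monoid.pow_exponent_eq_one (G := P₁) ⟨x, hx⟩
    rw [hP₁e] at h
    exact congrArg Subtype.val h
  have hTZ : T ≤ Subgroup.centralizer (Z : Set G) := by
    rw [← hsup]
    refine sup_le (fun a ha z hz => (hz.2 a ha).symm) fun b hb z hz => ?_
    exact hcomm z hz.1 b hb
  have hnz : ∀ x ∈ P₁, x ∉ Z → ∃ y ∈ P₁, y * x * y⁻¹ * x⁻¹ ≠ 1 := by
    intro x hx hxZ
    by_contra h
    push Not at h
    exact hxZ ⟨hx, fun y hy => mul_inv_eq_iff_eq_mul.1 (mul_inv_eq_one.1 (h y hy))⟩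
  -- the elementary subgroup `⟨x⟩ Z`
  have hA : ∀ x ∈ P₁, x ∉ Z → IsElementaryAbelian p (Z ⊔ Subgroup.zpowers x) ∧
      Nat.card ↥(Z ⊔ Subgroup.zpowers x) = p ^ 2 ∧ Z ⊔ Subgroup.zpowers x ≤ P₁ := by
    intro x hx hxZ
    have hZe : IsElementaryAbelian p Z :=
      ⟨⟨⟨fun a b => Subtype.ext (b.2.2 a a.2.1)⟩⟩, fun a ha => hexp a ha.1⟩
    have he := OddSigma.elementary_sup_zpowers hZe (hexp x hx) (fun z hz => hTZ (hP₁T hx) z hz)
    refine ⟨he, le_antisymm ?_ ?_, sup_le inf_le_left (Subgroup.zpowers_le.2 hx)⟩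
    · obtain ⟨j, hj⟩ := (Signalizer.isPGroup_of_elemAb he).exists_card_eq
      rw [hj]
      refine Nat.pow_le_pow_right hp.pos (not_lt.1 fun h3 => hP₁na ?_)
      have heq : Z ⊔ Subgroup.zpowers x = P₁ := Subgroup.eq_of_le_of_card_ge
        (sup_le inf_le_left (Subgroup.zpowers_le.2 hx))
        (by rw [hP₁c, hj]; exact Nat.pow_le_pow_right hp.pos h3)
      exact heq ▸ he.1
    · obtain ⟨j, hj⟩ := (Signalizer.isPGroup_of_elemAb he).exists_card_eq
      rw [hj]
      refine Nat.pow_le_pow_right hp.pos ?_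
      have hlt : Nat.card Z < Nat.card ↥(Z ⊔ Subgroup.zpowers x) :=
        (Subgroup.card_le_of_le le_sup_left).lt_of_ne fun h => hxZ
          ((Subgroup.eq_of_le_of_card_ge le_sup_left h.ge).symm ▸
            Subgroup.mem_sup_right (Subgroup.mem_zpowers x) : x ∈ Z)
      rw [hZc, hj] at hlt
      exact (Nat.pow_lt_pow_iff_right hp.one_lt).1 ((pow_one p).symm ▸ hlt)
  have hneH : ∀ L : Subgroup G, IsCoatom L → L = M ∨ L = H → ¬ L ≤ Subgroup.normalizer (T : Set G) := by
    intro L hL hLc h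
    have h1 : L ≤ M ⊓ H := h.trans (le_inf hNM hNH)
    have h2 : L = M := ((h1.trans inf_le_left).eq_or_lt).elim id fun h => absurd (hL.2 _ h) hM.1
    have h3 : L = H := ((h1.trans inf_le_right).eq_or_lt).elim id fun h => absurd (hL.2 _ h) hH.1
    exact hne (h3 ▸ h2)
  -- every `⟨x⟩ Z` has a line with normaliser only in `L`
  have hline : ∀ L : Subgroup G, IsCoatom L → (L = M ∨ L = H) → ∀ x ∈ P₁, x ∉ Z →
      ∃ X, X ≤ Z ⊔ Subgroup.zpowers x ∧ Nat.card X = p ∧ NUnique L X := by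
    intro L hL hLc x hx hxZ
    have hTL : T ≤ L := hLc.elim (fun h => h ▸ hTMH.trans inf_le_left)
      (fun h => h ▸ hTMH.trans inf_le_right)
    obtain ⟨he, hc, hle⟩ := hA x hx hxZ
    by_contra h
    push Not at h
    obtain ⟨-, -, hnil⟩ := (F.s1416 L hL p _ ⟨(hle.trans hP₁T).trans hTL, he, hc⟩).2 h
    apply hneH L hL hLc
    have hTs := F.le_sigmaCore_of_pGroup hL (hσ L hL hTL) hTp hTL
    obtain ⟨S, hS⟩ := OddMax.exists_sylow_eq hTp hTs fun hd => hsyl L hTL (hd.trans
      (Dvd.intro _ (Subgroup.relIndex_mul_relIndex T _ L hTs (OddMax.sigmaCore_le L))))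
    exact hS ▸ (OddMax.le_normalizer_sigmaCore L).trans (OddMax.normalizer_le_normalizer_sylow hnil S)
  -- a line other than `Z` is conjugate to `⟨x⟩`
  have hconj : ∀ L : Subgroup G, T ≤ L → ∀ x ∈ P₁, x ∉ Z → ∀ X, X ≤ Z ⊔ Subgroup.zpowers x →
      Nat.card X = p → X ≠ Z → NUnique L X → NUnique L (Subgroup.zpowers x) := by
    intro L hTL x hx hxZ X hXle hXc hXZ hU
    obtain ⟨he, -, -⟩ := hA x hx hxZ
    have hxo : Nat.card (Subgroup.zpowers x) = p := by
      rw [Nat.card_zpowers]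
      exact orderOf_eq_prime (hexp x hx) fun h => hxZ (h ▸ Z.one_mem)
    obtain ⟨u, hu, hu1⟩ := (Subgroup.ne_bot_iff_exists_ne_one.1 (ne_bot_of_card_prime hp hXc)).elim
      fun c hc => (⟨c, c.2, fun h => hc (Subtype.ext h)⟩ : ∃ u ∈ X, u ≠ 1)
    have hXu : Subgroup.zpowers u = X := by
      refine Subgroup.eq_of_le_of_card_ge (Subgroup.zpowers_le.2 hu) ?_
      rw [Nat.card_zpowers, hXc, orderOf_eq_prime (he.2 u (hXle hu)) hu1]
    have huZ : u ∉ Z := fun h => hXZ (Subgroup.eq_of_le_of_card_ge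
      (hXu ▸ Subgroup.zpowers_le.2 h) (by rw [hXc, hZc]))
    have : (Z.subgroupOf (Z ⊔ Subgroup.zpowers x)).Normal :=
      Subgroup.normal_subgroupOf_of_le_normalizer fun a ha => Coprime.mem_normalizer_of_forall
        fun z hz => by
          rw [OddSigma.elem_comm he ha (Subgroup.mem_sup_left hz), mul_inv_cancel_right]
          exact hz
    obtain ⟨z, hz, v, hv, hzv⟩ := (Coprime.mem_sup_iff (N := Z) (H := Subgroup.zpowers x)
      (Subgroup.zpowers_le.2 (Subgroup.centralizer_le_normalizer _ (hTZ (hP₁T hx))))).1 (hXle hu)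
    obtain ⟨i, rfl⟩ := Subgroup.mem_zpowers_iff.1 hv
    have hxi : x ^ i ≠ 1 := fun h => huZ (by rw [← hzv, h, mul_one]; exact hz)
    obtain ⟨y, hy, hyx⟩ := hnz x hx hxZ
    set c := y * x * y⁻¹ * x⁻¹ with hc
    have hcmem : c ∈ Z := hcZ y hy x hx
    have hcc : ∀ k : ℕ, y ^ k * x * (y ^ k)⁻¹ = c ^ k * x := by
      intro k
      induction k with
      | zero => simp
      | succ k ih =>
        have h1 : Commute y (c ^ k) := (Commute.pow_right (hcmem.2 y hy) k)
        calc y ^ (k + 1) * x * (y ^ (k + 1))⁻¹ = y * (y ^ k * x * (y ^ k)⁻¹) * y⁻¹ := by group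
          _ = y * c ^ k * x * y⁻¹ := by simp only [ih, mul_assoc]
          _ = c ^ k * (c * x) := by rw [h1.eq, hc]; group
          _ = c ^ (k + 1) * x := by group
    -- a power of `u` is `z' x`
    have hco : (p : ℤ).natAbs.Coprime i.natAbs := by
      rw [Int.natAbs_natCast, hp.coprime_iff_not_dvd]
      intro hd
      apply hxi
      obtain ⟨j, hj⟩ := (Int.natCast_dvd.2 hd : (p : ℤ) ∣ i)
      rw [hj, zpow_mul, zpow_natCast, hexp x hx, one_zpow]
    obtain ⟨a, b, hab⟩ := (Int.isCoprime_iff_nat_coprime.2 hco : IsCoprime (p : ℤ) i)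
    have hub : u ^ b = z ^ b * x := by
      have hzx : Commute z (x ^ i) := (Commute.zpow_right (show Commute z x from
        (hTZ (hP₁T hx) z hz)) i)
      rw [← hzv, hzx.mul_zpow, ← zpow_mul]
      congr 1
      calc x ^ (i * b) = (x ^ (p : ℤ)) ^ a * x ^ (i * b) := by
            rw [zpow_natCast, hexp x hx, one_zpow, one_mul]
        _ = x ^ ((p : ℤ) * a + i * b) := by rw [zpow_add, ← zpow_mul x (p : ℤ) a]
        _ = x := by rw [show (p : ℤ) * a + i * b = 1 by linarith [hab], zpow_one]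
    have hZcyc : z ^ b ∈ Subgroup.zpowers c := by
      have h1 : Subgroup.zpowers c = Z := Subgroup.eq_of_le_of_card_ge (Subgroup.zpowers_le.2 hcmem)
        (by rw [hZc, Nat.card_zpowers, orderOf_eq_prime (hexp c hcmem.1) hyx])
      rw [h1]
      exact Z.zpow_mem hz b
    obtain ⟨k, hk⟩ : z ^ b ∈ Submonoid.powers c := by
      rwa [mem_powers_iff_mem_zpowers]
    have hk' : c ^ k = z ^ b := hk
    have hconjx : MulAut.conj (y ^ k) • Subgroup.zpowers x = X := by
      rw [Solvable.conj_eq_map, MonoidHom.map_zpowers]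
      refine Subgroup.eq_of_le_of_card_ge (Subgroup.zpowers_le.2 ?_) ?_
      · show y ^ k * x * (y ^ k)⁻¹ ∈ X
        rw [hcc, hk', ← hub]
        exact X.zpow_mem hu b
      · rw [hXc, Nat.card_zpowers]
        refine le_of_eq (orderOf_eq_prime ?_ ?_).symm
        · show (MulAut.conj (y ^ k) x) ^ p = 1
          rw [← map_pow, hexp x hx, map_one]
        · intro h
          exact hxZ ((MulAut.conj (y ^ k)).injective (h.trans (map_one _).symm) ▸ Z.one_mem)
    have hinv : MulAut.conj (y ^ k)⁻¹ • X = Subgroup.zpowers x := by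
      rw [← hconjx, Solvable.conj_inv_smul]
    exact hinv ▸ hU.conj (L.inv_mem (hTL (T.pow_mem (hP₁T hy) k)))
  -- the core of the other subgroup lies in `L`
  have hcore : ∀ L L' : Subgroup G, IsCoatom L → IsCoatom L' → T ≤ L → T ≤ L' → M ⊓ H ≤ L →
      (∀ x ∈ P₁, x ∉ Z → Subgroup.centralizer ({x} : Set G) ≤ L) → L' ≤ L := by
    intro L L' hL hL' hTL hTL' hMHL hcx
    refine (hfac L' hL' hTL').trans (sup_le hMHL ?_)
    set K := betaCore L' with hK
    have hpK : ¬ p ∣ Nat.card K := fun h => hβ L' hTL' (OddTrans.piCoreOf_pi _ _ p hp h)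
    have hTK : T ≤ Subgroup.normalizer (K : Set G) :=
      hTL'.trans (OddTrans.le_normalizer_piCoreOf _ _)
    have hdisj : K ⊓ Z = ⊥ := Coprime.inf_eq_bot (by
      rw [hZc]; exact (hp.coprime_iff_not_dvd.2 hpK).symm)
    obtain ⟨x, hx, hxZ⟩ : ∃ x ∈ P₁, x ∉ Z := by
      by_contra h
      push Not at h
      exact hP₁na ⟨⟨fun a b => Subtype.ext ((h b b.2).2 a a.2)⟩⟩
    obtain ⟨y, hy, hyx⟩ := hnz x hx hxZ
    have hKZ : K ⊓ Subgroup.centralizer (Z : Set G) ≤ L := by
      set K1 := K ⊓ Subgroup.centralizer (Z : Set G)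
      have hn1 : ∀ t ∈ T, t ∈ Subgroup.normalizer (K1 : Set G) := fun t ht =>
        Coprime.mem_normalizer_of_forall fun k hk =>
          ⟨(Subgroup.mem_normalizer_iff.1 (hTK ht) k).1 hk.1,
            Subgroup.mul_mem _ (Subgroup.mul_mem _ (hTZ ht) hk.2) (Subgroup.inv_mem _ (hTZ ht))⟩
      refine le_of_central_pair (Z := Z) (p := p) hp (x := x) (y := y) (hn1 x (hP₁T hx))
        (hn1 y (hP₁T hy)) (hTZ (hP₁T hx)) (hTZ (hP₁T hy)) inf_le_right (hexp x hx) (hexp y hy)
        (hcZ x hx y hy) (fun h => hpK (h.trans (Subgroup.card_dvd_of_le inf_le_left)))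
        (eq_bot_iff.2 ((inf_le_inf_right Z inf_le_left).trans hdisj.le))
        ((inf_le_left.trans hP₁T).trans hTL) ?_
      intro i j hij
      refine inf_le_right.trans (hcx _ (P₁.mul_mem (P₁.pow_mem hx i) (P₁.pow_mem hy j)) fun h => ?_)
      -- `x ^ i * y ^ j ∈ Z` forces `p ∣ i` and `p ∣ j`
      have hcent : ∀ a b : G, a ∈ P₁ → b ∈ P₁ → b * a * b⁻¹ * a⁻¹ ≠ 1 → ∀ n : ℕ,
          b * a ^ n = a ^ n * b → p ∣ n := by
        intro a b ha hb hne1 n hn
        by_contra hnd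
        obtain ⟨l, hl⟩ := exists_pow_eq_self_of_coprime (x := a) (n := n)
          ((((hp.coprime_iff_not_dvd).2 hnd).coprime_dvd_left
            (orderOf_dvd_of_pow_eq_one (hexp a ha))).symm)
        apply hne1
        have h2 : Commute b ((a ^ n) ^ l) := (show Commute b (a ^ n) from hn).pow_right l
        rw [hl] at h2
        rw [h2.eq]; group
      have h1 := h.2 x hx
      have h2 := h.2 y hy
      refine hij ⟨hcent x y hx hy hyx i ?_, hcent y x hy hx (fun e => hyx ?_) j ?_⟩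
      · calc y * x ^ i = y * (x ^ i * y ^ j) * (y ^ j)⁻¹ := by group
          _ = (x ^ i * y ^ j) * y * (y ^ j)⁻¹ := by rw [h2]
          _ = x ^ i * y := by group
      · calc y * x * y⁻¹ * x⁻¹ = (x * y * x⁻¹ * y⁻¹)⁻¹ := by group
          _ = 1 := by rw [e, inv_one]
      · calc x * y ^ j = (x ^ i)⁻¹ * (x * (x ^ i * y ^ j)) := by group
          _ = (x ^ i)⁻¹ * ((x ^ i * y ^ j) * x) := by rw [h1]
          _ = y ^ j * x := by group
    obtain ⟨he, hc, hle⟩ := hA x hx hxZ
    have := he.1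
    refine Coprime.le_of_noncyclic (A := Z ⊔ Subgroup.zpowers x) ?_ ((hle.trans hP₁T).trans hTK)
      (coprime_of_not_dvd (Signalizer.isPGroup_of_elemAb he) hpK) ?_
    · intro hcyc
      have hxo : Nat.card (Subgroup.zpowers x) = Nat.card Z := by
        rw [hZc, Nat.card_zpowers]
        exact orderOf_eq_prime (hexp x hx) fun h => hxZ (h ▸ Z.one_mem)
      have := eq_of_card_eq_of_cyclic (S := Z ⊔ Subgroup.zpowers x) le_sup_right le_sup_left hxo
      exact hxZ (this ▸ Subgroup.mem_zpowers x)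
    · intro a ha ha1
      by_cases haZ : a ∈ Z
      · refine le_trans (inf_le_inf_left _ ?_) hKZ
        have h1 : Subgroup.zpowers a = Z := Subgroup.eq_of_le_of_card_ge (Subgroup.zpowers_le.2 haZ)
          (by rw [hZc, Nat.card_zpowers, orderOf_eq_prime (hexp a haZ.1) ha1])
        rw [← h1, centralizer_singleton_eq]
      · exact inf_le_right.trans (hcx a (hle ha) haZ)
  -- conclusion
  have main : ∀ L L' : Subgroup G, IsCoatom L → IsCoatom L' → (L = M ∨ L = H) → T ≤ L → T ≤ L' →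
      M ⊓ H ≤ L → ¬ NUnique L Z → L' ≤ L := by
    intro L L' hL hL' hLc hTL hTL' hMHL hZL
    refine hcore L L' hL hL' hTL hTL' hMHL fun x hx hxZ => ?_
    obtain ⟨X, hXle, hXc, hU⟩ := hline L hL hLc x hx hxZ
    have := (hconj L hTL x hx hxZ X hXle hXc (fun h => hZL (h ▸ hU)) hU).1
    rw [centralizer_singleton_eq]
    exact (Subgroup.centralizer_le_normalizer _).trans this
  by_cases hUH : NUnique H Z
  · have hUM : ¬ NUnique M Z := fun h => hne (h.eq hH hUH)
    have h1 := main M H hM hH (Or.inl rfl) (hTMH.trans inf_le_left) (hTMH.trans inf_le_right)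
      inf_le_left hUM
    exact hne ((h1.eq_or_lt).elim id fun h => absurd (hH.2 _ h) hM.1)
  · have h1 := main H M hH hM (Or.inr rfl) (hTMH.trans inf_le_right) (hTMH.trans inf_le_left)
      inf_le_right hUH
    exact hne ((h1.eq_or_lt).elim (fun h => h.symm) fun h => absurd (hM.2 _ h) hH.1)

/-- A `p`-subgroup of two different maximal subgroups is abelian. -/
theorem isMulCommutative_of_two {p : ℕ} [Fact p.Prime] {P M N : Subgroup G} (hP : IsPGroup p P)
    (hM : IsCoatom M) (hN : IsCoatom N) (hne : N ≠ M) (hPM : P ≤ M) (hPN : P ≤ N) :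
    IsMulCommutative P :=
  by_contra fun h => hne ((F.unique_of_nonabelian hP h).unique ⟨hN, hPN⟩ ⟨hM, hPM⟩)

end Facts

end Cfsg.Agent.OddPrime
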