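import Cfsg.Agent.Lib.OddPrime.Kappa1

/-!
Bender-Glauberman 13.6, 13.11, 13.12, 13.13 in the shapes of the fields `bg13_*` of
`Cfsg.Agent.OddOrder14.Upstream` (`Facts.bg13_6`, `bg13_9`, `bg13_11`, `bg13_12`, `bg13_13`).
-/

set_option autoImplicit false
set_option linter.unusedVariables false
set_option linter.unusedSectionVars false

universe u

namespace Cfsg.Agent.OddPrime

open scoped Pointwise commutatorElement

variable {G : Type u} [Group G] [Finite G]

namespace Facts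

variable (F : Facts G) {M L : Subgroup G}
include F

/-- **Bender-Glauberman 13.11.** -/
theorem tau3_structure (hM : IsCoatom M) {E : Subgroup G} (hE : IsComplIn E (sigmaCore M) M) {p : ℕ}
    (hp : p ∈ tau3 M) {P : Subgroup G} (hPE : P ≤ E) (hP : Nat.card P = p)
    (hC : sigmaCore M ⊓ Subgroup.centralizer (P : Set G) ≠ ⊥) :
    (∀ q : ℕ, q.Prime → q ∣ Nat.card E → q ∈ tau1 M ∪ tau3 M) ∧
    (∀ Y : Subgroup G, Y ≤ E → (Nat.card Y).Prime →
      sigmaCore M ⊓ Subgroup.centralizer (Y : Set G) =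
        sigmaCore M ⊓ Subgroup.centralizer (P : Set G)) ∧
    E ≤ Subgroup.centralizer
      ((sigmaCore M ⊓ Subgroup.centralizer (P : Set G) : Subgroup G) : Set G) ∧
    ∀ X : Subgroup G, X ≤ E → (Nat.card X).Prime → E ≤ Subgroup.normalizer (X : Set G) := by
  have := Fact.mk hp.1
  have hEM := hE.1
  have hPM : P ≤ M := hPE.trans hEM
  have hPp := isPGroup_of_card_prime hP
  set C := sigmaCore M ⊓ Subgroup.centralizer (P : Set G) with hCdef
  have hτ := F.tau3_no_tau2 hM hp hPM hP hC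
  have hEP := F.tau3_normal hM hE hp hPE hP
  have hσ : ∀ r : ℕ, r.Prime → r ∣ Nat.card E → r ∉ sigma M := fun r hr hd =>
    F.not_sigma_of_compl hM hE hr hd
  have part1 : ∀ q : ℕ, q.Prime → q ∣ Nat.card E → q ∈ tau1 M ∪ tau3 M := fun q hq hd => by
    have h1 := F.prankLE_one hM hq (hσ q hq hd) (hτ q)
    by_cases h : q ∣ Nat.card ↥⁅M, M⁆
    · exact Or.inr ⟨hq, hσ q hq hd, h, h1⟩
    · exact Or.inl ⟨hq, hσ q hq hd, hd.trans (Subgroup.card_dvd_of_le hEM), h, h1⟩
  obtain ⟨x0, hx0C, hx01⟩ := (Subgroup.bot_or_exists_ne_one C).resolve_left hC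
  obtain ⟨s, hs, -, x, hx, hxo⟩ := OddMax.exists_prime_part hx01
  have := Fact.mk hs
  set X0 := Subgroup.zpowers x with hX0def
  have hX0C : X0 ≤ C := Subgroup.zpowers_le.2 (Subgroup.zpowers_le.2 hx0C hx)
  have hX0 : Nat.card X0 = s := by rw [hX0def, Nat.card_zpowers, hxo]
  have hτ1c : ∀ {r : ℕ} {R : Subgroup G}, r ∈ tau1 M → R ≤ E → Nat.card R = r →
      C ≤ Subgroup.centralizer (R : Set G) ∧ R ≤ Subgroup.centralizer (P : Set G) ∧
        sigmaCore M ⊓ Subgroup.centralizer (R : Set G) = C := by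
    intro r R hr hRE hR
    have := Fact.mk hr.1
    have hA : C ≤ Subgroup.centralizer (R : Set G) :=
      F.tau1_centralizes hM hp hr hP hPM hR (hRE.trans hEM) (hRE.trans hEP)
    have hB : R ≤ Subgroup.centralizer (P : Set G) := by_contra fun h =>
      F.tau3_no_fix (s := s) hM hp hr hP hPM hR (hRE.trans hEM) (hRE.trans hEP) h hX0
        (hX0C.trans inf_le_left) (hX0C.trans inf_le_right) (hX0C.trans hA)
    refine ⟨hA, hB, le_antisymm (le_inf inf_le_left ?_) (le_inf inf_le_left hA)⟩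
    exact F.le_centralizer_of_tau1 hM hr (hRE.trans hEM) hR hPM
      (Subgroup.le_centralizer_iff.1 hB) hp.1 hP hp.2.1
  -- there is a subgroup of order in `τ₁(M)`
  obtain ⟨r0, R0, hr0, hR0E, hR0⟩ : ∃ (r0 : ℕ) (R0 : Subgroup G),
      r0 ∈ tau1 M ∧ R0 ≤ E ∧ Nat.card R0 = r0 := by
    have hne : (⁅E, E⁆).relIndex E ≠ 1 := fun h => by
      have h1 : E ≤ ⁅E, E⁆ := Subgroup.relIndex_eq_one.1 h
      have : Group.IsSolvable E := Coprime.isSolvable_of_le hEM (F.solvable hM)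
      have : Nontrivial E := (Subgroup.nontrivial_iff_ne_bot E).2 fun h =>
        ne_bot_of_card_prime hp.1 hP (le_bot_iff.1 (h ▸ hPE))
      refine (Group.IsSolvable.commutator_lt_top_of_nontrivial (G := E)).ne ?_
      refine Subgroup.map_injective E.subtype_injective ?_
      rw [Subgroup.map_subtype_commutator, ← MonoidHom.range_eq_map, Subgroup.range_subtype]
      exact le_antisymm (Subgroup.commutator_le.2 fun a ha b hb =>
        E.mul_mem (E.mul_mem (E.mul_mem ha hb) (E.inv_mem ha)) (E.inv_mem hb)) h1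
    obtain ⟨r, hr, hrd⟩ := Nat.exists_prime_and_dvd hne
    have := Fact.mk hr
    have hrE : r ∣ Nat.card E := by
      rw [← Subgroup.inf_relIndex_right] at hrd
      exact hrd.trans (Dvd.intro_left _ (OddMax.card_mul_relIndex inf_le_right))
    obtain ⟨R, hRE, hR⟩ := exists_prime_subgroup hrE
    refine ⟨r, R, (part1 r hr hrE).resolve_right fun h3 => ?_, hRE, hR⟩
    obtain ⟨E3, hE3, -⟩ := exists_hallOf_ge (U := ⊥) (π := tau3 M)
      (Coprime.isSolvable_of_le hEM (F.solvable hM)) bot_le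
      (fun t ht htd => absurd (Subgroup.card_bot (G := G) ▸ htd) ht.not_dvd_one)
    exact hE3.2.2 r hr h3 (hrd.trans (Subgroup.relIndex_dvd_of_le_left _
      ((F.s1415 M hM E hE).2.2 E3 hE3).2.1))
  have := Fact.mk hr0.1
  obtain ⟨hA0, hB0, hE0⟩ := hτ1c hr0 hR0E hR0
  have hτ3c : ∀ {t : ℕ} {Y : Subgroup G}, t ∈ tau3 M → Y ≤ E → Nat.card Y = t →
      R0 ≤ Subgroup.centralizer (Y : Set G) ∧ sigmaCore M ⊓ Subgroup.centralizer (Y : Set G) = C := by
    intro t Y ht hYE hY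
    have := Fact.mk ht.1
    have hEY := F.tau3_normal hM hE ht hYE hY
    have hYM : Y ≤ M := hYE.trans hEM
    have hYP : Y ≤ Subgroup.centralizer (P : Set G) := by
      by_cases htp : t = p
      · subst htp
        have hc : IsCyclic ↥(Y ⊔ P) := F.isCyclic_pSubgroup hM hp.2.1 (hτ t)
          ((isPGroup_of_card_prime hY).to_sup_of_normal_right' hPp (hYE.trans hEP)) (sup_le hYM hPM)
        exact le_centralizer_of_le_cyclic hc le_sup_left le_sup_right
      · exact le_centralizer_of_normal (hYE.trans hEP) (hPE.trans hEY)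
          (coprime_pGroups (isPGroup_of_card_prime hY) hPp htp)
    have hYC : Y ≤ Subgroup.normalizer (C : Set G) := le_normalizer_inf
      (hYM.trans (OddMax.le_normalizer_sigmaCore M)) ((hYE.trans hEP).trans (normalizer_le_centralizer P))
    have hR0Y : R0 ≤ Subgroup.centralizer (Y : Set G) := by_contra fun h => by
      have h1 : Y ≤ Subgroup.centralizer (C : Set G) :=
        (commutator_eq_of_prime hY (hR0E.trans hEY) h).symm.le.trans
          (commutator_le_centralizer_of_le (Subgroup.le_centralizer_iff.1 hA0) hYC)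
      exact F.tau3_no_fix (s := s) hM ht hr0 hY hYM hR0 (hR0E.trans hEM) (hR0E.trans hEY) h hX0
        (hX0C.trans inf_le_left) (hX0C.trans (Subgroup.le_centralizer_iff.1 h1)) (hX0C.trans hA0)
    have hle : C ≤ sigmaCore M ⊓ Subgroup.centralizer (Y : Set G) := by
      refine le_inf inf_le_left ?_
      rw [← hE0]
      exact F.le_centralizer_of_tau1 hM hr0 (hR0E.trans hEM) hR0 hYM
        (Subgroup.le_centralizer_iff.1 hR0Y) ht.1 hY ht.2.1
    refine ⟨hR0Y, le_antisymm ((le_inf inf_le_left ?_ : _ ≤ sigmaCore M ⊓ Subgroup.centralizer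
      (R0 : Set G)).trans hE0.le) hle⟩
    exact F.tau1_centralizes hM ht hr0 hY hYM hR0 (hR0E.trans hEM) (hR0E.trans hEY)
  have part2 : ∀ Y : Subgroup G, Y ≤ E → (Nat.card Y).Prime →
      sigmaCore M ⊓ Subgroup.centralizer (Y : Set G) = C := fun Y hYE hY => by
    rcases part1 _ hY (Subgroup.card_dvd_of_le hYE) with h | h
    · exact (hτ1c h hYE rfl).2.2
    · exact (hτ3c h hYE rfl).2
  have hEC : E ≤ Subgroup.centralizer (C : Set G) := by
    suffices h : E ⊓ Subgroup.centralizer (C : Set G) = E from h.symm.le.trans inf_le_right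
    refine eq_of_forall_prime inf_le_left fun t ht htd hi => ?_
    have := Fact.mk ht
    obtain ⟨T⟩ : Nonempty (Sylow t E) := inferInstance
    set T' := (T : Subgroup E).map E.subtype with hT'
    have hT'E : T' ≤ E := Subgroup.map_subtype_le _
    refine OddMax.sylow_relIndex T (hi.trans (Subgroup.relIndex_dvd_of_le_left _ (le_inf hT'E ?_)))
    by_cases hT1 : T' = ⊥
    · exact le_trans (le_of_eq hT1) bot_le
    obtain ⟨Y, hYT, hY⟩ := exists_prime_subgroup (dvd_card_of_ne_bot (T.isPGroup'.map E.subtype) hT1)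
    have h27 := F.le_centralizer_of_cyclic_sylow hM hE hT'E (T.isPGroup'.map _)
      (OddMax.sylow_relIndex T) (F.isCyclic_pSubgroup hM (hσ t ht htd) (hτ t) (T.isPGroup'.map _)
        (hT'E.trans hEM)) hYT hY
    rwa [part2 Y (hYT.trans hT'E) (hY ▸ ht)] at h27
  refine ⟨part1, part2, hEC, fun X hXE hX => ?_⟩
  rcases part1 _ hX (Subgroup.card_dvd_of_le hXE) with h | h
  · have := Fact.mk hX
    set K := ⁅E, E⁆ with hKdef
    have hKE : K ≤ E := Subgroup.commutator_le.2 fun a ha b hb =>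
      E.mul_mem (E.mul_mem (E.mul_mem ha hb) (E.inv_mem ha)) (E.inv_mem hb)
    have hKM : K ≤ ⁅M, M⁆ := Subgroup.commutator_mono hEM hEM
    have hEK : E ≤ Subgroup.normalizer (K : Set G) :=
      Subgroup.le_normalizer_iff_commutator_le_right.2 (Subgroup.commutator_mono le_rfl hKE)
    have hrK : ¬ Nat.card X ∣ Nat.card K := fun hd =>
      h.2.2.2.1 (hd.trans (Subgroup.card_dvd_of_le hKM))
    have hab : IsMulCommutative K := (F.s1420 M hM E hE).2.1
    have hXn : X ≤ Subgroup.normalizer (K : Set G) := hXE.trans hEK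
    have hcop : (Nat.card X).Coprime (Nat.card K) :=
      coprime_of_not_dvd (isPGroup_of_card_prime rfl) hrK
    have hKX : K ≤ Subgroup.centralizer (X : Set G) := by
      rw [← Subgroup.commutator_eq_bot_iff_le_centralizer]
      by_contra hne
      obtain ⟨u, hu, hud⟩ := Nat.exists_prime_and_dvd (mt Subgroup.card_eq_one.1 hne)
      have := Fact.mk hu
      obtain ⟨Y, hY', hY⟩ := exists_prime_subgroup hud
      have hYK : Y ≤ K := hY'.trans (Subgroup.le_normalizer_iff_commutator_le_left.1 hXn)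
      have huE : u ∣ Nat.card E := hY ▸ Subgroup.card_dvd_of_le (hYK.trans hKE)
      have h3 : u ∈ tau3 M := (part1 u hu huE).resolve_left fun h1 =>
        h1.2.2.2.1 (hY ▸ Subgroup.card_dvd_of_le (hYK.trans hKM))
      have hYX : Y ≤ Subgroup.centralizer (X : Set G) := Subgroup.le_centralizer_iff.1 <| by
        have hEY := F.tau3_normal hM hE h3 (hYK.trans hKE) hY
        by_contra hXY
        have hA := (hτ1c h hXE rfl).1
        have hYC : Y ≤ Subgroup.normalizer (C : Set G) :=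
          ((hYK.trans hKE).trans hEC).trans (Subgroup.centralizer_le_normalizer _)
        exact F.tau3_no_fix (s := s) hM h3 h hY ((hYK.trans hKE).trans hEM) rfl (hXE.trans hEM)
          (hXE.trans hEY) hXY hX0 (hX0C.trans inf_le_left)
          (hX0C.trans (Subgroup.le_centralizer_iff.1 ((hYK.trans hKE).trans hEC))) (hX0C.trans hA)
      have h1 := Coprime.abelian_inf_eq_bot (A := X) (V := K) hXn hcop
      exact ne_bot_of_card_prime hu hY (le_bot_iff.1 (h1 ▸ le_inf (le_inf hYK hYX) hY'))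
    set L := X ⊔ K with hLdef
    have hLE : L ≤ E := sup_le hXE hKE
    have hEL : E ≤ Subgroup.normalizer (L : Set G) := Subgroup.le_normalizer_iff_commutator_le_right.2
      ((Subgroup.commutator_mono le_rfl hLE).trans le_sup_right)
    have hLX : L ≤ Subgroup.normalizer (X : Set G) :=
      sup_le Subgroup.le_normalizer (hKX.trans (Subgroup.centralizer_le_normalizer _))
    have hXi : ¬ Nat.card X ∣ X.relIndex L := fun hd => hrK <| hd.trans <|
      Nat.dvd_of_mul_dvd_mul_left (k := Nat.card X) Nat.card_pos <| by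
        rw [OddMax.card_mul_relIndex le_sup_left]
        exact pair_relIndex.card_sup_dvd_mul hXn
    intro e he
    obtain ⟨k, hk, hkX⟩ := exists_conj_sylow (H := L) (isPGroup_of_card_prime rfl) le_sup_left hXi
      (Q := MulAut.conj e • X) (OddMax.isPGroup_conj e (isPGroup_of_card_prime rfl))
      ((Solvable.conj_mono e le_sup_left).trans (Coprime.conj_eq_of_mem_normalizer (hEL he)).le)
      (by rw [← Coprime.conj_eq_of_mem_normalizer (hEL he), OddMax.relIndex_conj]; exact hXi)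
    rw [Coprime.conj_eq_of_mem_normalizer (hLX hk)] at hkX
    exact Coprime.mem_normalizer_of_conj_eq hkX.symm
  · exact F.tau3_normal hM hE h hXE rfl

/-- **Bender-Glauberman 13.6.** -/
theorem fixed_unique (hM : IsCoatom M) {p : ℕ} [hp : Fact p.Prime] (hpσ : p ∉ sigma M)
    (hp1 : PRankLE p 1 M) {P : Subgroup G} (hPM : P ≤ M) (hP : Nat.card P = p) {q : ℕ}
    [hq : Fact q.Prime] {X : Subgroup G}
    (hX : X ≤ sigmaCore M ⊓ Subgroup.centralizer (P : Set G)) (hXc : Nat.card X = q) :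
    CUnique M X ∧ ∀ S : Subgroup G, IsPGroup q S → S ≤ sigmaCore M →
      ¬ q ∣ S.relIndex (sigmaCore M) → InUniqueMaximal S := by
  have hXs : X ≤ sigmaCore M := hX.trans inf_le_left
  have hMs := OddMax.sigmaCore_le M
  have hXM : X ≤ M := hXs.trans hMs
  have hqσ : q ∈ sigma M := (F.s1350 M hM).1.2.1 q hq.out (hXc ▸ Subgroup.card_dvd_of_le hXs)
  refine F.unique_centralizer hM hqσ hXM hXc (or_iff_not_imp_left.2 fun hqβ => ?_)
  have hPp := isPGroup_of_card_prime hP
  have hpd : p ∣ Nat.card M := hP ▸ Subgroup.card_dvd_of_le hPM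
  by_cases hp3 : p ∣ Nat.card ↥⁅M, M⁆
  · obtain ⟨E, hE, hPE⟩ := F.exists_compl_ge hM hPM fun r hr hd =>
      eq_of_dvd_card_pGroup hPp hr hd ▸ hpσ
    obtain ⟨-, -, hEC, -⟩ := F.tau3_structure hM hE (p := p) ⟨hp.out, hpσ, hp3, hp1⟩ hPE hP
      fun h => ne_bot_of_card_prime hq.out hXc (le_bot_iff.1 (h ▸ hX))
    exact (le_inf hXs (hX.trans (Subgroup.le_centralizer_iff.1 hEC))).trans (F.compl_action hM hE).2
  have hp' : p ∈ tau1 M := ⟨hp.out, hpσ, hpd, hp3, hp1⟩
  obtain ⟨Q, hQK, hQ, hQi, hXQ, hQn⟩ := exists_invariant_ge (A := P)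
    (hPM.trans (OddMax.le_normalizer_sigmaCore M))
    (coprime_of_not_dvd hPp (F.not_dvd_sigmaCore hM hp.out hpσ))
    (Coprime.isSolvable_of_le hMs (F.solvable hM)) hXs (isPGroup_of_card_prime hXc)
    ((Subgroup.le_centralizer_iff.1 (hX.trans inf_le_right)).trans
      (Subgroup.centralizer_le_normalizer _))
  obtain ⟨E, hE, hPE, hEQ⟩ := F.exists_compl_normalizing hM hQ hQK hQi hPM hQn
    fun r hr hd => eq_of_dvd_card_pGroup hPp hr hd ▸ hpσ
  have hEE : ⁅E, E⁆ ≤ E := Subgroup.commutator_le.2 fun a ha b hb =>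
    E.mul_mem (E.mul_mem (E.mul_mem ha hb) (E.inv_mem ha)) (E.inv_mem hb)
  have hE'X : ⁅E, E⁆ ≤ Subgroup.centralizer (X : Set G) :=
    (F.le_centralizer_commutator hM hqβ hQ (hQK.trans (F.sigmaCore_le_commutator hM))
      (Subgroup.commutator_mono hE.1 hE.1)
      (((hq.out.coprime_iff_not_dvd).2 fun hd =>
        F.not_sigma_of_compl hM hE hq.out (hd.trans (Subgroup.card_dvd_of_le hEE)) hqσ).symm)
      (hEE.trans hEQ)).trans (Subgroup.centralizer_le hXQ)
  have hτ : ∀ r : ℕ, r ∉ tau2 M := fun r hr => by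
    have := Fact.mk hr.1
    obtain ⟨A, hAE, hA, hAc, hEA, -, -⟩ := F.compl_tau2 hM hr hE
    have hrp : r ≠ p := fun h => (h ▸ hr : p ∈ tau2 M).2.2.2 hp1
    have hPA : P ≤ Subgroup.normalizer (A : Set G) := hPE.trans hEA
    have : IsMulCommutative A := hA.1
    have hsup := Coprime.abelian_sup_eq (A := P) (V := A) hPA
      (coprime_pGroups hPp (Signalizer.isPGroup_of_elemAb hA) hrp.symm)
    have hfix : A ⊓ Subgroup.centralizer (P : Set G) ≤ Subgroup.centralizer (X : Set G) := fun a ha => by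
      by_cases ha1 : a = 1
      · exact ha1 ▸ Subgroup.one_mem _
      have hc : Nat.card (Subgroup.zpowers a) = r := OddTau2.card_line hA ha.1 ha1
      have hle := F.le_centralizer_of_tau1 hM hp' hPM hP (R := Subgroup.zpowers a)
        (Subgroup.zpowers_le.2 (hE.1 (hAE ha.1))) (Subgroup.zpowers_le.2 ha.2) hr.1 hc hr.2.1
      exact (Subgroup.le_centralizer_iff.1 (hX.trans hle)) (Subgroup.mem_zpowers a)
    have hAX : A ≤ Subgroup.centralizer (X : Set G) :=
      hsup.symm.le.trans (sup_le hfix ((Subgroup.commutator_mono hAE hPE).trans hE'X))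
    have hbot := (F.s1417 M hM r hr A ⟨hAE.trans hE.1, hA, hAc⟩).2.2.2.1
    exact ne_bot_of_card_prime hq.out hXc
      (le_bot_iff.1 (hbot ▸ le_inf hXs (Subgroup.le_centralizer_iff.1 hAX)))
  exact (le_inf hXs (Subgroup.le_centralizer_iff.1
    (F.tau1_compl_centralizes hM hτ hE hp' hPE hP hX hE'X))).trans (F.compl_action hM hE).2

/-- A subgroup of order `p ∈ κ(M)` fixes a non-identity element of `M_σ`. -/
theorem kappa_fixed (hM : IsCoatom M) {p : ℕ} (hp : p ∈ kappa M) {P : Subgroup G} (hPM : P ≤ M)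
    (hP : Nat.card P = p) :
    p ∉ sigma M ∧ PRankLE p 1 M ∧ sigmaCore M ⊓ Subgroup.centralizer (P : Set G) ≠ ⊥ := by
  have := Fact.mk hp.1
  have hPp := isPGroup_of_card_prime hP
  obtain ⟨S, hS⟩ := (hPp.comap_of_injective M.subtype M.subtype_injective).exists_le_sylow
  obtain ⟨hSc, x, hxS, hx1, y, hy, hy1, hxy⟩ := hp.2.2.2 S
  refine ⟨hp.2.2.1, OddMax.prankLE_one_of_cyclic_sylow S hSc, fun h => ?_⟩
  set S' := (S : Subgroup M).map M.subtype with hS'def
  have hS'c : IsCyclic S' :=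
    (Subgroup.equivMapOfInjective _ M.subtype M.subtype_injective).isCyclic.1 hSc
  have hxS' : (x : G) ∈ S' := ⟨x, hxS, rfl⟩
  obtain ⟨t, ht, htd, x0, hx0, hx0o⟩ :=
    OddMax.exists_prime_part (x := (x : G)) fun h => hx1 (Subtype.ext h)
  have htp : t = p := eq_of_dvd_card_pGroup (S.isPGroup'.map M.subtype) ht
    (htd.trans ((Subgroup.orderOf_mk _ hxS').symm ▸ orderOf_dvd_natCard (⟨_, hxS'⟩ : S')))
  have hPx : Subgroup.zpowers x0 = P := eq_of_card_eq_of_cyclic (S := S')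
    (Subgroup.zpowers_le.2 (Subgroup.zpowers_le.2 hxS' hx0)) (fun z hz => ⟨⟨z, hPM hz⟩, hS hz, rfl⟩)
    (by rw [Nat.card_zpowers, hx0o, htp, hP])
  have hyP : y ∈ sigmaCore M ⊓ Subgroup.centralizer (P : Set G) :=
    ⟨hy, hPx ▸ OddMax.centralizer_le_of_mem_zpowers hx0 (Subgroup.mem_centralizer_singleton_iff.2 hxy.symm)⟩
  rw [h, Subgroup.mem_bot] at hyP
  exact hy1 hyP

/-- **Bender-Glauberman 13.13.** -/
theorem kappa_sigma (hM : IsCoatom M) {p : ℕ} (hp : p ∈ kappa M) {P : Subgroup G} (hPM : P ≤ M)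
    (hP : Nat.card P = p) (hL : IsCoatom L) (hNL : Subgroup.normalizer (P : Set G) ≤ L) :
    p ∈ sigma L := by
  have := Fact.mk hp.1
  obtain ⟨hpσ, hp1, hC⟩ := F.kappa_fixed hM hp hPM hP
  have hPp := isPGroup_of_card_prime hP
  obtain ⟨q, hq, hqd⟩ := Nat.exists_prime_and_dvd (mt Subgroup.card_eq_one.1 hC)
  have := Fact.mk hq
  obtain ⟨X, hXC, hX⟩ := exists_prime_subgroup hqd
  have hXs : X ≤ sigmaCore M := hXC.trans inf_le_left
  have hXP : X ≤ Subgroup.centralizer (P : Set G) := hXC.trans inf_le_right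
  have hqσ : q ∈ sigma M := (F.s1350 M hM).1.2.1 q hq (hX ▸ Subgroup.card_dvd_of_le hXs)
  have hcu := (F.fixed_unique hM hpσ hp1 hPM hP hXC hX).1
  by_contra hpL
  have hnc := F.not_conj_of_normalizer hM hL hpσ hp1 hP hNL
  have hτ := F.mem_tau2 hL hp.1 hpL (F.s1409 L hL p hpL P hP hNL).1.2
  have hqL : q ∉ sigma L := F.sigma_sep hM hL hnc hqσ
  have hCL : Subgroup.centralizer (P : Set G) ≤ L := (Subgroup.centralizer_le_normalizer _).trans hNL
  obtain ⟨E, A, hE, hYE, hAE, hA, hAc, hEA, hlines, -⟩ := F.exists_compl_tau2 hL hτ (Y := X ⊔ P)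
    (sup_le (hXP.trans hCL) (Subgroup.le_normalizer.trans hNL)) fun r hr hd => by
      rcases hr.dvd_mul.1 (hd.trans (pair_relIndex.card_sup_dvd_mul
        (hXP.trans (Subgroup.centralizer_le_normalizer _)))) with h | h
      · exact eq_of_dvd_card_pGroup (isPGroup_of_card_prime hX) hr h ▸ hqL
      · exact eq_of_dvd_card_pGroup hPp hr h ▸ hpL
  have hA1 : A ≠ ⊥ := fun h => by
    rw [h, Subgroup.card_bot] at hAc
    exact (Nat.one_lt_pow two_ne_zero hp.1.one_lt).ne hAc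
  obtain ⟨N, hN, hNN⟩ := F.exists_max_normalizer (Signalizer.isPGroup_of_elemAb hA) hA1
  have hLN : ¬ Subgroup.normalizer (A : Set G) ≤ L :=
    (F.s1418 L hL E hE p hτ A ⟨hAE, hA, hAc⟩).2.1.2.2
  have hne : N ≠ L := fun h => hLN (h ▸ hNN)
  have hAN : A ≤ N := Subgroup.le_normalizer.trans hNN
  have hpN : p ∈ sigma N := by_contra fun h => by
    obtain ⟨EN, hEN, hAEN⟩ := F.exists_compl_ge hN hAN fun r hr hd =>
      eq_of_dvd_card_pGroup (Signalizer.isPGroup_of_elemAb hA) hr hd ▸ h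
    exact (F.s1418 N hN EN hEN p (F.mem_tau2 hN hp.1 h (not_prankLE_one hA hAc hAN)) A
      ⟨hAEN, hA, hAc⟩).2.1.2.2 hNN
  have hncN : ∀ g : G, N ≠ MulAut.conj g • M := not_conj_of_sigma hpN hpσ
  have hqN : q ∉ sigma N := F.sigma_sep hM hN hncN hqσ
  have hXN : X ≤ N := ((le_sup_left.trans hYE).trans hEA).trans hNN
  have hPN : P ≤ N := (hlines P (le_sup_right.trans hYE) hP).trans hAN
  have hPNs : P ≤ sigmaCore N := F.le_sigmaCore_of_pGroup hN hpN hPp hPN
  have hPX : P ≤ Subgroup.centralizer (X : Set G) := Subgroup.le_centralizer_iff.1 hXP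
  have hq1 : PRankLE q 1 N := by_contra fun h => by
    obtain ⟨EN, B, hEN, hXEN, hBE, hB, hBc, -, hlinesN, -⟩ :=
      F.exists_compl_tau2 hN (F.mem_tau2 hN hq hqN h) (Y := X) hXN fun r hr hd =>
        eq_of_dvd_card_pGroup (isPGroup_of_card_prime hX) hr hd ▸ hqN
    have hu := (F.s1418 N hN EN hEN q (F.mem_tau2 hN hq hqN h) B ⟨hBE, hB, hBc⟩).2.2 X
      (hlinesN X hXEN hX) hX
      fun h0 => ne_bot_of_card_prime hp.1 hP (le_bot_iff.1 (h0 ▸ le_inf hPNs hPX))
    exact hncN 1 (by rw [Solvable.conj_one_smul]; exact (hu.2 M hM hcu.1).symm)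
  have hu := (F.fixed_unique hN hqN hq1 hXN hX (le_inf hPNs hPX) hP).1
  exact hne (hu.2 L hL hCL).symm

/-- **Bender-Glauberman 13.12.** -/
theorem tau12_fixed_bot (hM : IsCoatom M) {E : Subgroup G} (hE : IsComplIn E (sigmaCore M) M) {p : ℕ}
    (hp : p ∈ tau1 M) {P : Subgroup G} (hPE : P ≤ E) (hP : Nat.card P = p) {r : ℕ} (hr : r ∈ tau2 M)
    {R : Subgroup G} (hRE : R ≤ E) (hRP : R ≤ Subgroup.centralizer (P : Set G)) (hR : Nat.card R = r) :
    sigmaCore M ⊓ Subgroup.centralizer (P : Set G) = ⊥ := by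
  have := Fact.mk hp.1
  have := Fact.mk hr.1
  by_contra hC
  set C := sigmaCore M ⊓ Subgroup.centralizer (P : Set G) with hCdef
  have hPp := isPGroup_of_card_prime hP
  have hRp := isPGroup_of_card_prime hR
  have hPM : P ≤ M := hPE.trans hE.1
  have hrp : r ≠ p := fun h => (h ▸ hr : p ∈ tau2 M).2.2.2 hp.2.2.2.2
  obtain ⟨A, hAE, hA, hAc, hEA, hlines, -⟩ := F.compl_tau2 hM hr hE
  have hRA : R ≤ A := hlines R hRE hR
  have hbot := (F.s1417 M hM r hr A ⟨hAE.trans hE.1, hA, hAc⟩).2.2.2.1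
  have hCR : C ≤ Subgroup.centralizer (R : Set G) :=
    F.le_centralizer_of_tau1 hM hp hPM hP (hRE.trans hE.1) hRP hr.1 hR hr.2.1
  have hcuR := (F.s1418 M hM E hE r hr A ⟨hAE, hA, hAc⟩).2.2 R hRA hR
    fun h => hC (le_bot_iff.1 (h ▸ le_inf inf_le_left hCR))
  by_cases hPA : P ≤ Subgroup.centralizer (A : Set G)
  · refine hC (le_bot_iff.1 (hbot ▸ le_inf inf_le_left (Subgroup.le_centralizer_iff.1 fun a ha => ?_)))
    by_cases ha1 : a = 1
    · exact ha1 ▸ Subgroup.one_mem _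
    exact (Subgroup.le_centralizer_iff.1 (F.le_centralizer_of_tau1 hM hp hPM hP
      (R := Subgroup.zpowers a) (Subgroup.zpowers_le.2 (hE.1 (hAE ha)))
      (Subgroup.zpowers_le.2 ((Subgroup.le_centralizer_iff.1 hPA) ha)) hr.1 (OddTau2.card_line hA ha ha1)
      hr.2.1)) (Subgroup.mem_zpowers a)
  have hA1 : A ≠ ⊥ := fun h => by
    rw [h, Subgroup.card_bot] at hAc
    exact (Nat.one_lt_pow two_ne_zero hr.1.one_lt).ne hAc
  have hAp := Signalizer.isPGroup_of_elemAb hA
  obtain ⟨N, hN, hNN⟩ := F.exists_max_normalizer hAp hA1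
  have hAN : A ≤ N := Subgroup.le_normalizer.trans hNN
  have hrN : r ∈ sigma N := by_contra fun h => by
    obtain ⟨EN, hEN, hAEN⟩ := F.exists_compl_ge hN hAN fun s hs hd =>
      eq_of_dvd_card_pGroup hAp hs hd ▸ h
    exact (F.s1418 N hN EN hEN r (F.mem_tau2 hN hr.1 h (not_prankLE_one hA hAc hAN)) A
      ⟨hAEN, hA, hAc⟩).2.1.2.2 hNN
  have hncN : ∀ g : G, N ≠ MulAut.conj g • M := not_conj_of_sigma hrN hr.2.1
  have hPN : P ≤ N := (hPE.trans hEA).trans hNN
  have hpN : p ∉ sigma N := fun h => hPA <| F.le_centralizer_sigmaCore hN (F.tau2_not_beta hM hr) hAp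
    (F.le_sigmaCore_of_pGroup hN hrN hAp hAN) (F.le_sigmaCore_of_pGroup hN h hPp hPN)
    (by rw [hP]; exact (Nat.coprime_primes hp.1 hr.1).2 hrp.symm) (hPE.trans hEA)
  have hRN : R ≤ sigmaCore N := F.le_sigmaCore_of_pGroup hN hrN hRp (hRA.trans hAN)
  by_cases hp1N : PRankLE p 1 N
  · have hu := (F.fixed_unique hN hpN hp1N hPN hP (le_inf hRN hRP) hR).1
    exact hncN 1 (by rw [Solvable.conj_one_smul]; exact (hu.2 M hM hcuR.1).symm)
  have hτ := F.mem_tau2 hN hp.1 hpN hp1N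
  obtain ⟨EN, B, hEN, hPEN, hBE, hB, hBc, -, hlinesN, -⟩ :=
    F.exists_compl_tau2 hN hτ (Y := P) hPN fun s hs hd => eq_of_dvd_card_pGroup hPp hs hd ▸ hpN
  have hu := (F.s1418 N hN EN hEN p hτ B ⟨hBE, hB, hBc⟩).2.2 P (hlinesN P hPEN hP) hP
    fun h0 => ne_bot_of_card_prime hr.1 hR (le_bot_iff.1 (h0 ▸ le_inf hRN hRP))
  have h1 : ⁅C, A⁆ ≤ sigmaCore M ⊓ sigmaCore N := le_inf
    ((Subgroup.commutator_mono inf_le_left le_rfl).trans
      (Subgroup.le_normalizer_iff_commutator_le_left.1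
        ((hAE.trans hE.1).trans (OddMax.le_normalizer_sigmaCore M))))
    ((Subgroup.commutator_mono le_rfl (F.le_sigmaCore_of_pGroup hN hrN hAp hAN)).trans
      (Subgroup.le_normalizer_iff_commutator_le_right.1
        ((inf_le_right.trans hu.1).trans (OddMax.le_normalizer_sigmaCore N))))
  rw [F.sigmaCore_inf_bot hM hN hncN, le_bot_iff, Subgroup.commutator_eq_bot_iff_le_centralizer] at h1
  exact hC (le_bot_iff.1 (hbot ▸ le_inf inf_le_left h1))

/-! ### The shapes used in section 14 -/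

theorem bg13_6 : ∀ (M : Subgroup G), IsCoatom M → ∀ p ∈ Cfsg.kappa M, ∀ P : Subgroup G, P ≤ M →
    Nat.card P = p → ∀ (q : ℕ), q.Prime → ∀ X : Subgroup G,
      X ≤ Cfsg.sigmaCore M ⊓ Subgroup.centralizer (P : Set G) → Nat.card X = q →
        (Subgroup.centralizer (X : Set G) ≤ M ∧
          ∀ L : Subgroup G, IsCoatom L → Subgroup.centralizer (X : Set G) ≤ L → L = M) ∧
        ∀ S : Sylow q ↥(Cfsg.sigmaCore M),
          Cfsg.InUniqueMaximal ((S : Subgroup ↥(Cfsg.sigmaCore M)).map (Cfsg.sigmaCore M).subtype) := by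
  intro M hM p hp P hPM hP q hq X hX hXc
  have := Fact.mk hp.1
  have := Fact.mk hq
  obtain ⟨hpσ, hp1, -⟩ := F.kappa_fixed hM hp hPM hP
  obtain ⟨hu, hS⟩ := F.fixed_unique hM hpσ hp1 hPM hP hX hXc
  exact ⟨hu, fun S => hS _ (S.isPGroup'.map _) (Subgroup.map_subtype_le _) (OddMax.sylow_relIndex S)⟩

theorem bg13_9 : ∀ M N : Subgroup G, IsCoatom M → IsCoatom N →
    (Cfsg.sigma M ∩ Cfsg.sigma N).Nonempty →
      ∃ g : G, N = M.map (MulAut.conj g).toMonoidHom :=
  fun M N hM hN ⟨q, hqM, hqN⟩ => F.sigma_disjoint hM hN hqM hqN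

theorem bg13_11 : ∀ (M : Subgroup G), IsCoatom M → ∀ E : Subgroup G,
    Cfsg.IsComplIn E (Cfsg.sigmaCore M) M → ∀ p ∈ Cfsg.tau3 M, ∀ x ∈ E, orderOf x = p →
      Cfsg.sigmaCore M ⊓ Subgroup.centralizer ({x} : Set G) ≠ ⊥ →
        (∀ q : ℕ, q.Prime → q ∣ Nat.card E → q ∈ Cfsg.tau1 M ∪ Cfsg.tau3 M) ∧
        (∀ e ∈ E, e ≠ 1 → Cfsg.sigmaCore M ⊓ Subgroup.centralizer ({e} : Set G) =
          Cfsg.sigmaCore M ⊓ Subgroup.centralizer (E : Set G)) ∧
        ∀ X : Subgroup G, X ≤ E → (Nat.card X).Prime → E ≤ Subgroup.normalizer (X : Set G) := by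
  intro M hM E hE p hp x hx hxo hC
  rw [centralizer_singleton_eq] at hC
  obtain ⟨h1, h2, h3, h4⟩ := F.tau3_structure hM hE hp (Subgroup.zpowers_le.2 hx)
    (by rw [Nat.card_zpowers, hxo]) hC
  refine ⟨h1, fun e he he1 => le_antisymm ?_ (inf_le_inf_left _ (Subgroup.centralizer_le (by simpa using he))),
    h4⟩
  obtain ⟨t, ht, -, e0, he0, he0o⟩ := OddMax.exists_prime_part he1
  refine le_inf inf_le_left ?_
  refine le_trans ?_ (Subgroup.le_centralizer_iff.1 h3)
  refine le_trans (inf_le_inf_left _ (OddMax.centralizer_le_of_mem_zpowers he0)) (le_of_eq ?_)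
  exact h2 _ (Subgroup.zpowers_le.2 (Subgroup.zpowers_le.2 he he0))
    (by rw [Nat.card_zpowers, he0o]; exact ht)

theorem bg13_12 : ∀ (M : Subgroup G), IsCoatom M → ∀ E : Subgroup G,
    Cfsg.IsComplIn E (Cfsg.sigmaCore M) M → ∀ p ∈ Cfsg.tau1 M, ∀ P : Subgroup G, P ≤ E →
      Nat.card P = p → ∀ q ∈ Cfsg.tau2 M, ∀ R : Subgroup G,
        R ≤ E ⊓ Subgroup.centralizer (P : Set G) → Nat.card R = q →
        Cfsg.sigmaCore M ⊓ Subgroup.centralizer (P : Set G) = ⊥ :=
  fun _ hM _ hE _ hp _ hPE hP _ hq _ hRE hR =>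
    F.tau12_fixed_bot hM hE hp hPE hP hq (hRE.trans inf_le_left) (hRE.trans inf_le_right) hR

theorem bg13_13 : ∀ (M : Subgroup G), IsCoatom M → ∀ p ∈ Cfsg.kappa M, ∀ P : Subgroup G, P ≤ M →
    Nat.card P = p → ∀ L : Subgroup G, IsCoatom L → Subgroup.normalizer (P : Set G) ≤ L →
      p ∈ Cfsg.sigma L :=
  fun _ hM _ hp _ hPM hP _ hL hNL => F.kappa_sigma hM hp hPM hP hL hNL

end Facts

end Cfsg.Agent.OddPrime
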