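import Cfsg.Agent.Lib.OddPrime.NonabelianUnique
import Cfsg.Agent.Lib.OddPrime.CentRank

/-!
Bender-Glauberman 12.14-12.16 for `σ(M)`-elements:
* `unique_centralizer` (12.14): `X ≤ M` of order `p`, `p ∈ β(M)` or `X ≤ M_σ'`
* `pair_not_conj`, `pair_normalizer_le`, `pair_sylow` (12.15 a-c), `pair_tau2`, `pair_compl`,
  `pair_relIndex` (12.15 d, e)
* `exists_conj_le_sigmaCore` (12.16)
-/

set_option autoImplicit false
set_option linter.unusedVariables false
set_option linter.unusedSectionVars false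

universe u

namespace Cfsg.Agent.OddPrime

open scoped Pointwise commutatorElement

variable {G : Type u} [Group G] [Finite G]

/-- `C(X)` lies in `M` and in no other maximal subgroup. -/
def CUnique (M X : Subgroup G) : Prop :=
  Subgroup.centralizer (X : Set G) ≤ M ∧
    ∀ L : Subgroup G, IsCoatom L → Subgroup.centralizer (X : Set G) ≤ L → L = M

theorem unique_conj {K : Subgroup G} (h : InUniqueMaximal K) (g : G) :
    InUniqueMaximal (MulAut.conj g • K) := by
  obtain ⟨M, ⟨hM, hKM⟩, hu⟩ := h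
  refine ⟨MulAut.conj g • M, ⟨OddSigma.isCoatom_conj hM g, Solvable.conj_mono g hKM⟩, fun L hL => ?_⟩
  have h1 := Solvable.conj_mono g⁻¹ hL.2
  rw [Solvable.conj_inv_smul] at h1
  have h2 := hu _ ⟨OddSigma.isCoatom_conj hL.1 g⁻¹, h1⟩
  rw [← h2, Solvable.conj_conj, mul_inv_cancel, Solvable.conj_one_smul]

namespace Facts

variable (F : Facts G) {M N : Subgroup G}
include F

theorem centralizer_ne_top {X : Subgroup G} (hX : X ≠ ⊥) :
    Subgroup.centralizer (X : Set G) ≠ ⊤ := by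
  obtain ⟨b, hb⟩ := Subgroup.ne_bot_iff_exists_ne_one.1 hX
  exact OddTrans.centralizer_ne_top F.hG.2.1 F.hG.2.2.1 b.2 fun h => hb (Subtype.ext h)

theorem normalizer_ne_top {X : Subgroup G} (hX : X ≠ ⊥) (hX' : X ≠ ⊤) :
    Subgroup.normalizer (X : Set G) ≠ ⊤ := OddSigma.normalizer_ne_top F.hG hX hX'

theorem cunique_of_unique (hM : IsCoatom M) {X W : Subgroup G} (hX : X ≠ ⊥)
    (hW : InUniqueMaximal W) (hWM : W ≤ M) (hWX : W ≤ Subgroup.centralizer (X : Set G)) :
    CUnique M X :=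
  ⟨OddSigma.le_of_unique hW hM hWM hWX (F.centralizer_ne_top hX),
    fun L hL hle => hW.unique ⟨hL, hWX.trans hle⟩ ⟨hM, hWM⟩⟩

theorem unique_of_elementary {p : ℕ} [hp : Fact p.Prime] {E : Subgroup G}
    (hE : IsElementaryAbelian p E) (hc : p ^ 3 ≤ Nat.card E) : InUniqueMaximal E :=
  F.unique_of_rank_three (F.ne_top_of_isPGroup (Signalizer.isPGroup_of_elemAb hE))
    (OddSigma.not_prankLE_of_le le_rfl hE
      (lt_of_lt_of_le (Nat.pow_lt_pow_right hp.out.one_lt (by norm_num)) hc))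

/-- **Bender-Glauberman 12.14.** -/
theorem unique_centralizer (hM : IsCoatom M) {p : ℕ} [hp : Fact p.Prime] (hpσ : p ∈ sigma M)
    {X : Subgroup G} (hXM : X ≤ M) (hX : Nat.card X = p)
    (h : p ∈ beta M ∨ X ≤ ⁅sigmaCore M, sigmaCore M⁆) :
    CUnique M X ∧ ∀ P : Subgroup G, IsPGroup p P → P ≤ sigmaCore M →
      ¬ p ∣ P.relIndex (sigmaCore M) → InUniqueMaximal P := by
  have hX1 : X ≠ ⊥ := ne_bot_of_card_prime hp.out hX
  have hXp : IsPGroup p X := isPGroup_of_card_prime hX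
  obtain ⟨T0, hT0⟩ := (hXp.comap_of_injective M.subtype M.subtype_injective).exists_le_sylow
  set T := (T0 : Subgroup M).map M.subtype with hT
  have hTp : IsPGroup p T := T0.isPGroup'.map _
  have hTM : T ≤ M := Subgroup.map_subtype_le _
  have hXT : X ≤ T := fun x hx => ⟨⟨x, hXM hx⟩, hT0 hx, rfl⟩
  have hTi : ¬ p ∣ T.relIndex M := OddMax.sylow_relIndex T0
  have hTs : T ≤ sigmaCore M := F.le_sigmaCore_of_pGroup hM hpσ hTp hTM
  have hTis : ¬ p ∣ T.relIndex (sigmaCore M) := fun hd => hTi (hd.trans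
    (Dvd.intro _ (Subgroup.relIndex_mul_relIndex T _ M hTs (OddMax.sigmaCore_le M))))
  have hp2 : p ≠ 2 := F.prime_ne_two (H := X) (by rw [hX])
  have hxp : ∀ x ∈ X, x ^ p = 1 := fun x hx => by
    have := congrArg Subtype.val (pow_card_eq_one' (x := (⟨x, hx⟩ : X)))
    simpa [hX] using this
  suffices key : CUnique M X ∧ InUniqueMaximal T by
    refine ⟨key.1, fun P hP hPs hPi => ?_⟩
    obtain ⟨m, -, rfl⟩ := exists_conj_sylow hTp hTs hTis hP hPs hPi
    exact unique_conj key.2 m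
  -- it is enough to find an elementary subgroup of order `p ^ 3` in `C_M(X)`
  have henough : ∀ E : Subgroup G, IsElementaryAbelian p E → p ^ 3 ≤ Nat.card E → E ≤ T →
      E ≤ Subgroup.centralizer (X : Set G) → CUnique M X ∧ InUniqueMaximal T := fun E hE hc hET hEX =>
    ⟨F.cunique_of_unique hM hX1 (F.unique_of_elementary hE hc) (hET.trans hTM) hEX,
      OddSigma.unique_mono F.hG (F.unique_of_elementary hE hc) hET (F.ne_top_of_isPGroup hTp)⟩
  by_cases hpβ : p ∈ beta M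
  · have hβ := hpβ
    have hr : ¬ PRankLE p 2 ↥T := fun h => hβ.1.2 (OddSigma.prankLE_of_sylow T0 h)
    have hTu := F.unique_of_rank_three (F.ne_top_of_isPGroup hTp) hr
    refine ⟨?_, hTu⟩
    by_cases hXc : T ≤ Subgroup.centralizer (X : Set G)
    · exact F.cunique_of_unique hM hX1 hTu hTM hXc
    obtain ⟨z, hz, hzo⟩ := exists_center (P := T) hTp (fun h => hX1 (le_bot_iff.1 (h ▸ hXT)))
    have hzc : z ∈ Subgroup.centralizer (X : Set G) := fun x hx => hz.2 x (hXT hx)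
    have hXe : IsElementaryAbelian p X := by
      have : IsCyclic X := isCyclic_of_prime_card hX
      exact ⟨IsCyclic.isMulCommutative, hxp⟩
    have hzp : z ^ p = 1 := hzo ▸ pow_orderOf_eq_one z
    have hA := OddSigma.elementary_sup_zpowers hXe hzp hzc
    have hzX : z ∉ X := fun hmem => hXc (by
      have h1 : Subgroup.zpowers z = X := Subgroup.eq_of_le_of_card_ge (Subgroup.zpowers_le.2 hmem)
        (by rw [hX, Nat.card_zpowers, hzo])
      intro t ht x hx
      rw [SetLike.mem_coe, ← h1] at hx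
      obtain ⟨i, rfl⟩ := Subgroup.mem_zpowers_iff.1 hx
      exact ((Commute.zpow_left (show Commute z t from (hz.2 t ht).symm) i)).eq)
    have hAT : X ⊔ Subgroup.zpowers z ≤ T := sup_le hXT (Subgroup.zpowers_le.2 hz.1)
    obtain ⟨j, hj⟩ := (Signalizer.isPGroup_of_elemAb hA).exists_card_eq
    have hlt : Nat.card X < Nat.card ↥(X ⊔ Subgroup.zpowers z) :=
      (Subgroup.card_le_of_le le_sup_left).lt_of_ne fun h => hzX
        ((Subgroup.eq_of_le_of_card_ge le_sup_left h.ge).symm ▸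
          Subgroup.mem_sup_right (Subgroup.mem_zpowers z) : z ∈ X)
    rw [hX, hj] at hlt
    have hj2 : 2 ≤ j := (Nat.pow_lt_pow_iff_right hp.out.one_lt).1 ((pow_one p).symm ▸ hlt)
    rcases Nat.lt_or_ge j 3 with hj3 | hj3
    · obtain rfl : j = 2 := by omega
      have hTi' := F.not_dvd_index_of_sylow hM hpσ hTM hTi
      obtain ⟨B, hBT, hB, hAB⟩ := hβ.2.2.2 (hTp.toSylow hTi') (X ⊔ Subgroup.zpowers z)
        hAT hA hj
      obtain ⟨i, hi⟩ := (Signalizer.isPGroup_of_elemAb hB).exists_card_eq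
      have hlt2 : p ^ 2 < Nat.card B := hj ▸
        (Subgroup.card_le_of_le hAB.le).lt_of_ne fun h =>
          hAB.ne (Subgroup.eq_of_le_of_card_ge hAB.le h.ge)
      rw [hi] at hlt2
      refine (henough B hB ?_ hBT fun b hb x hx => ?_).1
      · rw [hi]; exact Nat.pow_le_pow_right hp.out.pos ((Nat.pow_lt_pow_iff_right hp.out.one_lt).1 hlt2)
      · exact OddSigma.elem_comm hB (hAB.le (Subgroup.mem_sup_left hx)) hb
    · refine (henough _ hA (hj ▸ Nat.pow_le_pow_right hp.out.pos hj3) hAT fun a ha x hx => ?_).1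
      exact OddSigma.elem_comm hA (Subgroup.mem_sup_left hx) ha
  have hXd := h.resolve_left hpβ
  -- `X ≤ T'`
  obtain ⟨-, hnc, -⟩ := (F.s1414 M hM).2.2.2.2 p hp.out (hpσ.2.1) hpβ
  have hXT' : X ≤ ⁅T, T⁆ := by
    obtain ⟨T1, hT1⟩ := OddMax.exists_sylow_eq hTp hTs hTis
    obtain ⟨N, hNn, hNT⟩ := (Transfer.hasNormalPComplement_iff_sylow T1).1 hnc
    intro x hx
    obtain ⟨y, hy, rfl⟩ := hXT hx
    set π := QuotientGroup.mk' N
    set w : sigmaCore M := ⟨y, hTs (hXT hx)⟩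
    have hw : w ∈ commutator (sigmaCore M) := by
      have := hXd hx
      rw [← Subgroup.map_subtype_commutator] at this
      obtain ⟨v, hv, hvy⟩ := this
      have : v = w := Subtype.ext hvy
      exact this ▸ hv
    have h1 : π w ∈ (⁅(T1 : Subgroup (sigmaCore M)), (T1 : Subgroup (sigmaCore M))⁆).map π := by
      rw [Subgroup.map_commutator]
      have htop : (T1 : Subgroup (sigmaCore M)).map π = ⊤ := by
        rw [eq_top_iff]
        intro v _
        obtain ⟨u, rfl⟩ := QuotientGroup.mk'_surjective N v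
        obtain ⟨⟨n, t⟩, hnt, -⟩ := hNT.existsUnique u
        refine ⟨t, t.2, ?_⟩
        rw [← hnt, map_mul, (QuotientGroup.eq_one_iff _).2 n.2 |> fun e => (show π n = 1 from e),
          one_mul]
      rw [htop, ← Subgroup.map_top_of_surjective π (QuotientGroup.mk'_surjective N),
        ← Subgroup.map_commutator]
      exact ⟨w, commutator_def (sigmaCore M) ▸ hw, rfl⟩
    obtain ⟨t, ht, htw⟩ := h1
    have hTT : ⁅(T1 : Subgroup (sigmaCore M)), (T1 : Subgroup (sigmaCore M))⁆ ≤ (T1 : Subgroup (sigmaCore M)) :=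
      Subgroup.commutator_le_self _
    have hwT : w ∈ (T1 : Subgroup (sigmaCore M)) := by
      have := hXT hx
      rw [← hT1] at this
      obtain ⟨v, hv, hvy⟩ := this
      have : v = w := Subtype.ext hvy
      exact this ▸ hv
    have h2 : t⁻¹ * w ∈ N ⊓ (T1 : Subgroup (sigmaCore M)) :=
      ⟨(QuotientGroup.eq_one_iff _).1 (show π (t⁻¹ * w) = 1 by rw [map_mul, map_inv, htw]; group),
        Subgroup.mul_mem _ (Subgroup.inv_mem _ (hTT ht)) hwT⟩
    rw [disjoint_iff.1 hNT.disjoint, Subgroup.mem_bot, inv_mul_eq_one] at h2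
    subst h2
    have h3 : ((w : sigmaCore M) : G) ∈
        (⁅(T1 : Subgroup (sigmaCore M)), (T1 : Subgroup (sigmaCore M))⁆).map (sigmaCore M).subtype :=
      ⟨w, ht, rfl⟩
    rwa [Subgroup.map_commutator, hT1] at h3
  have hTi' := F.not_dvd_index_of_sylow hM hpσ hTM hTi
  by_cases hr : PRankLE p 2 ↥T
  · obtain hab | ⟨P₁, P₂, hsup, hcomm, hna, hc3, -, hP2, -⟩ := F.s1412 p (hTp.toSylow hTi') hr
    · exact (hX1 (le_bot_iff.1 (hXT'.trans (le_of_eq
        (Subgroup.commutator_self_eq_bot_iff.2 hab))))).elim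
    have hsup' : P₁ ⊔ P₂ = T := hsup
    obtain ⟨-, hcZ⟩ := cube_center hc3 hna
    have hP12 : P₂ ≤ Subgroup.normalizer (P₁ : Set G) :=
      (show P₂ ≤ Subgroup.centralizer (P₁ : Set G) from fun b hb a ha => hcomm a ha b hb).trans
        (Subgroup.centralizer_le_normalizer _)
    have hTna : ¬ IsMulCommutative T := fun h => hna ⟨⟨fun a b => Subtype.ext (congrArg
      (fun t : T => (t : G)) (h.is_comm.comm ⟨a, hsup' ▸ Subgroup.mem_sup_left a.2⟩
        ⟨b, hsup' ▸ Subgroup.mem_sup_left b.2⟩))⟩⟩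
    have hTu := F.unique_of_nonabelian hTp hTna
    have hT' : ⁅T, T⁆ ≤ Subgroup.centralizer (T : Set G) := by
      rw [Subgroup.commutator_le]
      intro g hg k hk
      rw [← hsup', Coprime.mem_sup_iff hP12] at hg hk
      obtain ⟨a, ha, b, hb, rfl⟩ := hg
      obtain ⟨c, hc, d, hd, rfl⟩ := hk
      have hbd : Commute b d := congrArg (fun t : P₂ => (t : G))
        ((IsCyclic.isMulCommutative (α := P₂)).is_comm.comm ⟨b, hb⟩ ⟨d, hd⟩)
      have e : ⁅a * b, c * d⁆ = a * c * a⁻¹ * c⁻¹ := by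
        have h1 : Commute c b := hcomm c hc b hb
        have h2 : Commute a d := hcomm a ha d hd
        have h3 : Commute c d := hcomm c hc d hd
        calc ⁅a * b, c * d⁆ = a * (b * c) * d * b⁻¹ * a⁻¹ * d⁻¹ * c⁻¹ := by
              rw [commutatorElement_def]; group
          _ = a * c * (b * d * b⁻¹) * a⁻¹ * d⁻¹ * c⁻¹ := by rw [← h1.eq]; group
          _ = a * c * (d * a⁻¹) * d⁻¹ * c⁻¹ := by rw [hbd.eq]; group
          _ = a * c * a⁻¹ * c⁻¹ := by rw [← h2.inv_left.eq]; group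
      rw [e]
      have hz := hcZ a ha c hc
      intro t ht
      rw [SetLike.mem_coe, ← hsup', Coprime.mem_sup_iff hP12] at ht
      obtain ⟨u, hu, v, hv, rfl⟩ := ht
      have h1 : Commute u (a * c * a⁻¹ * c⁻¹) := hz.2 u hu
      have h2 : Commute v (a * c * a⁻¹ * c⁻¹) := (show Commute (a * c * a⁻¹ * c⁻¹) v from
        hcomm _ hz.1 v hv).symm
      exact (h1.mul_left h2).eq
    exact ⟨F.cunique_of_unique hM hX1 hTu hTM fun t ht x hx => ((hT' (hXT' hx)) t ht).symm, hTu⟩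
  · obtain ⟨x, hx1⟩ := Subgroup.ne_bot_iff_exists_ne_one.1 hX1
    obtain ⟨E0, hE0, hEe, hE3⟩ := OddSigma.exists_elementary hr
    have hxc : (⟨x, hXT x.2⟩ : T) ∈ commutator T := by
      have := hXT' x.2
      rw [← Subgroup.map_subtype_commutator] at this
      obtain ⟨v, hv, hvx⟩ := this
      exact (Subtype.ext hvx : v = ⟨x, hXT x.2⟩) ▸ hv
    obtain ⟨E1, hE1x, hE1c, hE1e, hE13⟩ := exists_elementary_centralizer hp2 hTp
      (E := E0.subgroupOf T)
      (fun a ha b hb => Subtype.ext (OddSigma.elem_comm hEe ha hb))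
      (fun a ha => Subtype.ext (by simpa using hEe.2 a ha))
      (by rwa [Cores.card_subgroupOf hE0]) hxc (Subtype.ext (by simpa using hxp x x.2))
    refine henough (E1.map T.subtype) ⟨?_, ?_⟩ ?_ (Subgroup.map_subtype_le _) ?_
    · refine ⟨⟨?_⟩⟩
      rintro ⟨_, a, ha, rfl⟩ ⟨_, b, hb, rfl⟩
      exact Subtype.ext (congrArg (fun t : E1 => ((t : T) : G)) (hE1c.is_comm.comm ⟨a, ha⟩ ⟨b, hb⟩))
    · rintro _ ⟨a, ha, rfl⟩
      rw [← map_pow, hE1e a ha, map_one]
    · rwa [Subgroup.card_map_of_injective T.subtype_injective]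
    · rintro _ ⟨a, ha, rfl⟩ y hy
      have hXz : Subgroup.zpowers (x : G) = X := Subgroup.eq_of_le_of_card_ge
        (Subgroup.zpowers_le.2 x.2) (by
          rw [hX, Nat.card_zpowers, orderOf_eq_prime (hxp x x.2) fun h => hx1 (Subtype.ext h)])
      rw [SetLike.mem_coe, ← hXz] at hy
      obtain ⟨i, rfl⟩ := Subgroup.mem_zpowers_iff.1 hy
      have h2 : Commute ((a : T) : G) (x : G) :=
        congrArg Subtype.val (Subgroup.mem_centralizer_singleton_iff.1 (hE1x ha))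
      exact (h2.zpow_right i).symm.eq


/-- **Bender-Glauberman 12.15 (a).** -/
theorem pair_not_conj (hM : IsCoatom M) {q : ℕ} [hq : Fact q.Prime] (hqσ : q ∈ sigma M)
    {X : Subgroup G} (hXq : IsPGroup q X) (hX1 : X ≠ ⊥) (hXM : X ≤ M)
    (hne : N ≠ M) (hNX : Subgroup.normalizer (X : Set G) ≤ N) (g : G) :
    N ≠ MulAut.conj g • M := by
  intro hg
  have hXN : X ≤ N := Subgroup.le_normalizer.trans hNX
  obtain ⟨m, hm, c, hc, hgc⟩ := (F.s1404 M hM q hqσ X hXq hX1 hXM).1 g⁻¹ (by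
    have h := Solvable.conj_mono g⁻¹ hXN
    rw [hg, Solvable.conj_inv_smul] at h
    exact h)
  have hcN : c⁻¹ ∈ N := N.inv_mem (hNX (Subgroup.centralizer_le_normalizer _ hc))
  apply hne
  have h1 : MulAut.conj c⁻¹ • M = N := by
    rw [hg, show g = c⁻¹ * m⁻¹ by rw [← mul_inv_rev, ← hgc, inv_inv], ← Solvable.conj_conj,
      Solvable.conj_eq_self (M.inv_mem hm)]
  rw [← Solvable.conj_inv_smul c⁻¹ M, h1, Solvable.conj_eq_self (N.inv_mem hcN)]

/-- The `q`-subgroups of `M ⊓ N` above `X` of `q'`-index: they are Sylow in `N` and their normalisers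
lie in `M` (**Bender-Glauberman 12.15 (b), (c)**). -/
theorem pair_sylow (hM : IsCoatom M) {q : ℕ} [hq : Fact q.Prime] (hqσ : q ∈ sigma M)
    {X : Subgroup G} (hNX : Subgroup.normalizer (X : Set G) ≤ N)
    {S : Subgroup G} (hS : IsPGroup q S) (hSD : S ≤ M ⊓ N) (hXS : X ≤ S)
    (hSi : ¬ q ∣ S.relIndex (M ⊓ N)) :
    Subgroup.normalizer (S : Set G) ≤ M ∧ ¬ q ∣ S.relIndex N := by
  have hSM : S ≤ M := hSD.trans inf_le_left
  have hSN : S ≤ N := hSD.trans inf_le_right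
  -- a `q`-subgroup of `M ⊓ N` over `S` is `S`
  have hmax : ∀ U : Subgroup G, IsPGroup q U → U ≤ M ⊓ N → ¬ S < U := fun U hU hUD hlt => by
    have hne1 : S.relIndex U ≠ 1 := fun h => hlt.not_ge (Subgroup.relIndex_eq_one.1 h)
    obtain ⟨r, hr, hrd⟩ := Nat.exists_prime_and_dvd hne1
    have hrp : r = q := eq_of_dvd_card_pGroup hU hr
      (hrd.trans (Dvd.intro_left _ (OddMax.card_mul_relIndex hlt.le)))
    exact hSi ((hrp ▸ hrd).trans (Dvd.intro _ (Subgroup.relIndex_mul_relIndex S _ _ hlt.le hUD)))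
  have hNSM : Subgroup.normalizer (S : Set G) ≤ M := by
    by_cases hc : IsCyclic S
    · obtain ⟨T0, hT0⟩ := (hS.comap_of_injective M.subtype M.subtype_injective).exists_le_sylow
      set T := (T0 : Subgroup M).map M.subtype with hT
      have hTM : T ≤ M := Subgroup.map_subtype_le _
      have hST : S ≤ T := fun x hx => ⟨⟨x, hSM hx⟩, hT0 hx, rfl⟩
      rcases hST.eq_or_lt with h | h
      · exact h ▸ OddSigma.sigma_normalizer_le hqσ T0
      · exfalso
        have h1 := OddTrans.lt_inf_normalizer (T0.isPGroup'.map M.subtype) h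
        refine hmax _ ((T0.isPGroup'.map M.subtype).to_le inf_le_left)
          (le_inf (inf_le_left.trans hTM) (inf_le_right.trans ?_)) h1
        exact le_trans (normalizer_le_of_cyclic hXS) hNX
    · obtain ⟨E, hE⟩ := F.exists_compl hM
      exact (F.s1420 M hM E hE).2.2.1 q S hqσ hS hSM hc
  refine ⟨hNSM, fun hd => ?_⟩
  obtain ⟨T0, hT0⟩ := (hS.comap_of_injective N.subtype N.subtype_injective).exists_le_sylow
  set T := (T0 : Subgroup N).map N.subtype with hT
  have hTN : T ≤ N := Subgroup.map_subtype_le _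
  have hST : S ≤ T := fun x hx => ⟨⟨x, hSN hx⟩, hT0 hx, rfl⟩
  rcases hST.eq_or_lt with h | h
  · exact OddMax.sylow_relIndex T0 (by rw [← hT, ← h]; exact hd)
  · exact hmax _ ((T0.isPGroup'.map N.subtype).to_le inf_le_left)
      (le_inf (inf_le_right.trans hNSM) (inf_le_left.trans hTN))
      (OddTrans.lt_inf_normalizer (T0.isPGroup'.map N.subtype) h)
where
  normalizer_le_of_cyclic {X S : Subgroup G} (hXS : X ≤ S) [IsCyclic S] :
      Subgroup.normalizer (S : Set G) ≤ Subgroup.normalizer (X : Set G) := fun g hg => by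
    refine Coprime.mem_normalizer_of_conj_eq (eq_of_card_eq_of_cyclic ?_ hXS (Solvable.card_conj g X))
    exact (Solvable.conj_mono g hXS).trans (Coprime.conj_eq_of_mem_normalizer hg).le

theorem exists_sylow_inf {q : ℕ} [hq : Fact q.Prime] {X : Subgroup G} (hXq : IsPGroup q X)
    (hXM : X ≤ M) (hXN : X ≤ N) :
    ∃ S : Subgroup G, IsPGroup q S ∧ S ≤ M ⊓ N ∧ X ≤ S ∧ ¬ q ∣ S.relIndex (M ⊓ N) := by
  obtain ⟨S0, hS0⟩ := (hXq.comap_of_injective (M ⊓ N).subtype
    (M ⊓ N).subtype_injective).exists_le_sylow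
  exact ⟨_, S0.isPGroup'.map _, Subgroup.map_subtype_le _,
    fun x hx => ⟨⟨x, hXM hx, hXN hx⟩, hS0 hx, rfl⟩, OddMax.sylow_relIndex S0⟩

/-- Two non-conjugate maximal subgroups with a common Sylow `q`-subgroup, `q` in both `σ`. -/
theorem pair_le_sup (hM : IsCoatom M) (hN : IsCoatom N) (hnc : ∀ g : G, N ≠ MulAut.conj g • M)
    {q : ℕ} [hq : Fact q.Prime] (hqM : q ∈ sigma M) (hqN : q ∈ sigma N) {S : Subgroup G}
    (hS : IsPGroup q S) (hSN : S ≤ N) (hSi : ¬ q ∣ S.relIndex N)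
    (hNS : Subgroup.normalizer (S : Set G) ≤ M) :
    q ∉ beta N ∧ N ≤ (M ⊓ N) ⊔ betaCore N ∧
      ∀ r : ℕ, r ∈ sigma M → ¬ r ∣ Nat.card (betaCore N) := by
  have hdisj : ∀ r : ℕ, r ∈ sigma M → r ∉ alpha N := fun r hr hα => by
    obtain ⟨g, hg⟩ := F.conj_of_alpha hN hM hα hr
    exact hnc g⁻¹ (by rw [hg, Solvable.conj_inv_smul])
  refine ⟨fun h => hdisj q hqM h.1, ?_, fun r hr hd =>
    hdisj r hr (OddTrans.piCoreOf_pi _ _ r hr.1 hd).1⟩
  exact (F.le_sup_betaCore hN hqN (fun h => hdisj q hqM h.1) hS hSN hSi).trans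
    (sup_le_sup_right (le_inf (inf_le_right.trans hNS) inf_le_left) _)

/-- **Bender-Glauberman 12.15 (e).** -/
theorem pair_tau2 (hM : IsCoatom M) (hN : IsCoatom N) {q : ℕ} [hq : Fact q.Prime]
    (hqσ : q ∈ sigma M) {X : Subgroup G} (hXq : IsPGroup q X) (hX1 : X ≠ ⊥) (hXM : X ≤ M)
    (hne : N ≠ M) (hNX : Subgroup.normalizer (X : Set G) ≤ N) (hqN : q ∉ sigma N) :
    q ∈ tau2 N ∧ Group.IsNilpotent (sigmaCore N) ∧ IsComplIn (M ⊓ N) (sigmaCore N) N ∧
      (∀ r : ℕ, r ∈ sigma M → r ∉ sigma N) ∧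
      ∃ A : Subgroup G, A ≤ M ⊓ N ∧ IsElementaryAbelian q A ∧ Nat.card A = q ^ 2 := by
  have hnc := F.pair_not_conj hM hqσ hXq hX1 hXM hne hNX
  have hXN : X ≤ N := Subgroup.le_normalizer.trans hNX
  obtain ⟨S, hS, hSD, hXS, hSi⟩ := F.exists_sylow_inf hXq hXM hXN
  obtain ⟨hNSM, hSiN⟩ := F.pair_sylow hM hqσ hNX hS hSD hXS hSi
  have hSN : S ≤ N := hSD.trans inf_le_right
  obtain ⟨P, hP⟩ := OddMax.exists_sylow_eq hS hSN hSiN
  have hτ : q ∈ tau2 N := by
    by_contra hτ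
    have := F.isCyclic_pSubgroup hN hqN hτ hS hSN
    apply hqN
    have hd : q ∣ Nat.card N := (dvd_card_of_ne_bot hXq hX1).trans (Subgroup.card_dvd_of_le hXN)
    exact OddSigma.sigma_of_sylow hq.out hd P
      (hP.symm ▸ fun g hg => hNX (pair_sylow.normalizer_le_of_cyclic hXS hg))
  obtain ⟨A, hAS, hA, hAc⟩ := OddSigma.exists_elementary (p := q) (k := 1) (H := S)
    fun h => hτ.2.2.2 (OddSigma.prankLE_of_sylow P (by rw [hP]; exact h))
  have hAN : A ≤ N := hAS.trans hSN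
  have hAM : A ≤ M := hAS.trans (hSD.trans inf_le_left)
  have hAc2 : Nat.card A = q ^ 2 := le_antisymm
    (not_lt.1 fun h => OddSigma.not_prankLE_of_le hAN hA h hτ.2.2.1) hAc
  obtain ⟨hnil, -, -, -, he, -⟩ := F.s1417 N hN q hτ A ⟨hAN, hA, hAc2⟩
  have hNsM : sigmaCore N ⊓ M = ⊥ := he M hM (Ne.symm hne) hAM
  obtain ⟨E, hE, hAE⟩ := F.exists_compl_ge hN hAN fun p hp hd =>
    eq_of_dvd_card_pGroup (Signalizer.isPGroup_of_elemAb hA) hp hd ▸ hqN
  obtain ⟨-, ⟨-, hEeq, -⟩, -⟩ := F.s1418 N hN E hE q hτ A ⟨hAE, hA, hAc2⟩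
  have hAnc : ¬ IsCyclic A := fun h => by
    obtain ⟨a, ha⟩ := h.exists_ofOrder_eq_natCard
    have h1 : orderOf a ∣ q := orderOf_dvd_of_pow_eq_one (Subtype.ext (hA.2 a a.2))
    rw [ha, hAc2] at h1
    have := Nat.le_of_dvd hq.out.pos h1
    have := hq.out.two_le
    nlinarith
  obtain ⟨E', hE'⟩ := F.exists_compl hM
  have hNA : Subgroup.normalizer (A : Set G) ≤ M := (F.s1420 M hM E' hE').2.2.1 q A hqσ
    (Signalizer.isPGroup_of_elemAb hA) hAM hAnc
  have hEM : E ≤ M := (hEeq ▸ inf_le_right).trans hNA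
  have hcomp : IsComplIn (M ⊓ N) (sigmaCore N) N := by
    suffices h : M ⊓ N = E by rwa [h]
    refine le_antisymm (fun m hm => ?_) (le_inf hEM hE.1)
    obtain ⟨e, he', s, hs, rfl⟩ := hE.2.2.2 m hm.2
    have : s ∈ sigmaCore N ⊓ M :=
      ⟨hs, by simpa using M.mul_mem (M.inv_mem (hEM he')) hm.1⟩
    rw [hNsM, Subgroup.mem_bot] at this
    rwa [this, mul_one]
  refine ⟨hτ, hnil, hcomp, fun r hrM hrN => ?_, A, le_inf hAM hAN, hA, hAc2⟩
  obtain ⟨g, hg⟩ := F.conj_of_nilpotent hN hM hnil hrN hrM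
  exact hnc g⁻¹ (by rw [hg, Solvable.conj_inv_smul])

/-- A `σ(M)`-prime does not divide `|N : M ⊓ N|` in the situation of 12.15. -/
theorem pair_relIndex (hM : IsCoatom M) (hN : IsCoatom N) {q : ℕ} [hq : Fact q.Prime]
    (hqσ : q ∈ sigma M) {X : Subgroup G} (hXq : IsPGroup q X) (hX1 : X ≠ ⊥) (hXM : X ≤ M)
    (hne : N ≠ M) (hNX : Subgroup.normalizer (X : Set G) ≤ N) {r : ℕ} (hr : r ∈ sigma M) :
    ¬ r ∣ (M ⊓ N).relIndex N := by
  intro hd
  by_cases hqN : q ∈ sigma N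
  · have hnc := F.pair_not_conj hM hqσ hXq hX1 hXM hne hNX
    obtain ⟨S, hS, hSD, hXS, hSi⟩ := F.exists_sylow_inf hXq hXM (Subgroup.le_normalizer.trans hNX)
    obtain ⟨hNSM, hSiN⟩ := F.pair_sylow hM hqσ hNX hS hSD hXS hSi
    obtain ⟨-, hle, hrK⟩ := F.pair_le_sup hM hN hnc hqσ hqN hS (hSD.trans inf_le_right) hSiN hNSM
    refine hrK r hr (hd.trans ?_)
    set K := betaCore N with hK
    have hKN : K ≤ N := OddTrans.piCoreOf_le _ _
    have hDK : M ⊓ N ≤ Subgroup.normalizer (K : Set G) :=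
      inf_le_right.trans (OddTrans.le_normalizer_piCoreOf _ _)
    refine Nat.dvd_of_mul_dvd_mul_left (k := Nat.card ↥(M ⊓ N)) Nat.card_pos ?_
    rw [OddMax.card_mul_relIndex inf_le_right]
    have hsup : (M ⊓ N) ⊔ K = N := le_antisymm (sup_le inf_le_right hKN) hle
    exact (dvd_of_eq (congrArg (fun L : Subgroup G => Nat.card L) hsup.symm)).trans
      (card_sup_dvd_mul hDK)
  · obtain ⟨-, -, hc, hdis, -⟩ := F.pair_tau2 hM hN hqσ hXq hX1 hXM hne hNX hqN
    rw [OddMax.compl_relIndex_right hc] at hd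
    exact hdis r hr ((F.s1350 N hN).1.2.1 r hr.1 hd)
where
  card_sup_dvd_mul {H K : Subgroup G} (hHK : H ≤ Subgroup.normalizer (K : Set G)) :
      Nat.card ↥(H ⊔ K) ∣ Nat.card H * Nat.card K := by
    set L := H ⊔ K with hL
    have hn : (K.subgroupOf L).Normal :=
      Subgroup.normal_subgroupOf_of_le_normalizer (sup_le hHK Subgroup.le_normalizer)
    have h1 := Solvable.card_sup_dvd (H.subgroupOf L) (K.subgroupOf L)
    rwa [← Subgroup.subgroupOf_sup le_sup_left le_sup_right, Subgroup.subgroupOf_self,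
      Subgroup.card_top, Cores.card_subgroupOf le_sup_left,
      Cores.card_subgroupOf le_sup_right] at h1

/-- A `π`-subgroup of a solvable `N` is conjugate into a subgroup of `π'`-index. -/
theorem exists_conj_le_of_relIndex (hN : Group.IsSolvable N) {π : Set ℕ} {D Y : Subgroup G}
    (hDN : D ≤ N) (hYN : Y ≤ N) (hY : ∀ r : ℕ, r.Prime → r ∣ Nat.card Y → r ∈ π)
    (hD : ∀ r : ℕ, r.Prime → r ∈ π → ¬ r ∣ D.relIndex N) :
    ∃ n ∈ N, MulAut.conj n • Y ≤ D := by
  have := hN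
  have := Coprime.isSolvable_of_le hDN hN
  obtain ⟨H, hH⟩ := Solvable.exists_piHall_of_solvable (G := D) π
  obtain ⟨hHD, hHπ, hHi⟩ := Solvable.isPiHallOf_map_subtype hH
  set H' := H.map D.subtype
  have hHall : IsPiHall π (H'.subgroupOf N) := Solvable.isPiHall_subgroupOf
    ⟨hHD.trans hDN, hHπ, fun r hr hrπ hd => by
      rw [← Subgroup.relIndex_mul_relIndex H' D N hHD hDN] at hd
      exact (hr.dvd_mul.1 hd).elim (hHi r hr hrπ) (hD r hr hrπ)⟩
  obtain ⟨n, hn⟩ := Solvable.exists_conj_ge_of_solvable hHall (U := Y.subgroupOf N) (by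
    rw [Cores.card_subgroupOf hYN]; exact hY)
  refine ⟨(n : G)⁻¹, N.inv_mem n.2, fun y hy => ?_⟩
  obtain ⟨u, hu, rfl⟩ := hy
  obtain ⟨h, hh, hhu⟩ := hn (show (⟨u, hYN hu⟩ : N) ∈ Y.subgroupOf N from hu)
  refine hHD ?_
  have h2 : (n : G) * h * (n : G)⁻¹ = u := congrArg Subtype.val hhu
  show (MulAut.conj (n : G)⁻¹) u ∈ H'
  rw [MulAut.conj_apply, ← h2]
  have h3 : (n : G)⁻¹ * ((n : G) * h * (n : G)⁻¹) * ((n : G)⁻¹)⁻¹ = (h : G) := by group
  rw [h3]
  exact hh

/-- **Bender-Glauberman 12.16.** -/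
theorem exists_conj_le_sigmaCore (hM : IsCoatom M) {Y : Subgroup G} (hY1 : Y ≠ ⊥)
    (hY : ∀ p : ℕ, p.Prime → p ∣ Nat.card Y → p ∈ sigma M) :
    ∃ g : G, MulAut.conj g • Y ≤ sigmaCore M := by
  have hYtop : Y ≠ ⊤ := by
    rintro rfl
    have hi : (sigmaCore M).index = 1 := by
      by_contra h
      obtain ⟨r, hr, hrd⟩ := Nat.exists_prime_and_dvd h
      refine (F.s1350 M hM).2.1.2 r hr (hY r hr ?_) hrd
      rw [Subgroup.card_top]
      exact hrd.trans (Subgroup.index_dvd_card _)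
    exact hM.1 (top_le_iff.1 ((Subgroup.index_eq_one.1 hi).ge.trans (OddMax.sigmaCore_le M)))
  have := OddSigma.proper_solvable F.hG hYtop
  have : Nontrivial Y := (Subgroup.nontrivial_iff_ne_bot Y).2 hY1
  obtain ⟨q, hq, X0, hX0n, hX01, hX0q⟩ := Solvable.exists_normal_pGroup_ne_bot Y
  have := Fact.mk hq
  set X := X0.map Y.subtype with hX
  have hXq : IsPGroup q X := hX0q.map _
  have hX1 : X ≠ ⊥ := fun h =>
    hX01 ((Subgroup.map_eq_bot_iff_of_injective _ Y.subtype_injective).1 h)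
  have hXY : X ≤ Y := Subgroup.map_subtype_le _
  have hYX : Y ≤ Subgroup.normalizer (X : Set G) := OddMax.le_normalizer_map_of_normal X0
  have hqσ : q ∈ sigma M := hY q hq ((dvd_card_of_ne_bot hXq hX1).trans (Subgroup.card_dvd_of_le hXY))
  obtain ⟨g, hg⟩ := OddSigma.exists_conj_le_of_sigma hqσ hXq
  have hX'M : MulAut.conj g⁻¹ • X ≤ M := by
    have := Solvable.conj_mono g⁻¹ hg
    rwa [Solvable.conj_inv_smul] at this
  set X' := MulAut.conj g⁻¹ • X with hX'
  set Y' := MulAut.conj g⁻¹ • Y with hY'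
  have hX'q : IsPGroup q X' := OddMax.isPGroup_conj _ hXq
  have hX'1 : X' ≠ ⊥ := fun h => hX1 (Subgroup.card_eq_one.1 (by
    rw [← Solvable.card_conj g⁻¹ X, ← hX', h, Subgroup.card_bot]))
  have hY'N : Y' ≤ Subgroup.normalizer (X' : Set G) := by
    rw [hX', OddMax.normalizer_conj]; exact Solvable.conj_mono _ hYX
  have hY'π : ∀ p : ℕ, p.Prime → p ∣ Nat.card Y' → p ∈ sigma M := fun p hp hd =>
    hY p hp (by rwa [hY', Solvable.card_conj] at hd)
  suffices h : ∃ n : G, MulAut.conj n • Y' ≤ M by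
    obtain ⟨n, hn⟩ := h
    refine ⟨n * g⁻¹, ?_⟩
    rw [← Solvable.conj_conj]
    exact F.le_sigmaCore_of_pi hM hn fun p hp hd => hY'π p hp (by rwa [Solvable.card_conj] at hd)
  by_cases hle : Subgroup.normalizer (X' : Set G) ≤ M
  · exact ⟨1, by rw [Solvable.conj_one_smul]; exact hY'N.trans hle⟩
  obtain ⟨N, hN, hNX⟩ := OddSigma.exists_coatom
    (F.normalizer_ne_top hX'1 (F.ne_top_of_isPGroup hX'q))
  have hne : N ≠ M := fun h => hle (h ▸ hNX)
  obtain ⟨n, -, hn⟩ := F.exists_conj_le_of_relIndex (F.solvable hN) (D := M ⊓ N) inf_le_right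
    (hY'N.trans hNX) hY'π fun r hr hrπ => F.pair_relIndex hM hN hqσ hX'q hX'1 hX'M hne hNX hrπ
  exact ⟨n, hn.trans inf_le_left⟩

end Facts

end Cfsg.Agent.OddPrime
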