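import Cfsg.Agent.Lib.OddPrime.OfInputs
import Cfsg.Agent.S1444

/-!
`OddPrime.facts`: the bundle `Facts G` for a minimal simple group of odd order.
-/

set_option autoImplicit false

universe u

namespace Cfsg.Agent.OddPrime

/-- `PLengthCommHyp` holds: statement S1444. -/
theorem pLengthCommHyp : OddSigma.PLengthCommHyp.{u} := by
  intro H _ _ hs ho A R R0 hA hc hR hR0 hp hZ p hpp
  have := hs
  have := hA
  have := Fact.mk hpp
  exact Cfsg.Agent.S1444.result ho A R R0 hc hR hR0 hp hZ p

theorem facts {G : Type u} [Group G] [Finite G] (hG : Cfsg.IsMinSimpleOddOrder G) : Facts G :=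
  Facts.of_pLengthCommHyp hG pLengthCommHyp

end Cfsg.Agent.OddPrime
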