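import Cfsg.Agent.Lib.OddPrime.Pairs
import Cfsg.Agent.Lib.Coprime.Abelian
import Cfsg.Agent.Lib.Coprime.PQ
import Mathlib.GroupTheory.SpecificGroups.ZGroup

/-!
Bender-Glauberman 12.17: `compl_action` (`[M_σ, E] = M_σ`, `C_{M_σ}(E) ≤ M_σ'`) and
`inter_conj_facts` (`M_σ ∩ M^g` for `g ∉ M`).
-/

set_option autoImplicit false
set_option linter.unusedVariables false
set_option linter.unusedSectionVars false

universe u

namespace Cfsg.Agent.OddPrime

open scoped Pointwise commutatorElement

/-- A normal Hall-like subgroup of the derived group is the commutator with its complement. -/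
theorem commutator_complement {H : Type*} [Group H] [Finite H] {S E : Subgroup H} [S.Normal]
    (hS : Group.IsSolvable S) (hsup : S ⊔ E = ⊤) (hcop : (Nat.card E).Coprime (Nat.card S))
    (hle : S ≤ commutator H) :
    ⁅S, E⁆ = S ∧ S ⊓ Subgroup.centralizer (E : Set H) ≤ ⁅S, S⁆ := by
  set C := ⁅S, E⁆ with hC
  have hCS : C ≤ S := Subgroup.commutator_le_left S E
  have hSC : S ≤ Subgroup.normalizer (C : Set H) := fun a ha => by
    refine Coprime.mem_normalizer_of_forall fun x hx => ?_
    refine (?_ : C ≤ C.comap (MulAut.conj a).toMonoidHom) hx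
    rw [hC, Subgroup.commutator_le]
    intro s hs e he
    show a * ⁅s, e⁆ * a⁻¹ ∈ ⁅S, E⁆
    rw [show a * ⁅s, e⁆ * a⁻¹ = ⁅a * s, e⁆ * ⁅a, e⁆⁻¹ by simp only [commutatorElement_def]; group]
    exact mul_mem (Subgroup.commutator_mem_commutator (S.mul_mem ha hs) he)
      (inv_mem (Subgroup.commutator_mem_commutator ha he))
  have hEC : E ≤ Subgroup.normalizer (C : Set H) := Coprime.le_normalizer_commutator
    (fun e _ => by rw [Subgroup.normalizer_eq_top]; trivial) Subgroup.le_normalizer
  have hCn : C.Normal := Subgroup.normalizer_eq_top_iff.1 (top_le_iff.1 (hsup ▸ sup_le hSC hEC))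
  have hdisj : S ⊓ E = ⊥ := (Coprime.inf_eq_bot hcop.symm)
  -- `S ≤ C ⊔ [S, S]`
  set W := C ⊔ ⁅S, S⁆ with hW
  have hWS : S ≤ W := by
    set π := QuotientGroup.mk' W with hπ
    have h1 : ∀ s ∈ S, ∀ g : H, Commute (π s) (π g) := by
      intro s hs g
      have hg : g ∈ S ⊔ E := hsup ▸ Subgroup.mem_top g
      obtain ⟨a, ha, e, he, rfl⟩ := (Subgroup.mem_sup_of_normal_left).1 hg
      have hcomm : ∀ b, ⁅s, b⁆ ∈ W → Commute (π s) (π b) := fun b hb => by
        rw [← commutatorElement_eq_one_iff_commute, ← map_commutatorElement]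
        exact (QuotientGroup.eq_one_iff _).2 hb
      rw [map_mul]
      exact (hcomm a (Subgroup.mem_sup_right (Subgroup.commutator_mem_commutator hs ha))).mul_right
        (hcomm e (Subgroup.mem_sup_left (Subgroup.commutator_mem_commutator hs he)))
    have h2 : commutator H ≤ ((⁅E, E⁆).map π).comap π := by
      rw [commutator_def, Subgroup.commutator_le]
      intro g _ h _
      obtain ⟨a, ha, e, he, rfl⟩ := (Subgroup.mem_sup_of_normal_left).1
        (hsup ▸ Subgroup.mem_top g : g ∈ S ⊔ E)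
      obtain ⟨b, hb, f, hf, rfl⟩ := (Subgroup.mem_sup_of_normal_left).1
        (hsup ▸ Subgroup.mem_top h : h ∈ S ⊔ E)
      rw [Subgroup.mem_comap, map_commutatorElement]
      have e1 : ⁅π (a * e), π (b * f)⁆ = π ⁅e, f⁆ := by
        rw [map_mul, map_mul, map_commutatorElement]
        have c1 : ∀ g, Commute (π a) (π g) := h1 a ha
        have c2 : ∀ g, Commute (π b) (π g) := h1 b hb
        calc ⁅π a * π e, π b * π f⁆
            = π a * (π e * π b) * π f * (π e)⁻¹ * (π a)⁻¹ * (π f)⁻¹ * (π b)⁻¹ := by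
              rw [commutatorElement_def]; group
          _ = π a * π b * (π e * π f * (π e)⁻¹) * (π a)⁻¹ * (π f)⁻¹ * (π b)⁻¹ := by
              rw [← (c2 e).eq]; group
          _ = π a * π b * ((π a)⁻¹ * (π e * π f * (π e)⁻¹)) * (π f)⁻¹ * (π b)⁻¹ := by
              have : Commute (π a)⁻¹ (π (e * f * e⁻¹)) := (c1 _).inv_left
              rw [map_mul, map_mul, map_inv] at this
              rw [this.eq]; group
          _ = π b * ⁅π e, π f⁆ * (π b)⁻¹ := by
              rw [(c1 b).eq, commutatorElement_def]; group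
          _ = ⁅π e, π f⁆ := by
              have : Commute (π b) (π ⁅e, f⁆) := c2 _
              rw [map_commutatorElement] at this
              rw [this.eq, mul_inv_cancel_right]
      rw [e1]
      exact ⟨_, Subgroup.commutator_mem_commutator he hf, rfl⟩
    intro x hx
    obtain ⟨e, he, hex⟩ := h2 (hle hx)
    have h3 : x⁻¹ * e ∈ W := (QuotientGroup.eq_one_iff _).1
      (show π (x⁻¹ * e) = 1 by rw [map_mul, map_inv, hex]; group)
    have hWle : W ≤ S := sup_le hCS (Subgroup.commutator_le_self S)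
    have heS : e ∈ S := by
      simpa using S.mul_mem hx (hWle h3)
    have : e ∈ S ⊓ E := ⟨heS, Subgroup.commutator_le_self E he⟩
    rw [hdisj, Subgroup.mem_bot] at this
    rw [this, mul_one] at h3
    simpa using W.inv_mem h3
  have hCeq : C = S := by
    by_contra hne
    have : (C.subgroupOf S).Normal := inferInstance
    have := hS
    have : Nontrivial (S ⧸ C.subgroupOf S) := QuotientGroup.nontrivial_iff.2 fun h =>
      hne (le_antisymm hCS (Subgroup.subgroupOf_eq_top.1 h))
    refine (Group.IsSolvable.commutator_lt_top_of_nontrivial (S ⧸ C.subgroupOf S)).ne ?_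
    rw [eq_top_iff]
    intro y _
    obtain ⟨⟨x, hx⟩, rfl⟩ := QuotientGroup.mk'_surjective _ y
    obtain ⟨c, hc, d, hd, rfl⟩ := (Subgroup.mem_sup_of_normal_left).1 (hWS hx)
    rw [commutator_def, ← Subgroup.map_top_of_surjective (QuotientGroup.mk' (C.subgroupOf S))
      (QuotientGroup.mk'_surjective _), ← Subgroup.map_commutator]
    have hd' : d ∈ S := Subgroup.commutator_le_self S hd
    refine ⟨⟨d, hd'⟩, ?_, ?_⟩
    · rw [← commutator_def, SetLike.mem_coe, ← Subgroup.mem_map_iff_mem S.subtype_injective,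
        Subgroup.map_subtype_commutator]
      exact hd
    · rw [QuotientGroup.mk'_apply, QuotientGroup.mk'_apply, QuotientGroup.eq]
      rw [Subgroup.mem_subgroupOf]
      show d⁻¹ * (c * d) ∈ C
      rw [← mul_assoc]
      exact (Subgroup.mem_normalizer_iff''.1 (hSC hd') c).1 hc
  refine ⟨hCeq, ?_⟩
  set π := QuotientGroup.mk' ⁅S, S⁆ with hπ
  have hVc : IsMulCommutative ↥(S.map π) := by
    rw [← Subgroup.commutator_self_eq_bot_iff, ← Subgroup.map_commutator, Subgroup.map_eq_bot_iff,
      QuotientGroup.ker_mk']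
  have hn : E.map π ≤ Subgroup.normalizer (S.map π : Set (H ⧸ ⁅S, S⁆)) := by
    have : (S.map π).Normal := Subgroup.Normal.map inferInstance π (QuotientGroup.mk'_surjective _)
    rw [Subgroup.normalizer_eq_top]; exact le_top
  have hcop' : (Nat.card (E.map π)).Coprime (Nat.card (S.map π)) :=
    (hcop.coprime_dvd_left (Subgroup.card_map_dvd _ _)).coprime_dvd_right (Subgroup.card_map_dvd _ _)
  intro x hx
  have h1 : π x ∈ (S.map π ⊓ Subgroup.centralizer (E.map π : Set (H ⧸ ⁅S, S⁆))) ⊓ ⁅S.map π, E.map π⁆ := by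
    refine ⟨⟨⟨x, hx.1, rfl⟩, ?_⟩, ?_⟩
    · rintro _ ⟨e, he, rfl⟩
      rw [← map_mul, ← map_mul, hx.2 e he]
    · rw [← Subgroup.map_commutator, ← hC, hCeq]
      exact ⟨x, hx.1, rfl⟩
  rw [Coprime.abelian_inf_eq_bot hn hcop', Subgroup.mem_bot] at h1
  exact (QuotientGroup.eq_one_iff _).1 h1

variable {G : Type u} [Group G] [Finite G]

namespace Facts

variable (F : Facts G) {M : Subgroup G}
include F

theorem coprime_compl (hM : IsCoatom M) {E : Subgroup G} (hE : IsComplIn E (sigmaCore M) M) :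
    (Nat.card E).Coprime (Nat.card (sigmaCore M)) := by
  rw [← OddMax.compl_relIndex_left hE]
  exact (F.sigmaCore_coprime hM).symm

theorem compl_action (hM : IsCoatom M) {E : Subgroup G} (hE : IsComplIn E (sigmaCore M) M) :
    ⁅sigmaCore M, E⁆ = sigmaCore M ∧
      sigmaCore M ⊓ Subgroup.centralizer (E : Set G) ≤ ⁅sigmaCore M, sigmaCore M⁆ := by
  have hsM := OddMax.sigmaCore_le M
  have hn : ((sigmaCore M).subgroupOf M).Normal :=
    Subgroup.normal_subgroupOf_of_le_normalizer (OddMax.le_normalizer_sigmaCore M)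
  have hS : Group.IsSolvable ((sigmaCore M).subgroupOf M) :=
    have := F.solvable hM
    inferInstance
  have hsup : (sigmaCore M).subgroupOf M ⊔ E.subgroupOf M = ⊤ := by
    rw [← Subgroup.subgroupOf_sup hsM hE.1, sup_comm, OddMax.compl_eq_sup hE,
      Subgroup.subgroupOf_self]
  have hle : (sigmaCore M).subgroupOf M ≤ commutator ↥M := by
    intro x hx
    have h1 := F.sigmaCore_le_commutator hM (Subgroup.mem_subgroupOf.1 hx)
    rwa [← Subgroup.map_subtype_commutator, ← Subgroup.coe_subtype M,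
      Subgroup.mem_map_iff_mem M.subtype_injective] at h1
  obtain ⟨h1, h2⟩ := commutator_complement hS hsup
    (by rw [Cores.card_subgroupOf hE.1, Cores.card_subgroupOf hsM]; exact F.coprime_compl hM hE) hle
  have hmap : ∀ {K : Subgroup G}, K ≤ M → (K.subgroupOf M).map M.subtype = K :=
    fun hK => Subgroup.map_subgroupOf_eq_of_le hK
  refine ⟨?_, fun x hx => ?_⟩
  · have := congrArg (fun K => K.map M.subtype) h1
    simpa only [Subgroup.map_commutator, hmap hsM, hmap hE.1] using this
  · have := Subgroup.mem_map_of_mem M.subtype (h2 (x := ⟨x, hsM hx.1⟩) ⟨hx.1, fun e he =>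
      Subtype.ext (hx.2 e he)⟩)
    simpa only [Subgroup.map_commutator, hmap hsM, Subgroup.coe_subtype] using this

/-- No Sylow subgroup of `G` of a `σ(M)`-prime lies in `M` and in another conjugate of `M`,
when its normaliser lies in both. -/
theorem sylow_not_two_conj (hM : IsCoatom M) {p : ℕ} [hp : Fact p.Prime] {T : Subgroup G}
    (hT : IsPGroup p T) (hTM : T ≤ M) (hi : ¬ p ∣ T.index) (hN : Subgroup.normalizer (T : Set G) ≤ M)
    {g : G} (hTg : T ≤ MulAut.conj g • M) : g ∈ M := by
  have h1 : MulAut.conj g⁻¹ • T ≤ M := by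
    have := Solvable.conj_mono g⁻¹ hTg
    rwa [Solvable.conj_inv_smul] at this
  obtain ⟨m, hm, hmT⟩ := exists_conj_sylow hT hTM
    (fun h => hi (h.trans (Subgroup.relIndex_dvd_index_of_le hTM)))
    (OddMax.isPGroup_conj g⁻¹ hT) h1 (fun h => hi (by
      rw [← Solvable.index_conj g⁻¹ T]
      exact h.trans (Subgroup.relIndex_dvd_index_of_le h1)))
  have h2 : g * m ∈ Subgroup.normalizer (T : Set G) := Coprime.mem_normalizer_of_conj_eq (by
    rw [← Solvable.conj_conj, hmT, Solvable.conj_conj, mul_inv_cancel, Solvable.conj_one_smul])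
  simpa using M.mul_mem (hN h2) (M.inv_mem hm)

/-- **Bender-Glauberman 12.17**, second part. -/
theorem inter_conj_facts (hM : IsCoatom M) {g : G} (hg : g ∉ M) :
    IsCyclic ↥(sigmaCore M ⊓ MulAut.conj g • M) ∧
      (∀ p : ℕ, p.Prime → p ∣ Nat.card ↥(sigmaCore M ⊓ MulAut.conj g • M) → p ∉ beta M) ∧
      sigmaCore M ⊓ MulAut.conj g • M ⊓ ⁅sigmaCore M, sigmaCore M⁆ = ⊥ := by
  set D := sigmaCore M ⊓ MulAut.conj g • M with hD
  have hDs : D ≤ sigmaCore M := inf_le_left
  have hDM : D ≤ M := hDs.trans (OddMax.sigmaCore_le M)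
  -- an element of order `p` of `D`
  have hkey : ∀ {p : ℕ}, p.Prime → ∀ X : Subgroup G, X ≤ D → Nat.card X = p →
      p ∉ beta M ∧ ¬ X ≤ ⁅sigmaCore M, sigmaCore M⁆ := by
    intro p hp X hXD hX
    have := Fact.mk hp
    have hpσ : p ∈ sigma M := (F.s1350 M hM).1.2.1 p hp
      (hX ▸ Subgroup.card_dvd_of_le (hXD.trans hDs))
    suffices h : ¬ CUnique M X by
      exact ⟨fun hb => h (F.unique_centralizer hM hpσ (hXD.trans hDM) hX (Or.inl hb)).1,
        fun hd => h (F.unique_centralizer hM hpσ (hXD.trans hDM) hX (Or.inr hd)).1⟩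
    intro hcu
    obtain ⟨m, hm, c, hc, hgc⟩ := (F.s1404 M hM p hpσ X (isPGroup_of_card_prime hX)
      (ne_bot_of_card_prime hp hX) (hXD.trans hDM)).1 g⁻¹ (by
        have := Solvable.conj_mono g⁻¹ (hXD.trans inf_le_right)
        rw [Solvable.conj_inv_smul] at this
        exact this)
    apply hg
    rw [← inv_inv g, hgc]
    exact M.inv_mem (M.mul_mem hm (hcu.1 hc))
  have hbot : D ⊓ ⁅sigmaCore M, sigmaCore M⁆ = ⊥ := by
    by_contra h
    obtain ⟨p, hp, hpd⟩ := Nat.exists_prime_and_dvd (mt Subgroup.card_eq_one.1 h)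
    have := Fact.mk hp
    obtain ⟨x, hx⟩ := exists_prime_orderOf_dvd_card' p hpd
    refine (hkey hp (Subgroup.zpowers (x : G)) (Subgroup.zpowers_le.2 x.2.1) ?_).2
      (Subgroup.zpowers_le.2 x.2.2)
    rw [Nat.card_zpowers, Subgroup.orderOf_coe, hx]
  refine ⟨?_, fun p hp hpd => ?_, hbot⟩
  · -- abelian with cyclic Sylow subgroups
    have hab : IsMulCommutative D := ⟨⟨fun a b => Subtype.ext (commutatorElement_eq_one_iff_mul_comm.1
      (Subgroup.mem_bot.1 (hbot ▸ ⟨D.mul_mem (D.mul_mem (D.mul_mem a.2 b.2) (D.inv_mem a.2)) (D.inv_mem b.2),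
        Subgroup.commutator_mem_commutator (hDs a.2) (hDs b.2)⟩ : ⁅(a : G), (b : G)⁆ ∈ (⊥ : Subgroup G))))⟩⟩
    have hZ : IsZGroup D := ⟨fun p hp S => by
      have := Fact.mk hp
      by_contra hnc
      set A := (S : Subgroup D).map D.subtype with hA
      have hAp : IsPGroup p A := S.isPGroup'.map _
      have hAD : A ≤ D := Subgroup.map_subtype_le _
      have hAnc : ¬ IsCyclic A := fun h => hnc (isCyclic_of_injective
        ((Subgroup.equivMapOfInjective (S : Subgroup D) D.subtype D.subtype_injective).toMonoidHom)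
        (Subgroup.equivMapOfInjective (S : Subgroup D) D.subtype D.subtype_injective).injective)
      have hA1 : A ≠ ⊥ := fun h => hAnc (by rw [h]; infer_instance)
      have hpσ : p ∈ sigma M := (F.s1350 M hM).1.2.1 p hp
        ((dvd_card_of_ne_bot hAp hA1).trans (Subgroup.card_dvd_of_le (hAD.trans hDs)))
      have hMg := OddSigma.isCoatom_conj hM g
      obtain ⟨T, hT, hTD, hAT, hTi⟩ := F.exists_sylow_inf (M := M) (N := MulAut.conj g • M) hAp
        (hAD.trans hDM) (hAD.trans inf_le_right)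
      have hTnc : ¬ IsCyclic T := fun h => hAnc (Subgroup.isCyclic_of_le hAT)
      obtain ⟨E, hE⟩ := F.exists_compl hM
      obtain ⟨E', hE'⟩ := F.exists_compl hMg
      have hN1 : Subgroup.normalizer (T : Set G) ≤ M :=
        (F.s1420 M hM E hE).2.2.1 p T hpσ hT (hTD.trans inf_le_left) hTnc
      have hN2 : Subgroup.normalizer (T : Set G) ≤ MulAut.conj g • M :=
        (F.s1420 _ hMg E' hE').2.2.1 p T (by rw [OddMax.sigma_conj]; exact hpσ) hT
          (hTD.trans inf_le_right) hTnc
      apply hg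
      refine F.sylow_not_two_conj hM hT (hTD.trans inf_le_left) (fun hd => ?_) hN1
        (hTD.trans inf_le_right)
      obtain ⟨R, hR⟩ := hT.exists_le_sylow
      rcases hR.eq_or_lt with h | h
      · exact R.not_dvd_index (h ▸ hd)
      · have h1 := OddTrans.lt_inf_normalizer R.isPGroup' h
        have hne1 : T.relIndex ((R : Subgroup G) ⊓ Subgroup.normalizer (T : Set G)) ≠ 1 := fun h =>
          h1.not_ge (Subgroup.relIndex_eq_one.1 h)
        obtain ⟨r, hr, hrd⟩ := Nat.exists_prime_and_dvd hne1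
        have hrp : r = p := eq_of_dvd_card_pGroup (R.isPGroup'.to_le inf_le_left) hr
          (hrd.trans (Dvd.intro_left _ (OddMax.card_mul_relIndex h1.le)))
        exact hTi ((hrp ▸ hrd).trans (Dvd.intro _ (Subgroup.relIndex_mul_relIndex T _ _ h1.le
          (inf_le_right.trans (le_inf hN1 hN2)))))⟩
    have := hab
    have : Group.IsNilpotent D := by
      open scoped IsMulCommutative in exact inferInstance
    infer_instance
  · have := Fact.mk hp
    obtain ⟨x, hx⟩ := exists_prime_orderOf_dvd_card' p hpd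
    exact (hkey hp (Subgroup.zpowers (x : G)) (Subgroup.zpowers_le.2 x.2)
      (by rw [Nat.card_zpowers, Subgroup.orderOf_coe, hx])).1

end Facts

end Cfsg.Agent.OddPrime
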