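import Cfsg.Agent.Lib.OddPrime.Tools
import Cfsg.Agent.Lib.OddPrime.CoreAction
import Cfsg.Agent.Lib.OddOrder.Signalizer

/-!
Bender-Glauberman 13.3, first part: a cyclic Sylow subgroup of a complement of `M_σ` acts prime-ly
on `M_σ` (`le_centralizer_of_cyclic_sylow`), with the facts on `τ₂`-primes used for it.
-/

set_option autoImplicit false
set_option linter.unusedVariables false
set_option linter.unusedSectionVars false

universe u

namespace Cfsg.Agent.OddPrime

open scoped Pointwise commutatorElement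

variable {G : Type u} [Group G] [Finite G]

theorem not_conj_symm {M L : Subgroup G} (h : ∀ g : G, L ≠ MulAut.conj g • M) (g : G) :
    M ≠ MulAut.conj g • L := fun hg => h g⁻¹ (by rw [hg, Solvable.conj_inv_smul])

namespace Facts

variable (F : Facts G) {M L : Subgroup G}
include F

theorem tau2_nilpotent (hL : IsCoatom L) {p : ℕ} (hp : p ∈ tau2 L) :
    Group.IsNilpotent (sigmaCore L) := by
  have := Fact.mk hp.1
  obtain ⟨A, hAL, hA, hAc⟩ := exists_elementary_sq le_rfl hp.2.2.2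
  exact (F.s1417 L hL p hp A ⟨hAL, hA, hAc⟩).1

/-- `τ₂` separates the `σ`-primes of non-conjugate maximal subgroups. -/
theorem not_sigma_of_tau2 (hL : IsCoatom L) (hM : IsCoatom M) {p : ℕ} (hp : p ∈ tau2 L)
    (hnc : ∀ g : G, L ≠ MulAut.conj g • M) {r : ℕ} (hr : r ∈ sigma M) : r ∉ sigma L := fun h => by
  obtain ⟨g, hg⟩ := F.conj_of_nilpotent hL hM (F.tau2_nilpotent hL hp) h hr
  exact not_conj_symm hnc g hg

theorem not_alpha_of_sigma (hM : IsCoatom M) (hL : IsCoatom L)
    (hnc : ∀ g : G, L ≠ MulAut.conj g • M) {r : ℕ} (hr : r ∈ sigma M) : r ∉ alpha L := fun h => by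
  obtain ⟨g, hg⟩ := F.conj_of_alpha hL hM h hr
  exact not_conj_symm hnc g hg

/-- The elementary group `A` of a given complement, `p ∈ τ₂(L)`. -/
theorem compl_tau2 (hL : IsCoatom L) {p : ℕ} [hp : Fact p.Prime] (hpL : p ∈ tau2 L) {E : Subgroup G}
    (hE : IsComplIn E (sigmaCore L) L) :
    ∃ A : Subgroup G, A ≤ E ∧ IsElementaryAbelian p A ∧
      Nat.card A = p ^ 2 ∧ E ≤ Subgroup.normalizer (A : Set G) ∧
      (∀ X : Subgroup G, X ≤ E → Nat.card X = p → X ≤ A) ∧
      ∀ S : Subgroup G, S ≤ E → IsPGroup p S → S ≤ Subgroup.centralizer (A : Set G) := by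
  have hr : ¬ PRankLE p 1 E := fun h => hpL.2.2.2 <| by
    obtain ⟨P⟩ : Nonempty (Sylow p E) := inferInstance
    set T := (P : Subgroup E).map E.subtype with hT
    have hTE : T ≤ E := Subgroup.map_subtype_le _
    have hTi : ¬ p ∣ T.relIndex L := by
      rw [← Subgroup.relIndex_mul_relIndex T E L hTE hE.1, OddMax.compl_relIndex_right hE]
      exact Nat.Prime.not_dvd_mul hp.out (OddMax.sylow_relIndex P)
        (F.not_dvd_sigmaCore hL hp.out hpL.2.1)
    obtain ⟨T', hT'⟩ := OddMax.exists_sylow_eq (P.isPGroup'.map E.subtype) (hTE.trans hE.1) hTi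
    exact OddSigma.prankLE_of_sylow T' (by rw [hT']; exact OddSigma.prankLE_mono hTE h)
  obtain ⟨A, hAE, hA, hAc⟩ := exists_elementary_sq le_rfl hr
  obtain ⟨⟨hEA, hlines⟩, -, -⟩ := F.s1418 L hL E hE p hpL A ⟨hAE, hA, hAc⟩
  refine ⟨A, hAE, hA, hAc, hEA, hlines, fun S hSE hS => ?_⟩
  have hP : IsPGroup p ↥(S ⊔ A) :=
    hS.to_sup_of_normal_right' (Signalizer.isPGroup_of_elemAb hA) (hSE.trans hEA)
  have hab : IsMulCommutative ↥(S ⊔ A) := (F.s1420 L hL E hE).1 (S ⊔ A)
    (sup_le (hSE.trans hE.1) (hAE.trans hE.1)) hP.isNilpotent fun r hr hd =>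
      eq_of_dvd_card_pGroup hP hr hd ▸ hpL.2.1
  intro s hs a ha
  exact congrArg Subtype.val (mul_comm' (⟨a, Subgroup.mem_sup_right ha⟩ : ↥(S ⊔ A))
    ⟨s, Subgroup.mem_sup_left hs⟩)

/-- A complement over a given `σ(L)'`-group together with its `A`, `p ∈ τ₂(L)`. -/
theorem exists_compl_tau2 (hL : IsCoatom L) {p : ℕ} [hp : Fact p.Prime] (hpL : p ∈ tau2 L)
    {Y : Subgroup G} (hYL : Y ≤ L) (hY : ∀ r : ℕ, r.Prime → r ∣ Nat.card Y → r ∉ sigma L) :
    ∃ E A : Subgroup G, IsComplIn E (sigmaCore L) L ∧ Y ≤ E ∧ A ≤ E ∧ IsElementaryAbelian p A ∧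
      Nat.card A = p ^ 2 ∧ E ≤ Subgroup.normalizer (A : Set G) ∧
      (∀ X : Subgroup G, X ≤ E → Nat.card X = p → X ≤ A) ∧
      ∀ S : Subgroup G, S ≤ E → IsPGroup p S → S ≤ Subgroup.centralizer (A : Set G) := by
  obtain ⟨E, hE, hYE⟩ := F.exists_compl_ge hL hYL hY
  obtain ⟨A, h⟩ := F.compl_tau2 hL hpL hE
  exact ⟨E, A, hE, hYE, h⟩

/-- The primes of a complement. -/
theorem not_sigma_of_compl (hM : IsCoatom M) {E : Subgroup G} (hE : IsComplIn E (sigmaCore M) M)
    {p : ℕ} (hp : p.Prime) (hd : p ∣ Nat.card E) : p ∉ sigma M := fun h =>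
  (F.s1350 M hM).1.2.2 p hp h (by rw [OddMax.compl_relIndex_left hE]; exact hd)

/-- A cyclic Sylow subgroup of a complement gives `p`-rank one. -/
theorem prankLE_one_of_compl (hM : IsCoatom M) {E : Subgroup G} (hE : IsComplIn E (sigmaCore M) M)
    {p : ℕ} [hp : Fact p.Prime] {S : Subgroup G} (hSE : S ≤ E) (hS : IsPGroup p S)
    (hSi : ¬ p ∣ S.relIndex E) (hS1 : S ≠ ⊥) (hSc : IsCyclic S) : PRankLE p 1 M := by
  have hσ := F.not_sigma_of_compl hM hE hp.out
    ((dvd_card_of_ne_bot hS hS1).trans (Subgroup.card_dvd_of_le hSE))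
  have hi : ¬ p ∣ S.relIndex M := by
    rw [← Subgroup.relIndex_mul_relIndex S E M hSE hE.1, OddMax.compl_relIndex_right hE]
    exact Nat.Prime.not_dvd_mul hp.out hSi (F.not_dvd_sigmaCore hM hp.out hσ)
  obtain ⟨P, hP⟩ := OddMax.exists_sylow_eq hS (hSE.trans hE.1) hi
  refine OddMax.prankLE_one_of_cyclic_sylow P ?_
  exact (Subgroup.equivMapOfInjective _ M.subtype M.subtype_injective).isCyclic.2 (hP ▸ hSc)

/-- **Bender-Glauberman 13.3**, prime action of a cyclic Sylow subgroup of a complement. -/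
theorem le_centralizer_of_cyclic_sylow (hM : IsCoatom M) {E : Subgroup G}
    (hE : IsComplIn E (sigmaCore M) M) {p : ℕ} [hp : Fact p.Prime] {S X : Subgroup G} (hSE : S ≤ E)
    (hS : IsPGroup p S) (hSi : ¬ p ∣ S.relIndex E) (hSc : IsCyclic S) (hXS : X ≤ S)
    (hX : Nat.card X = p) :
    S ≤ Subgroup.centralizer
      ((sigmaCore M ⊓ Subgroup.centralizer (X : Set G) : Subgroup G) : Set G) := by
  have hS1 : S ≠ ⊥ := fun h => ne_bot_of_card_prime hp.out hX (le_bot_iff.1 (h ▸ hXS))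
  have hpσ : p ∉ sigma M := F.not_sigma_of_compl hM hE hp.out
    (hX ▸ Subgroup.card_dvd_of_le (hXS.trans hSE))
  have hp1 := F.prankLE_one_of_compl hM hE hSE hS hSi hS1 hSc
  have hSM : S ≤ M := hSE.trans hE.1
  have hXp := isPGroup_of_card_prime hX
  have hSX : S ≤ Subgroup.centralizer (X : Set G) :=
    (le_centralizer_self IsCyclic.isMulCommutative).trans (Subgroup.centralizer_le hXS)
  obtain ⟨L, hL, hNL⟩ := F.exists_max_normalizer hXp (ne_bot_of_card_prime hp.out hX)
  have hCL : Subgroup.centralizer (X : Set G) ≤ L := (Subgroup.centralizer_le_normalizer _).trans hNL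
  have hSL : S ≤ L := hSX.trans hCL
  set C := sigmaCore M ⊓ Subgroup.centralizer (X : Set G) with hC
  have hCs : C ≤ sigmaCore M := inf_le_left
  have hSC : S ≤ Subgroup.normalizer (C : Set G) := le_normalizer_inf
    (hSM.trans (OddMax.le_normalizer_sigmaCore M)) (hSX.trans Subgroup.le_normalizer)
  have hcop : (Nat.card S).Coprime (Nat.card C) := coprime_of_not_dvd hS fun h =>
    F.not_dvd_sigmaCore hM hp.out hpσ (h.trans (Subgroup.card_dvd_of_le hCs))
  have hCsolv : Group.IsSolvable C :=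
    Coprime.isSolvable_of_le (hCs.trans (OddMax.sigmaCore_le M)) (F.solvable hM)
  suffices key : ∀ (r : ℕ) [Fact r.Prime], r ∣ Nat.card C → ∀ R : Subgroup G, R ≤ C → IsPGroup r R →
      S ≤ Subgroup.normalizer (R : Set G) → S ≤ Subgroup.centralizer (R : Set G) by
    suffices h : C ⊓ Subgroup.centralizer (S : Set G) = C from
      Subgroup.le_centralizer_iff.1 (h.symm.le.trans inf_le_right)
    refine eq_of_forall_prime inf_le_left fun r hr hd h => ?_
    have := Fact.mk hr
    obtain ⟨R, hRC, hR, hRi, hSR⟩ := exists_invariant hSC hcop hCsolv r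
    exact hRi (h.trans (Subgroup.relIndex_dvd_of_le_left _
      (le_inf hRC (Subgroup.le_centralizer_iff.1 (key r hd R hRC hR hSR)))))
  intro r hr hrC R hRC hR hSR
  have hrσ : r ∈ sigma M :=
    (F.s1350 M hM).1.2.1 r hr.out (hrC.trans (Subgroup.card_dvd_of_le hCs))
  have hpr : p ≠ r := fun h => hpσ (h ▸ hrσ)
  have hRM : R ≤ M := (hRC.trans hCs).trans (OddMax.sigmaCore_le M)
  have hRL : R ≤ L := (hRC.trans inf_le_right).trans hCL
  by_cases hpL : p ∈ sigma L
  · have hSs : S ≤ sigmaCore L := F.le_sigmaCore_of_pGroup hL hpL hS hSL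
    by_cases hrL : r ∈ sigma L
    · exact F.le_centralizer_sigmaCore hL
        (fun h => F.not_alpha_of_sigma hM hL (not_conj_of_sigma hpL hpσ) hrσ h.1) hR
        (F.le_sigmaCore_of_pGroup hL hrL hR hRL) hSs
        (coprime_of_not_dvd hS fun h => hpr ((Nat.prime_dvd_prime_iff_eq hp.out hr.out).1 h)) hSR
    · have h1 : ⁅R, S⁆ ≤ R ⊓ sigmaCore L := le_inf
        (Subgroup.le_normalizer_iff_commutator_le_left.1 hSR)
        ((Subgroup.commutator_mono le_rfl hSs).trans (Subgroup.le_normalizer_iff_commutator_le_right.1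
          (hRL.trans (OddMax.le_normalizer_sigmaCore L))))
      rw [Coprime.inf_eq_bot (coprime_of_not_dvd hR (F.not_dvd_sigmaCore hL hr.out hrL)), le_bot_iff,
        Subgroup.commutator_eq_bot_iff_le_centralizer] at h1
      exact Subgroup.le_centralizer_iff.1 h1
  · have hτ : p ∈ tau2 L := F.mem_tau2 hL hp.out hpL (F.s1409 L hL p hpL X hX hNL).1.2
    have hnc : ∀ g : G, L ≠ MulAut.conj g • M := not_conj_of_rank hp1 hτ.2.2.2
    have hrL : r ∉ sigma L := F.not_sigma_of_tau2 hL hM hτ hnc hrσ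
    obtain ⟨E', A, hE', hYE, hAE, hA, hAc, hEA, -, hcA⟩ :=
      F.exists_compl_tau2 hL hτ (Y := R ⊔ S) (sup_le hRL hSL) (fun s hs hd => by
        rw [sup_comm] at hd
        rcases hs.dvd_mul.1 (hd.trans (pair_relIndex.card_sup_dvd_mul hSR)) with h | h
        · exact eq_of_dvd_card_pGroup hS hs h ▸ hpL
        · exact eq_of_dvd_card_pGroup hR hs h ▸ hrL)
    have hQA : ⁅R, S⁆ ≤ Subgroup.centralizer (A : Set G) :=
      (Subgroup.commutator_mono le_rfl (hcA S (le_sup_right.trans hYE) hS)).trans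
        (Subgroup.le_normalizer_iff_commutator_le_right.1
          (((le_sup_left : R ≤ R ⊔ S).trans hYE).trans (hEA.trans (normalizer_le_centralizer A))))
    by_contra hne
    have hQ1 : ⁅R, S⁆ ≠ ⊥ := fun h => hne
      (Subgroup.le_centralizer_iff.1 (Subgroup.commutator_eq_bot_iff_le_centralizer.1 h))
    have hQR : ⁅R, S⁆ ≤ R := Subgroup.le_normalizer_iff_commutator_le_left.1 hSR
    exact F.pair_rank_contra hM hpσ hp1 (fun N => F.tau2_not_beta hL hτ) hrσ (hR.to_le hQR) hQ1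
      (hQR.trans hRM) hX (hXS.trans hSM)
      (Subgroup.le_centralizer_iff.1 (hQR.trans (hRC.trans inf_le_right))) hA hAc
      (Subgroup.le_centralizer_iff.1 hQA)

/-- The form of statement 1427. -/
theorem cyclic_sylow_prime_action (hM : IsCoatom M) {E : Subgroup G}
    (hE : IsComplIn E (sigmaCore M) M) {p : ℕ} [hp : Fact p.Prime] (S : Sylow p E)
    (hSc : IsCyclic (S : Subgroup E)) :
    ∀ x ∈ (S : Subgroup E).map E.subtype, x ≠ 1 →
      sigmaCore M ⊓ Subgroup.centralizer ({x} : Set G) =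
        sigmaCore M ⊓ Subgroup.centralizer (((S : Subgroup E).map E.subtype : Subgroup G) : Set G) := by
  intro x hx hx1
  set T := (S : Subgroup E).map E.subtype with hT
  refine le_antisymm ?_ (inf_le_inf_left _ (Subgroup.centralizer_le (by simpa using hx)))
  obtain ⟨q, hq, hqd, x₀, hx₀, hx₀o⟩ := OddMax.exists_prime_part hx1
  have hTp : IsPGroup p T := S.isPGroup'.map _
  have hqp : q = p := eq_of_dvd_card_pGroup hTp hq
    (hqd.trans ((Subgroup.orderOf_mk x hx).symm ▸ orderOf_dvd_natCard (⟨x, hx⟩ : T)))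
  have h := F.le_centralizer_of_cyclic_sylow hM hE (Subgroup.map_subtype_le _) hTp
    (OddMax.sylow_relIndex S)
    ((Subgroup.equivMapOfInjective _ E.subtype E.subtype_injective).isCyclic.1 hSc)
    (X := Subgroup.zpowers x₀) (Subgroup.zpowers_le.2 (Subgroup.zpowers_le.2 hx hx₀))
    (by rw [Nat.card_zpowers, hx₀o, hqp])
  intro y hy
  exact ⟨hy.1, Subgroup.le_centralizer_iff.1 h ⟨hy.1, OddMax.centralizer_le_of_mem_zpowers hx₀ hy.2⟩⟩

end Facts

end Cfsg.Agent.OddPrime
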