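import Cfsg.Agent.Lib.Coprime.PQ
import Cfsg.Agent.Lib.Coprime.Invariant
import Cfsg.Agent.Lib.FpfAction.Basic
import Cfsg.Agent.Lib.PGroup.Power

/-!
`le_centralizer_of_frobenius`: an abelian group `Q` with an operator group `R` of prime order,
`[Q, R] = Q`, acting coprimely on a `p`-group `T` (`p` odd) centralises `T` as soon as it centralises
the elements of order `p` of `C_T(R)`.
-/

set_option autoImplicit false
set_option linter.unusedSectionVars false

namespace Cfsg.Agent.OddPrime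

open scoped commutatorElement

variable {G : Type*} [Group G] [Finite G]

theorem le_centralizer_of_frobenius {p : ℕ} [hp : Fact p.Prime] (hp2 : p ≠ 2)
    {T Q R : Subgroup G} (hT : IsPGroup p T) (hQc : IsMulCommutative Q)
    (hR : (Nat.card R).Prime) (hQT : Q ≤ Subgroup.normalizer (T : Set G))
    (hRT : R ≤ Subgroup.normalizer (T : Set G)) (hRQ : R ≤ Subgroup.normalizer (Q : Set G))
    (hcQ : (Nat.card Q).Coprime p) (hcR : (Nat.card R).Coprime p)
    (hcQR : (Nat.card R).Coprime (Nat.card Q)) (hQR : ⁅Q, R⁆ = Q)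
    (hfix : ∀ x ∈ T, x ∈ Subgroup.centralizer (R : Set G) → x ^ p = 1 →
      x ∈ Subgroup.centralizer (Q : Set G)) :
    Q ≤ Subgroup.centralizer (T : Set G) := by
  induction hn : Nat.card T using Nat.strong_induction_on generalizing T with
  | _ n ih =>
  subst hn
  have hsolv := Coprime.isSolvable_of_isPGroup hT
  have hcTQ := Coprime.coprime_of_isPGroup hcQ hT
  have hcTR := Coprime.coprime_of_isPGroup hcR hT
  have hsub : ∀ D : Subgroup G, D < T → Q ≤ Subgroup.normalizer (D : Set G) →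
      R ≤ Subgroup.normalizer (D : Set G) → Q ≤ Subgroup.centralizer (D : Set G) :=
    fun D hD hQD hRD => ih _ ((Subgroup.card_le_of_le hD.le).lt_of_ne
      fun he => hD.ne (Subgroup.eq_of_le_of_card_ge hD.le he.ge))
      (hT.to_le hD.le) hQD hRD (fun x hx => hfix x (hD.le hx)) rfl
  by_cases hT1 : T = ⊥
  · intro q _ t ht
    rw [hT1] at ht
    rw [Subgroup.mem_bot.1 ht, one_mul, mul_one]
  have hcc := Coprime.commutator_commutator_eq hQT hcTQ (Or.inr hsolv)
  rcases (Coprime.commutator_le_left' hQT).lt_or_eq with hlt | heq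
  · have h1 := hsub _ hlt (Coprime.le_normalizer_commutator hQT Subgroup.le_normalizer)
      (Coprime.le_normalizer_commutator hRT hRQ)
    rw [Subgroup.commutator_eq_bot_iff_le_centralizer.2 (Subgroup.le_centralizer_iff.1 h1)] at hcc
    exact Subgroup.le_centralizer_iff.1 (Subgroup.commutator_eq_bot_iff_le_centralizer.1 hcc.symm)
  exfalso
  set Φ : Subgroup G := (frattini T).map T.subtype with hΦ
  have hΦT : Φ ≤ T := Subgroup.map_subtype_le _
  have hΦlt : Φ < T := lt_of_le_of_ne hΦT fun he => hT1 <| by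
    have h1 : frattini T = ⊤ := Subgroup.map_injective T.subtype_injective (by
      rw [← hΦ, he, ← MonoidHom.range_eq_map, Subgroup.range_subtype])
    have h2 : (⊥ : Subgroup T) = ⊤ := frattini_nongenerating (by rw [bot_sup_eq, h1])
    rw [← Subgroup.range_subtype T, MonoidHom.range_eq_map, ← h2, Subgroup.map_bot]
  have hinv : ∀ A : Subgroup G, A ≤ Subgroup.normalizer (T : Set G) →
      A ≤ Subgroup.normalizer (Φ : Set G) := fun A hA a ha => by
    refine Coprime.mem_normalizer_of_forall ?_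
    rintro _ ⟨x, hx, rfl⟩
    exact ⟨T.normalizerMonoidHom ⟨a, hA ha⟩ x,
      (Subgroup.characteristic_iff_le_comap.1 inferInstance _) hx, rfl⟩
  have hΦQ : Q ≤ Subgroup.centralizer (Φ : Set G) := hsub Φ hΦlt (hinv Q hQT) (hinv R hRT)
  have hcomΦ : ∀ a ∈ T, ∀ b ∈ T, a * b * a⁻¹ * b⁻¹ ∈ Φ := fun a ha b hb =>
    ⟨⁅(⟨a, ha⟩ : T), ⟨b, hb⟩⁆, PGroup.commutatorElement_mem_frattini hT _ _, rfl⟩
  -- `Φ` is central in `T`
  have hΦcen : T ≤ Subgroup.centralizer (Φ : Set G) := by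
    have h1 : ⁅⁅T, Q⁆, Φ⁆ = ⊥ := by
      refine Subgroup.commutator_commutator_eq_bot_of_rotate ?_ ?_
      · rw [Subgroup.commutator_eq_bot_iff_le_centralizer.2 hΦQ, Subgroup.commutator_bot_left]
      · rw [Subgroup.commutator_eq_bot_iff_le_centralizer]
        refine le_trans ?_ (Subgroup.le_centralizer_iff.1 hΦQ)
        rw [Subgroup.commutator_le]
        intro m hm d hd
        exact hcomΦ m (hΦT hm) d hd
    rw [heq] at h1
    exact Subgroup.commutator_eq_bot_iff_le_centralizer.1 h1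
  -- `T` has exponent `p`
  have hmul : ∀ a ∈ T, ∀ b ∈ T, a ^ p = 1 → b ^ p = 1 → (a * b) ^ p = 1 := by
    intro a ha b hb hap hbp
    set x : T := ⟨a, ha⟩
    set y : T := ⟨b, hb⟩
    have hcen : ∀ z : T, z ∈ frattini T → ∀ w : T, Commute w z := fun z hz w =>
      Subtype.ext (hΦcen w.2 (z : G) ⟨z, hz, rfl⟩).symm
    have hyp : y ^ p = 1 := Subtype.ext (by simpa [y] using hbp)
    have hxp : x ^ p = 1 := Subtype.ext (by simpa [x] using hap)
    have hcy : Commute y ⁅y, x⁆ := hcen _ (PGroup.commutatorElement_mem_frattini hT _ _) y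
    have hc : ⁅y, x⁆ ^ p = 1 := by
      rw [← PGroup.commutator_pow_left hcy p, hyp]
      simp [commutatorElement_def]
    have h1 := PGroup.mul_pow_prime_eq hp.out hp2
      (hcen _ (PGroup.commutatorElement_mem_frattini hT _ _) x)
      (hcen _ (PGroup.commutatorElement_mem_frattini hT _ _) y) hc
    rw [hxp, hyp, one_mul] at h1
    exact congrArg Subtype.val h1
  let Ω : Subgroup G :=
    { carrier := {x | x ∈ T ∧ x ^ p = 1}
      one_mem' := ⟨T.one_mem, one_pow p⟩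
      mul_mem' := fun {a b} ha hb => ⟨T.mul_mem ha.1 hb.1, hmul a ha.1 b hb.1 ha.2 hb.2⟩
      inv_mem' := fun {a} ha => ⟨T.inv_mem ha.1, by rw [inv_pow, ha.2, inv_one]⟩ }
  have hΩinv : ∀ A : Subgroup G, A ≤ Subgroup.normalizer (T : Set G) →
      A ≤ Subgroup.normalizer (Ω : Set G) := fun A hA a ha =>
    Coprime.mem_normalizer_of_forall fun x hx =>
      ⟨(Subgroup.mem_normalizer_iff.1 (hA ha) x).1 hx.1, by
        rw [conj_pow, hx.2, mul_one, mul_inv_cancel]⟩
  have hexp : ∀ x ∈ T, x ^ p = 1 := by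
    by_contra h
    push Not at h
    obtain ⟨x, hx, hxp⟩ := h
    have hΩlt : Ω < T := lt_of_le_of_ne (fun y hy => hy.1) fun he => hxp (he.symm ▸ hx : x ∈ Ω).2
    have hQΩ := hsub Ω hΩlt (hΩinv Q hQT) (hΩinv R hRT)
    have hQTc := Coprime.le_centralizer_of_fixing_order_p p hp2 hT hQT hcQ fun y hy hyo =>
      Subgroup.le_centralizer_iff.1 hQΩ ⟨hy, hyo ▸ pow_orderOf_eq_one y⟩
    have h0 : ⁅T, Q⁆ = ⊥ := Subgroup.commutator_eq_bot_iff_le_centralizer.2
      (Subgroup.le_centralizer_iff.1 hQTc)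
    exact hT1 (heq.symm.trans h0)
  -- pass to `T / Φ`
  set H := Subgroup.normalizer (Φ : Set G) with hH
  have hTH : T ≤ H := hinv T Subgroup.le_normalizer
  have hQH : Q ≤ H := hinv Q hQT
  have hRH : R ≤ H := hinv R hRT
  have : (Φ.subgroupOf H).Normal := Subgroup.normal_in_normalizer
  set π := QuotientGroup.mk' (Φ.subgroupOf H) with hπdef
  have hπ : ∀ u : H, π u = 1 ↔ (u : G) ∈ Φ := fun u => by
    rw [hπdef, QuotientGroup.mk'_apply, QuotientGroup.eq_one_iff, Subgroup.mem_subgroupOf]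
  set V := (T.subgroupOf H).map π
  set Q' := (Q.subgroupOf H).map π
  set R' := (R.subgroupOf H).map π
  have hnorm : ∀ {A B : Subgroup G}, A ≤ H → A ≤ Subgroup.normalizer (B : Set G) →
      (A.subgroupOf H).map π ≤ Subgroup.normalizer ((B.subgroupOf H).map π : Set (H ⧸ Φ.subgroupOf H)) := by
    rintro A B hAH hAB _ ⟨u, hu, rfl⟩
    refine Coprime.mem_normalizer_of_forall ?_
    rintro _ ⟨v, hv, rfl⟩
    exact ⟨u * v * u⁻¹, (Subgroup.mem_normalizer_iff.1 (hAB hu) _).1 hv, by simp⟩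
  have hcard : ∀ {A : Subgroup G}, A ≤ H → Nat.card ↥((A.subgroupOf H).map π) ∣ Nat.card A :=
    fun hA => (Subgroup.card_map_dvd _ _).trans
      (by rw [Nat.card_congr (Subgroup.subgroupOfEquivOfLe hA).toEquiv])
  have hVc : IsMulCommutative V := by
    rw [← Subgroup.commutator_self_eq_bot_iff, eq_bot_iff, Subgroup.commutator_le]
    rintro _ ⟨a, ha, rfl⟩ _ ⟨b, hb, rfl⟩
    rw [← map_commutatorElement, Subgroup.mem_bot, hπ]
    exact hcomΦ a ha b hb
  have hVQ : ⁅V, Q'⁆ = V := by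
    rw [← Subgroup.map_commutator]
    refine congrArg (fun K => K.map π) (Subgroup.map_injective H.subtype_injective ?_)
    rw [Subgroup.map_commutator, Subgroup.map_subgroupOf_eq_of_le hTH,
      Subgroup.map_subgroupOf_eq_of_le hQH, heq]
  have hcVQ : (Nat.card Q').Coprime (Nat.card V) :=
    (hcTQ.coprime_dvd_left (hcard hQH)).coprime_dvd_right (hcard hTH)
  have hQfix : V ⊓ Subgroup.centralizer (Q' : Set (H ⧸ Φ.subgroupOf H)) = ⊥ := by
    have h := Coprime.abelian_inf_eq_bot (A := Q') (V := V) (hnorm hQH hQT) hcVQ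
    rw [hVQ] at h
    rw [eq_bot_iff] at h ⊢
    exact fun v hv => h ⟨hv, hv.1⟩
  have hXfix : V ⊓ Subgroup.centralizer (R' : Set (H ⧸ Φ.subgroupOf H)) = ⊥ := by
    rw [eq_bot_iff]
    rintro _ ⟨⟨t, ht, rfl⟩, hc⟩
    obtain ⟨c, hc', hct⟩ := Coprime.exists_mem_centralizer_of_coset hRT hcTR
      (Or.inr hsolv) hΦT (hinv R hRT) (k := (t : G)) ht fun a ha => by
        have h1 : π (⟨a, hRH ha⟩ * t * ⟨a, hRH ha⟩⁻¹ * t⁻¹) = 1 := by
          have h2 := hc (π ⟨a, hRH ha⟩) ⟨⟨a, hRH ha⟩, ha, rfl⟩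
          rw [map_mul, map_mul, map_mul, map_inv, map_inv, h2]
          group
        exact (hπ _).1 h1
    have hcQ' : c ∈ Subgroup.centralizer (Q : Set G) := hfix c hc'.1 hc'.2 (hexp c hc'.1)
    have he : π t = π ⟨c, hTH hc'.1⟩ := by
      have : π (⟨c, hTH hc'.1⟩ * t⁻¹) = 1 := (hπ _).2 hct
      rw [map_mul, map_inv, mul_inv_eq_one] at this
      exact this.symm
    rw [← hQfix]
    refine ⟨⟨t, ht, rfl⟩, ?_⟩
    rintro _ ⟨q, hq, rfl⟩
    rw [he, ← map_mul, ← map_mul]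
    exact congrArg π (Subtype.ext (hcQ' q hq))
  have hfree : ∀ x ∈ R', x ≠ 1 →
      Q' ⊓ Subgroup.centralizer ({x} : Set (H ⧸ Φ.subgroupOf H)) = ⊥ := by
    rintro _ ⟨r, hr, rfl⟩ hr1
    rw [eq_bot_iff]
    rintro _ ⟨⟨q, hq, rfl⟩, hc⟩
    have h1 : π (r * q * r⁻¹ * q⁻¹) = 1 := by
      rw [map_mul, map_mul, map_mul, map_inv, map_inv, ← Subgroup.mem_centralizer_singleton_iff.1 hc]
      group
    have h2 : (r : G) * q * (r : G)⁻¹ * (q : G)⁻¹ ∈ Φ := (hπ _).1 h1
    have h3 : (r : G) * q * (r : G)⁻¹ * (q : G)⁻¹ ∈ Q :=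
      Q.mul_mem ((Subgroup.mem_normalizer_iff.1 (hRQ hr) _).1 hq) (Q.inv_mem hq)
    have h4 : (r : G) * q = q * r := mul_inv_eq_iff_eq_mul.1 (mul_inv_eq_one.1
      (Coprime.eq_one_of_mem_of_mem hcTQ h3 (hΦT h2)))
    have hr0 : (r : G) ≠ 1 := fun h => hr1 ((hπ r).2 (h ▸ Φ.one_mem))
    have hRr : Subgroup.zpowers (r : G) = R := by
      refine Subgroup.eq_of_le_of_card_ge (Subgroup.zpowers_le.2 hr) ?_
      rw [Nat.card_zpowers]
      rcases (Nat.dvd_prime hR).1 ((Subgroup.orderOf_mk (r : G) hr).symm ▸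
        orderOf_dvd_natCard (⟨(r : G), hr⟩ : R)) with h | h
      · exact absurd (orderOf_eq_one_iff.1 h) hr0
      · exact h.ge
    have hqC : (q : G) ∈ Q ⊓ Subgroup.centralizer (R : Set G) := ⟨hq, by
      rw [← hRr]
      intro y hy
      obtain ⟨i, rfl⟩ := Subgroup.mem_zpowers_iff.1 hy
      exact ((show Commute (r : G) q from h4).zpow_left i).eq⟩
    have h := Coprime.abelian_inf_eq_bot (A := R) (V := Q) hRQ hcQR
    rw [hQR] at h
    have h5 : (q : G) ∈ (⊥ : Subgroup G) := h ▸ ⟨hqC, hqC.1⟩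
    rw [Subgroup.mem_bot] at h5 ⊢
    rw [hπ, h5]; exact Φ.one_mem
  have hVbot : V = ⊥ := by
    rw [eq_bot_iff]
    intro v hv
    have h1 := congrArg Subtype.val (FpfAction.pow_card_eq_one (Q := Q') (X := R') (V := V)
      (hnorm hRH hRQ) (hnorm hQH hQT) (hnorm hRH hRT) hfree hQfix hXfix ⟨v, hv⟩)
    exact Coprime.mem_of_pow_mem_of_mem (H := ⊥) hv hcVQ (Subgroup.mem_bot.2 h1)
  refine hΦlt.not_ge fun t ht => ?_
  exact (hπ ⟨t, hTH ht⟩).1 (Subgroup.mem_bot.1 (hVbot ▸ ⟨⟨t, hTH ht⟩, ht, rfl⟩))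

end Cfsg.Agent.OddPrime
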