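import Cfsg.Agent.Lib.OddPrime.PrimeAction
import Cfsg.Agent.Lib.OddPrime.Frobenius

/-!
Bender-Glauberman 13.3: `C_{M_σ}(P) ≤ C_{M_σ}(R)` for `|P| = p ∈ τ₁(M)` and `R` a `σ(M)'`-subgroup
of prime order of `C_M(P)` (`le_centralizer_of_tau1`).
-/

set_option autoImplicit false
set_option linter.unusedVariables false
set_option linter.unusedSectionVars false

universe u

namespace Cfsg.Agent.OddPrime

open scoped Pointwise commutatorElement

variable {G : Type u} [Group G] [Finite G]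

/-- A normal Hall subgroup contains the `p`-subgroups of `M` for its primes `p`. -/
theorem le_of_isPiHallOf {π : Set ℕ} {N M X : Subgroup G} (h : IsPiHallOf π N M)
    (hn : M ≤ Subgroup.normalizer (N : Set G)) {p : ℕ} [hp : Fact p.Prime] (hπ : p ∈ π)
    (hX : IsPGroup p X) (hXM : X ≤ M) : X ≤ N := fun x hx =>
  OddMax.mem_of_coprime_relIndex hn (hXM hx) <|
    ((coprime_of_not_dvd hX (h.2.2 p hp.out hπ)).coprime_dvd_left
      ((Subgroup.orderOf_mk x hx).symm ▸ orderOf_dvd_natCard (⟨x, hx⟩ : X)))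

theorem mem_centralizer_of_not_dvd_commutator {p : ℕ} [hp : Fact p.Prime] {M P : Subgroup G}
    (hd : ¬ p ∣ Nat.card ↥⁅M, M⁆) (hP : IsPGroup p P) (hPM : P ≤ M) {e : G} (heM : e ∈ M)
    (he : e ∈ Subgroup.normalizer (P : Set G)) : e ∈ Subgroup.centralizer (P : Set G) := fun u hu => by
  have h1 : e * u * e⁻¹ * u⁻¹ = 1 := Coprime.eq_one_of_mem_of_mem
    (coprime_of_not_dvd hP hd)
    (P.mul_mem ((Subgroup.mem_normalizer_iff.1 he u).1 hu) (P.inv_mem hu))
    (Subgroup.commutator_mem_commutator heM (hPM hu) : ⁅e, u⁆ ∈ ⁅M, M⁆)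
  exact (mul_inv_eq_iff_eq_mul.1 (mul_inv_eq_one.1 h1)).symm

/-- Only the `D`-part of an element acts on a `p`-subgroup of `D` modulo a normal `p'`-subgroup. -/
theorem mem_centralizer_of_sup {p : ℕ} [hp : Fact p.Prime] {D W P : Subgroup G}
    (hDW : D ≤ Subgroup.normalizer (W : Set G)) (hW : ¬ p ∣ Nat.card W)
    (hd : ¬ p ∣ Nat.card ↥⁅D, D⁆) (hP : IsPGroup p P) (hPD : P ≤ D) {e : G} (he : e ∈ W ⊔ D)
    (heP : e ∈ Subgroup.normalizer (P : Set G)) : e ∈ Subgroup.centralizer (P : Set G) := fun u hu => by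
  obtain ⟨w, hw, d, hdD, rfl⟩ := (Coprime.mem_sup_iff hDW).1 he
  set c := w * d * u * (w * d)⁻¹ * u⁻¹ with hc
  have hcP : c ∈ P := P.mul_mem ((Subgroup.mem_normalizer_iff.1 heP u).1 hu) (P.inv_mem hu)
  set x := d * u * d⁻¹ with hx
  have hxD : x ∈ D := D.mul_mem (D.mul_mem hdD (hPD hu)) (D.inv_mem hdD)
  have hcom : ⁅d, u⁆ ∈ ⁅D, D⁆ := Subgroup.commutator_mem_commutator hdD (hPD hu)
  have hwx : c * ⁅d, u⁆⁻¹ ∈ W := by
    have h1 : c * ⁅d, u⁆⁻¹ = w * (x * w⁻¹ * x⁻¹) := by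
      rw [hc, hx, commutatorElement_def]; group
    rw [h1]
    exact W.mul_mem hw ((Subgroup.mem_normalizer_iff.1 (hDW hxD) _).1 (W.inv_mem hw))
  have hWD : c * ⁅d, u⁆⁻¹ ∈ W ⊓ D := ⟨hwx, D.mul_mem (hPD hcP)
    (D.inv_mem ((Subgroup.commutator_le.2 fun a ha b hb =>
      D.mul_mem (D.mul_mem (D.mul_mem ha hb) (D.inv_mem ha)) (D.inv_mem hb)) hcom))⟩
  have hmem : c ∈ ⁅D, D⁆ ⊔ (W ⊓ D) := by
    have := Subgroup.mul_mem _ (Subgroup.mem_sup_right (S := ⁅D, D⁆) hWD)
      (Subgroup.mem_sup_left (T := W ⊓ D) hcom)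
    rwa [inv_mul_cancel_right] at this
  have hnot : ¬ p ∣ Nat.card ↥(⁅D, D⁆ ⊔ (W ⊓ D)) := fun h => by
    have hn : ⁅D, D⁆ ≤ Subgroup.normalizer ((W ⊓ D : Subgroup G) : Set G) :=
      le_trans (Subgroup.commutator_le.2 fun a ha b hb =>
          D.mul_mem (D.mul_mem (D.mul_mem ha hb) (D.inv_mem ha)) (D.inv_mem hb))
        (le_normalizer_inf hDW Subgroup.le_normalizer)
    rcases hp.out.dvd_mul.1 (h.trans (Facts.pair_relIndex.card_sup_dvd_mul hn)) with h | h
    · exact hd h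
    · exact hW (h.trans (Subgroup.card_dvd_of_le inf_le_left))
  have h1 : c = 1 := Coprime.eq_one_of_mem_of_mem (coprime_of_not_dvd hP hnot) hcP hmem
  exact (mul_inv_eq_iff_eq_mul.1 (mul_inv_eq_one.1 (hc ▸ h1))).symm

/-- A counterexample to 13.3. -/
structure Tau1Cex (M L P R Q : Subgroup G) (p r q : ℕ) : Prop where
  hM : IsCoatom M
  hL : IsCoatom L
  hne : L ≠ M
  hNP : Subgroup.normalizer (P : Set G) ≤ L
  hp : p ∈ tau1 M
  hP : Nat.card P = p
  hPM : P ≤ M
  hR : Nat.card R = r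
  hr : r.Prime
  hrσ : r ∉ sigma M
  hRM : R ≤ M
  hRP : R ≤ Subgroup.centralizer (P : Set G)
  hrp : r ≠ p
  hq : q ∈ sigma M
  hQ : IsPGroup q Q
  hQM : Q ≤ M
  hQP : Q ≤ Subgroup.centralizer (P : Set G)
  hRQ : R ≤ Subgroup.normalizer (Q : Set G)
  hQR : ⁅Q, R⁆ = Q
  hQ1 : Q ≠ ⊥

namespace Tau1Cex

variable {M L P R Q : Subgroup G} {p r q : ℕ} (c : Tau1Cex M L P R Q p r q)
include c

theorem hpσ : p ∉ sigma M := c.hp.2.1

theorem hp1 : PRankLE p 1 M := c.hp.2.2.2.2

theorem hqp : q ≠ p := fun h => c.hpσ (h ▸ c.hq)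

theorem hqr : q ≠ r := fun h => c.hrσ (h ▸ c.hq)

theorem hCL : Subgroup.centralizer (P : Set G) ≤ L :=
  (Subgroup.centralizer_le_normalizer _).trans c.hNP

theorem hRL : R ≤ L := c.hRP.trans c.hCL

theorem hQL : Q ≤ L := c.hQP.trans c.hCL

theorem hPL : P ≤ L := Subgroup.le_normalizer.trans c.hNP

theorem hPQ : P ≤ Subgroup.centralizer (Q : Set G) := Subgroup.le_centralizer_iff.1 c.hQP

theorem coprime_sup {n : ℕ} (hr : ¬ r ∣ n) (hq : ¬ q ∣ n) : (Nat.card ↥(R ⊔ Q)).Coprime n := by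
  have := Fact.mk c.hr
  have := Fact.mk c.hq.1
  refine Nat.Coprime.coprime_dvd_left (Facts.pair_relIndex.card_sup_dvd_mul c.hRQ) ?_
  exact (coprime_of_not_dvd (isPGroup_of_card_prime c.hR) hr).mul_left (coprime_of_not_dvd c.hQ hq)

theorem sup_le_centralizer : R ⊔ Q ≤ Subgroup.centralizer (P : Set G) := sup_le c.hRP c.hQP

theorem le_commutator {Y : Subgroup G} (h : R ⊔ Q ≤ Y) : Q ≤ ⁅Y, Y⁆ :=
  c.hQR.symm.le.trans (Subgroup.commutator_mono (le_sup_right.trans h) (le_sup_left.trans h))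

theorem not_le_centralizer : ¬ R ≤ Subgroup.centralizer (Q : Set G) := fun h => c.hQ1 <| by
  rw [← c.hQR, Subgroup.commutator_eq_bot_iff_le_centralizer]
  exact Subgroup.le_centralizer_iff.1 h

variable (F : Facts G)
include F

theorem isComm : IsMulCommutative Q :=
  have := Fact.mk c.hq.1
  F.isMulCommutative_of_two c.hQ c.hM c.hL c.hne c.hQM c.hQL

theorem p_sigma : p ∈ sigma L := by
  have := Fact.mk c.hp.1
  have := Fact.mk c.hr
  have := Fact.mk c.hq.1
  by_contra hpL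
  have hτ : p ∈ tau2 L := F.mem_tau2 c.hL c.hp.1 hpL (F.s1409 L c.hL p hpL P c.hP c.hNP).1.2
  have hnc : ∀ g : G, L ≠ MulAut.conj g • M := not_conj_of_rank c.hp1 hτ.2.2.2
  have hqL : q ∉ sigma L := F.not_sigma_of_tau2 c.hL c.hM hτ hnc c.hq
  have hrL : r ∉ sigma L := fun h => by
    have h1 : Q ≤ sigmaCore L := c.hQR.symm.le.trans
      ((Subgroup.commutator_mono le_rfl
        (F.le_sigmaCore_of_pGroup c.hL h (isPGroup_of_card_prime c.hR) c.hRL)).trans
        (Subgroup.le_normalizer_iff_commutator_le_right.1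
          (c.hQL.trans (OddMax.le_normalizer_sigmaCore L))))
    exact hqL ((F.s1350 L c.hL).1.2.1 q c.hq.1
      ((dvd_card_of_ne_bot c.hQ c.hQ1).trans (Subgroup.card_dvd_of_le h1)))
  obtain ⟨E, A, hE, hYE, hAE, hA, hAc, hEA, hlines, -⟩ :=
    F.exists_compl_tau2 c.hL hτ (Y := (R ⊔ Q) ⊔ P) (sup_le (sup_le c.hRL c.hQL) c.hPL)
      (fun s hs hd => by
        rcases hs.dvd_mul.1 (hd.trans (Facts.pair_relIndex.card_sup_dvd_mul
          (c.sup_le_centralizer.trans (Subgroup.centralizer_le_normalizer _)))) with h | h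
        · rcases hs.dvd_mul.1 (h.trans (Facts.pair_relIndex.card_sup_dvd_mul c.hRQ)) with h | h
          · exact eq_of_dvd_card_pGroup (isPGroup_of_card_prime c.hR) hs h ▸ hrL
          · exact eq_of_dvd_card_pGroup c.hQ hs h ▸ hqL
        · exact eq_of_dvd_card_pGroup (isPGroup_of_card_prime c.hP) hs h ▸ hpL)
  have hQA : Q ≤ Subgroup.centralizer (A : Set G) := (c.le_commutator le_rfl).trans
    (commutator_le_centralizer_line hA hAc (hlines P (le_sup_right.trans hYE) c.hP) c.hP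
      ((le_sup_left.trans hYE).trans hEA) (c.sup_le_centralizer.trans (Subgroup.centralizer_le_normalizer _))
      (c.coprime_sup (fun h => c.hrp ((Nat.prime_dvd_prime_iff_eq c.hr c.hp.1).1 h))
        (fun h => c.hqp ((Nat.prime_dvd_prime_iff_eq c.hq.1 c.hp.1).1 h))))
  exact F.pair_rank_contra c.hM c.hpσ c.hp1 (fun N => F.tau2_not_beta c.hL hτ) c.hq c.hQ c.hQ1
    c.hQM c.hP c.hPM c.hPQ hA hAc (Subgroup.le_centralizer_iff.1 hQA)

theorem not_conj (g : G) : L ≠ MulAut.conj g • M := not_conj_of_sigma (c.p_sigma F) c.hpσ g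

theorem q_not_alpha : q ∉ alpha L := F.not_alpha_of_sigma c.hM c.hL (c.not_conj F) c.hq

theorem r_not_sigma : r ∉ sigma L := fun h => by
  have := Fact.mk c.hr
  have := Fact.mk c.hq.1
  have hRs := F.le_sigmaCore_of_pGroup c.hL h (isPGroup_of_card_prime c.hR) c.hRL
  have hQs : Q ≤ sigmaCore L := c.hQR.symm.le.trans ((Subgroup.commutator_mono le_rfl hRs).trans
    (Subgroup.le_normalizer_iff_commutator_le_right.1
      (c.hQL.trans (OddMax.le_normalizer_sigmaCore L))))
  exact c.not_le_centralizer (F.le_centralizer_sigmaCore c.hL (fun hb => c.q_not_alpha F hb.1) c.hQ hQs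
    hRs (coprime_of_not_dvd (isPGroup_of_card_prime c.hR)
      fun hd => c.hqr ((Nat.prime_dvd_prime_iff_eq c.hr c.hq.1).1 hd).symm) c.hRQ)

/-- The case of a cyclic Sylow `p`-subgroup of `G` centralised by `Q`. -/
theorem cyclic_contra {T : Subgroup G} (hT : IsPGroup p T) (hTi : ¬ p ∣ T.index) (hTc : IsCyclic T)
    (hPT : P ≤ T) (hTQ : Q ≤ Subgroup.centralizer (T : Set G)) (hpβ : ∀ N : Subgroup G, p ∉ beta N) :
    False := by
  have := Fact.mk c.hp.1
  have := Fact.mk c.hq.1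
  have hpM' : ¬ p ∣ Nat.card ↥⁅M, M⁆ := c.hp.2.2.2.1
  have hT1 : T ≠ ⊥ := fun h => ne_bot_of_card_prime c.hp.1 c.hP (le_bot_iff.1 (h ▸ hPT))
  obtain ⟨Qc, hQc, hQQc, hQcT, e, heT, heQc, hne⟩ :=
    F.exists_normalizer_not_centralizing hT hTi hT1 c.hQ hTQ
  by_cases hc : IsCyclic Qc
  · have heQ := normalizer_le_of_cyclic hc hQQc heQc
    have hTCQ : T ≤ Subgroup.centralizer (Q : Set G) := Subgroup.le_centralizer_iff.1 hTQ
    have hTNQ : T ≤ Subgroup.normalizer (Q : Set G) :=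
      hTCQ.trans (Subgroup.centralizer_le_normalizer _)
    by_cases hNQ : Subgroup.normalizer (Q : Set G) ≤ M
    · exact hne (mem_centralizer_of_not_dvd_commutator hpM' hT (hTNQ.trans hNQ) (hNQ heQ) heT)
    · obtain ⟨K, hK, hNK⟩ := F.exists_max_normalizer c.hQ c.hQ1
      have hKne : K ≠ M := fun h => hNQ (h ▸ hNK)
      obtain ⟨W, hDW, hW, hsup⟩ : ∃ W : Subgroup G, M ⊓ K ≤ Subgroup.normalizer (W : Set G) ∧
          ¬ p ∣ Nat.card W ∧ W ⊔ (M ⊓ K) = K := by
        by_cases hqK : q ∈ sigma K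
        · obtain ⟨S, hS, hSD, hQS, hSi⟩ :=
            F.exists_sylow_inf c.hQ c.hQM (Subgroup.le_normalizer.trans hNK)
          obtain ⟨hNSM, hSiK⟩ := F.pair_sylow c.hM c.hq hNK hS hSD hQS hSi
          obtain ⟨-, hle, -⟩ := F.pair_le_sup c.hM hK
            (F.pair_not_conj c.hM c.hq c.hQ c.hQ1 c.hQM hKne hNK) c.hq hqK hS
            (hSD.trans inf_le_right) hSiK hNSM
          refine ⟨betaCore K, inf_le_right.trans (OddTrans.le_normalizer_piCoreOf _ _), fun h =>
            hpβ K (OddTrans.piCoreOf_pi (beta K) K p c.hp.1 h), ?_⟩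
          rw [sup_comm]
          exact le_antisymm (sup_le inf_le_right (OddTrans.piCoreOf_le _ _)) hle
        · obtain ⟨-, -, hcomp, -, -⟩ :=
            F.pair_tau2 c.hM hK c.hq c.hQ c.hQ1 c.hQM hKne hNK hqK
          refine ⟨sigmaCore K, inf_le_right.trans (OddMax.le_normalizer_sigmaCore K), fun h => ?_,
            by rw [sup_comm]; exact OddMax.compl_eq_sup hcomp⟩
          have hPK : P ≤ K := (c.hPQ.trans (Subgroup.centralizer_le_normalizer _)).trans hNK
          refine ne_bot_of_card_prime c.hp.1 c.hP (le_bot_iff.1 (hcomp.2.2.1 ▸ le_inf (le_inf c.hPM hPK)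
            (F.le_sigmaCore_of_pGroup hK ((F.s1350 K hK).1.2.1 p c.hp.1 h)
              (isPGroup_of_card_prime c.hP) hPK)))
      have hTK : T ≤ K := hTNQ.trans hNK
      have hi : ¬ p ∣ (M ⊓ K).relIndex K := fun h => hW <| by
        refine h.trans (Nat.dvd_of_mul_dvd_mul_left (k := Nat.card ↥(M ⊓ K)) Nat.card_pos ?_)
        rw [OddMax.card_mul_relIndex inf_le_right]
        exact (dvd_of_eq (congrArg (fun H : Subgroup G => Nat.card H)
          (hsup.symm.trans (sup_comm _ _)))).trans (Facts.pair_relIndex.card_sup_dvd_mul hDW)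
      obtain ⟨n, hn, hnT⟩ := F.exists_conj_le_of_relIndex (F.solvable hK) (π := {p})
        (inf_le_right : M ⊓ K ≤ K) hTK (fun s hs hsd => eq_of_dvd_card_pGroup hT hs hsd)
        (fun s hs hsp => by rw [Set.mem_singleton_iff.1 hsp]; exact hi)
      have heK : n * e * n⁻¹ ∈ K := K.mul_mem (K.mul_mem hn (hNK heQ)) (K.inv_mem hn)
      have hen : n * e * n⁻¹ ∈ Subgroup.normalizer ((MulAut.conj n • T : Subgroup G) : Set G) := by
        refine Coprime.mem_normalizer_of_conj_eq ?_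
        rw [Solvable.conj_conj, inv_mul_cancel_right, ← Solvable.conj_conj,
          Coprime.conj_eq_of_mem_normalizer heT]
      have h1 := mem_centralizer_of_sup hDW hW (fun h => hpM' (h.trans (Subgroup.card_dvd_of_le
        (Subgroup.commutator_mono inf_le_left inf_le_left)))) (OddMax.isPGroup_conj n hT) hnT
        (hsup.symm ▸ heK) hen
      refine hne fun u hu => ?_
      have h2 := h1 (n * u * n⁻¹) ⟨u, hu, rfl⟩
      have h3 : n * (u * e) * n⁻¹ = n * (e * u) * n⁻¹ := by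
        calc n * (u * e) * n⁻¹ = n * u * n⁻¹ * (n * e * n⁻¹) := by group
          _ = n * e * n⁻¹ * (n * u * n⁻¹) := h2
          _ = _ := by group
      exact mul_left_cancel (mul_right_cancel h3)
  · obtain ⟨g, hg⟩ := OddSigma.exists_conj_le_of_sigma c.hq hQc
    have hM' := OddSigma.isCoatom_conj c.hM g
    obtain ⟨E, hE⟩ := F.exists_compl hM'
    have hN' := (F.s1420 _ hM' E hE).2.2.1 q Qc (by rw [OddMax.sigma_conj]; exact c.hq) hQc hg hc
    refine hne (mem_centralizer_of_not_dvd_commutator (M := MulAut.conj g • M) (fun h => hpM' ?_) hT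
      (((Subgroup.le_centralizer_iff.1 hQcT).trans (Subgroup.centralizer_le_normalizer _)).trans hN')
      (hN' heQc) heT)
    have he : ⁅MulAut.conj g • M, MulAut.conj g • M⁆ = MulAut.conj g • ⁅M, M⁆ :=
      (Subgroup.map_commutator M M _).symm
    rwa [he, Solvable.card_conj] at h

theorem p_alpha : p ∈ alpha L := by
  have := Fact.mk c.hp.1
  have := Fact.mk c.hq.1
  by_contra hpα
  have hr2 : PRankLE p 2 L := not_not.1 fun h => hpα ⟨c.hp.1, h⟩
  have hpβ : ∀ N : Subgroup G, p ∉ beta N :=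
    fun N h => h.1.2 (F.prankLE_of_sigma (c.p_sigma F) hr2 N)
  have hqβ : q ∉ beta L := fun h => c.q_not_alpha F h.1
  set L' := ⁅L, L⁆ with hL'
  have hL'L : L' ≤ L := (OddMax.commutator_lt F.hG c.hL).le
  have hPL' : P ≤ L' := (F.le_sigmaCore_of_pGroup c.hL (c.p_sigma F) (isPGroup_of_card_prime c.hP)
    c.hPL).trans (F.sigmaCore_le_commutator c.hL)
  have hQL' : Q ≤ L' := c.hQR.symm.le.trans (Subgroup.commutator_mono c.hQL c.hRL)
  obtain ⟨-, -, ⟨H, hH, hHn⟩, -⟩ := F.s1414 L c.hL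
  obtain ⟨n, hn, hnH⟩ := F.exists_conj_le_of_relIndex (Coprime.isSolvable_of_le hL'L (F.solvable c.hL))
    (π := {s | s.Prime ∧ s ∉ beta L}) hH.1 (Y := Q ⊔ P) (sup_le hQL' hPL')
    (fun s hs hd => ⟨hs, by
      rcases hs.dvd_mul.1 (hd.trans (Facts.pair_relIndex.card_sup_dvd_mul
        (c.hQP.trans (Subgroup.centralizer_le_normalizer _)))) with h | h
      · exact eq_of_dvd_card_pGroup c.hQ hs h ▸ hqβ
      · exact eq_of_dvd_card_pGroup (isPGroup_of_card_prime c.hP) hs h ▸ hpβ L⟩)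
    (fun s hs hsπ => hH.2.2 s hs hsπ)
  set H' := MulAut.conj n⁻¹ • H with hH'
  have hH'n : Group.IsNilpotent H' := by
    haveI := hHn
    exact Group.nilpotent_of_mulEquiv (Subgroup.equivSMul (MulAut.conj n⁻¹) H)
  have hQPH : Q ⊔ P ≤ H' := by
    have := Solvable.conj_mono n⁻¹ hnH
    rwa [Solvable.conj_inv_smul] at this
  have hH'L : H' ≤ L' :=
    (Solvable.conj_mono _ hH.1).trans (Solvable.conj_eq_self (L'.inv_mem hn)).le
  obtain ⟨S, hS⟩ := ((isPGroup_of_card_prime c.hP).comap_of_injective H'.subtype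
    H'.subtype_injective).exists_le_sylow
  set T := (S : Subgroup H').map H'.subtype with hT
  have hTH : T ≤ H' := Subgroup.map_subtype_le _
  have hTp : IsPGroup p T := S.isPGroup'.map _
  have hPT : P ≤ T := fun x hx => ⟨⟨x, hQPH (Subgroup.mem_sup_right hx)⟩, hS hx, rfl⟩
  have hTQ : Q ≤ Subgroup.centralizer (T : Set G) :=
    OddTau2.commute_of_nilpotent hH'n c.hqp c.hQ hTp (le_sup_left.trans hQPH) hTH
  have hTi : ¬ p ∣ T.index := by
    refine F.not_dvd_index_of_sylow c.hL (c.p_sigma F) (hTH.trans (hH'L.trans hL'L)) ?_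
    rw [← Subgroup.relIndex_mul_relIndex T L' L (hTH.trans hH'L) hL'L,
      ← Subgroup.relIndex_mul_relIndex T H' L' hTH hH'L]
    refine Nat.Prime.not_dvd_mul c.hp.1 (Nat.Prime.not_dvd_mul c.hp.1 (OddMax.sylow_relIndex S) ?_) ?_
    · rw [hH', ← Solvable.conj_eq_self (L'.inv_mem hn), OddMax.relIndex_conj]
      exact hH.2.2 p c.hp.1 ⟨c.hp.1, hpβ L⟩
    · exact fun h => (F.s1350 L c.hL).1.2.2 p c.hp.1 (c.p_sigma F)
        (h.trans (Subgroup.relIndex_dvd_of_le_left _ (F.sigmaCore_le_commutator c.hL)))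
  by_cases hTc : IsCyclic T
  · exact c.cyclic_contra F hTp hTi hTc hPT hTQ hpβ
  · obtain ⟨A, hAT, hA, hAc⟩ :=
      exists_elementary_of_not_cyclic (F.prime_ne_two (H := P) (by rw [c.hP])) hTp hTc
    exact F.pair_rank_contra c.hM c.hpσ c.hp1 hpβ c.hq c.hQ c.hQ1 c.hQM c.hP c.hPM c.hPQ hA hAc
      (hAT.trans (Subgroup.le_centralizer_iff.1 hTQ))

theorem r_rank : PRankLE r 1 L := by
  have := Fact.mk c.hr
  have := Fact.mk c.hq.1
  by_contra h
  have hτ := F.mem_tau2 c.hL c.hr (c.r_not_sigma F) h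
  have hqL := F.not_sigma_of_tau2 c.hL c.hM hτ (c.not_conj F) c.hq
  obtain ⟨E, A, hE, hYE, hAE, hA, hAc, hEA, hlines, -⟩ :=
    F.exists_compl_tau2 c.hL hτ (Y := R ⊔ Q) (sup_le c.hRL c.hQL) (fun s hs hd => by
      rcases hs.dvd_mul.1 (hd.trans (Facts.pair_relIndex.card_sup_dvd_mul c.hRQ)) with h | h
      · exact eq_of_dvd_card_pGroup (isPGroup_of_card_prime c.hR) hs h ▸ c.r_not_sigma F
      · exact eq_of_dvd_card_pGroup c.hQ hs h ▸ hqL)
  have h1 : Q ≤ A := c.hQR.symm.le.trans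
    ((Subgroup.commutator_mono le_rfl (hlines R (le_sup_left.trans hYE) c.hR)).trans
      (Subgroup.le_normalizer_iff_commutator_le_right.1 ((le_sup_right.trans hYE).trans hEA)))
  exact c.hqr (eq_of_dvd_card_pGroup (Signalizer.isPGroup_of_elemAb hA) c.hq.1
    ((dvd_card_of_ne_bot c.hQ c.hQ1).trans (Subgroup.card_dvd_of_le h1)))

theorem centralizer_le : CUnique L Q := by
  have := Fact.mk c.hp.1
  have := Fact.mk c.hr
  have := Fact.mk c.hq.1
  have hpα := c.p_alpha F
  have hα := F.alphaCore_ne_bot c.hL hpα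
  have hhall := (F.s1405 L c.hL).1
  have hn : L ≤ Subgroup.normalizer (alphaCore L : Set G) := OddMax.le_normalizer_map_of_normal _
  have hLα : alphaCore L ≤ L := Subgroup.map_subtype_le _
  have hnd : ∀ {s : ℕ}, s.Prime → s ∉ alpha L → ¬ s ∣ Nat.card (alphaCore L) :=
    fun hs h hd => h (hhall.2.1 _ hs hd)
  have hRQn : R ⊔ Q ≤ Subgroup.normalizer (alphaCore L : Set G) := (sup_le c.hRL c.hQL).trans hn
  obtain ⟨T, hTK, hT, hTi, hPT, hTn⟩ := exists_invariant_ge hRQn
    (c.coprime_sup (hnd c.hr fun h => c.r_not_sigma F (F.alpha_subset_sigma c.hL h))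
      (hnd c.hq.1 (c.q_not_alpha F)))
    (Coprime.isSolvable_of_le hLα (F.solvable c.hL))
    (le_of_isPiHallOf hhall hn hpα (isPGroup_of_card_prime c.hP) c.hPL) (isPGroup_of_card_prime c.hP)
    (c.sup_le_centralizer.trans (Subgroup.centralizer_le_normalizer _))
  have hTc := F.isCyclic_centralizer c.hL hα (c.r_not_sigma F) (c.r_rank F) c.hRL c.hR hT hTK
  have hQT : Q ≤ Subgroup.centralizer (T : Set G) :=
    le_centralizer_of_frobenius (F.prime_ne_two (H := P) (by rw [c.hP])) hT (c.isComm F)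
      (by rw [c.hR]; exact c.hr) (le_sup_right.trans hTn) (le_sup_left.trans hTn) c.hRQ
      (coprime_of_not_dvd c.hQ fun h => c.hqp ((Nat.prime_dvd_prime_iff_eq c.hq.1 c.hp.1).1 h))
      (coprime_of_not_dvd (isPGroup_of_card_prime c.hR)
        fun h => c.hrp ((Nat.prime_dvd_prime_iff_eq c.hr c.hp.1).1 h))
      (coprime_pGroups (isPGroup_of_card_prime c.hR) c.hQ c.hqr.symm) c.hQR
      fun x hx hxR hxp => fun y hy =>
        ((c.hQP hy) x (mem_of_pow_eq_one hTc (le_inf hPT (Subgroup.le_centralizer_iff.1 c.hRP))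
          c.hP ⟨hx, hxR⟩ hxp)).symm
  have hTi' : ¬ p ∣ T.relIndex L := by
    rw [← Subgroup.relIndex_mul_relIndex T _ L hTK hLα]
    exact Nat.Prime.not_dvd_mul c.hp.1 hTi (hhall.2.2 p c.hp.1 hpα)
  obtain ⟨S, hS⟩ := OddMax.exists_sylow_eq hT (hTK.trans hLα) hTi'
  have hu : InUniqueMaximal T := F.unique_of_rank_three (p := p) (F.ne_top_of_isPGroup hT)
    fun h => hpα.2 (OddSigma.prankLE_of_sylow S (by rw [hS]; exact h))
  exact F.cunique_of_unique c.hL c.hQ1 hu (hTK.trans hLα) (Subgroup.le_centralizer_iff.1 hQT)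

theorem normalizer_le : Subgroup.normalizer (Q : Set G) ≤ L := by
  have := Fact.mk c.hq.1
  obtain ⟨K, hK, hNK⟩ := F.exists_max_normalizer c.hQ c.hQ1
  rwa [(c.centralizer_le F).2 K hK ((Subgroup.centralizer_le_normalizer _).trans hNK)] at hNK

theorem q_sigma : q ∈ sigma L := by
  have := Fact.mk c.hp.1
  have := Fact.mk c.hq.1
  by_contra h
  obtain ⟨-, -, hcomp, -, -⟩ :=
    F.pair_tau2 c.hM c.hL c.hq c.hQ c.hQ1 c.hQM c.hne (c.normalizer_le F) h
  exact ne_bot_of_card_prime c.hp.1 c.hP (le_bot_iff.1 (hcomp.2.2.1 ▸ le_inf (le_inf c.hPM c.hPL)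
    (F.le_sigmaCore_of_pGroup c.hL (c.p_sigma F) (isPGroup_of_card_prime c.hP) c.hPL)))

theorem facts_M : q ∉ beta M ∧ PRankLE r 1 M ∧ betaCore M ≠ ⊥ ∧
    ∀ s ∈ sigma L, ¬ s ∣ Nat.card (betaCore M) := by
  have := Fact.mk c.hr
  have := Fact.mk c.hq.1
  have hNQ := c.normalizer_le F
  have hqL := c.q_sigma F
  obtain ⟨S, hS, hSD, hQS, hSi⟩ := F.exists_sylow_inf c.hQ c.hQM c.hQL
  obtain ⟨hNSM, hSiL⟩ := F.pair_sylow c.hM c.hq hNQ hS hSD hQS hSi
  have hSL : S ≤ L := hSD.trans inf_le_right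
  have hSM : S ≤ M := hSD.trans inf_le_left
  have hSiM : ¬ q ∣ S.relIndex M := fun h =>
    F.not_dvd_index_of_sylow c.hL hqL hSL hSiL (h.trans (Subgroup.relIndex_dvd_index_of_le hSM))
  obtain ⟨hqβ, hle, hdis⟩ := F.pair_le_sup c.hL c.hM (not_conj_symm (c.not_conj F)) hqL c.hq hS hSM
    hSiM (OddMax.normalizer_le_of_mem_sigma hqL hS hSL hSiL)
  have hsup : (L ⊓ M) ⊔ betaCore M = M :=
    le_antisymm (sup_le inf_le_right (OddTrans.piCoreOf_le _ _)) hle
  refine ⟨hqβ, ?_, fun h => ?_, hdis⟩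
  · by_contra h
    obtain ⟨A, hAM, hA, hAc⟩ := exists_elementary_sq le_rfl h
    obtain ⟨n, -, hn⟩ := F.exists_conj_le_of_relIndex (F.solvable c.hM) (π := {r})
      (inf_le_right : L ⊓ M ≤ M) hAM
      (fun s hs hsd => eq_of_dvd_card_pGroup (Signalizer.isPGroup_of_elemAb hA) hs hsd)
      (fun s hs hsp hd => by
        rw [Set.mem_singleton_iff.1 hsp] at hd
        refine c.hrσ (F.beta_subset_sigma c.hM (OddTrans.piCoreOf_pi (beta M) M r c.hr (hd.trans ?_)))
        refine Nat.dvd_of_mul_dvd_mul_left (k := Nat.card ↥(L ⊓ M)) Nat.card_pos ?_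
        rw [OddMax.card_mul_relIndex inf_le_right]
        exact (dvd_of_eq (congrArg (fun H : Subgroup G => Nat.card H) hsup.symm)).trans
          (Facts.pair_relIndex.card_sup_dvd_mul
            (inf_le_right.trans (OddTrans.le_normalizer_piCoreOf _ _))))
    exact not_prankLE_one (elementary_conj n hA) (by rw [Solvable.card_conj, hAc])
      (hn.trans inf_le_left) (c.r_rank F)
  · rw [h, sup_bot_eq] at hsup
    exact c.hne (((hsup.symm.le.trans inf_le_left).eq_or_lt.resolve_right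
      fun hlt => c.hL.1 (c.hM.2 _ hlt)).symm)

theorem contra : False := by
  have := Fact.mk c.hp.1
  have := Fact.mk c.hr
  have := Fact.mk c.hq.1
  obtain ⟨hqβ, hr1, hβ1, hdis⟩ := c.facts_M F
  obtain ⟨s, hs, hsd⟩ := Nat.exists_prime_and_dvd (mt Subgroup.card_eq_one.1 hβ1)
  have := Fact.mk hs
  have hMβ : betaCore M ≤ M := OddTrans.piCoreOf_le _ _
  have hpi := OddTrans.piCoreOf_pi (beta M) M
  have hsβ : s ∈ beta M := hpi s hs hsd
  have hsσ : s ∈ sigma M := F.beta_subset_sigma c.hM hsβ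
  have hhall := (F.s1414 M c.hM).1
  have hn : M ≤ Subgroup.normalizer (betaCore M : Set G) := OddTrans.le_normalizer_piCoreOf _ _
  have hsp : s ≠ p := fun h => c.hpσ (h ▸ hsσ)
  have hsr : s ≠ r := fun h => c.hrσ (h ▸ hsσ)
  have hsq : s ≠ q := fun h => hqβ (h ▸ hsβ)
  set A0 := (R ⊔ Q) ⊔ P with hA0
  have hA0n : A0 ≤ Subgroup.normalizer (betaCore M : Set G) :=
    (sup_le (sup_le c.hRM c.hQM) c.hPM).trans hn
  have hcop : (Nat.card A0).Coprime (Nat.card (betaCore M)) :=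
    Nat.Coprime.coprime_dvd_left (Facts.pair_relIndex.card_sup_dvd_mul
      (c.sup_le_centralizer.trans (Subgroup.centralizer_le_normalizer _)))
      ((c.coprime_sup (fun h => c.hrσ (F.beta_subset_sigma c.hM (hpi r c.hr h)))
        (fun h => hqβ (hpi q c.hq.1 h))).mul_left
      (coprime_of_not_dvd (isPGroup_of_card_prime c.hP)
        fun h => c.hpσ (F.beta_subset_sigma c.hM (hpi p c.hp.1 h))))
  obtain ⟨U, hUK, hU, hUi, hUn⟩ :=
    exists_invariant hA0n hcop (Coprime.isSolvable_of_le hMβ (F.solvable c.hM)) s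
  have hUM : U ≤ M := hUK.trans hMβ
  have hUi' : ¬ s ∣ U.relIndex M := by
    rw [← Subgroup.relIndex_mul_relIndex U _ M hUK hMβ]
    exact Nat.Prime.not_dvd_mul hs hUi (hhall.2.2 s hs hsβ)
  obtain ⟨S, hS⟩ := OddMax.exists_sylow_eq hU hUM hUi'
  have hUu : InUniqueMaximal U := F.unique_of_rank_three (p := s) (F.ne_top_of_isPGroup hU)
    fun h => hsβ.1.2 (OddSigma.prankLE_of_sylow S (by rw [hS]; exact h))
  have hQU : ¬ Q ≤ Subgroup.centralizer (U : Set G) := fun h => c.hne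
    ((F.cunique_of_unique c.hM c.hQ1 hUu hUM (Subgroup.le_centralizer_iff.1 h)).2 L c.hL
      (c.centralizer_le F).1)
  have hα : alphaCore M ≠ ⊥ := F.alphaCore_ne_bot c.hM hsβ.1
  have hUα : U ≤ alphaCore M := hUK.trans (betaCore_le_alphaCore M)
  have hUPc := F.isCyclic_centralizer c.hM hα c.hpσ c.hp1 c.hPM c.hP hU hUα
  have hURc := F.isCyclic_centralizer c.hM hα c.hrσ hr1 c.hRM c.hR hU hUα
  have hQUP : Q ≤ Subgroup.centralizer ((U ⊓ Subgroup.centralizer (P : Set G) : Subgroup G) : Set G) :=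
    (c.le_commutator le_rfl).trans (OddUniq.commutator_le_centralizer_cyclic hUPc (le_normalizer_inf
      (le_sup_left.trans hUn) (c.sup_le_centralizer.trans Subgroup.le_normalizer)))
  obtain ⟨d, hdU, hdR, hds, hdQ⟩ : ∃ d ∈ U, d ∈ Subgroup.centralizer (R : Set G) ∧ d ^ s = 1 ∧
      d ∉ Subgroup.centralizer (Q : Set G) := by
    by_contra h
    push Not at h
    exact hQU (le_centralizer_of_frobenius (F.prime_ne_two hsd) hU (c.isComm F)
      (by rw [c.hR]; exact c.hr) ((le_sup_right.trans le_sup_left).trans hUn)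
      ((le_sup_left.trans le_sup_left).trans hUn) c.hRQ
      (coprime_of_not_dvd c.hQ fun h => hsq ((Nat.prime_dvd_prime_iff_eq c.hq.1 hs).1 h).symm)
      (coprime_of_not_dvd (isPGroup_of_card_prime c.hR)
        fun h => hsr ((Nat.prime_dvd_prime_iff_eq c.hr hs).1 h).symm)
      (coprime_pGroups (isPGroup_of_card_prime c.hR) c.hQ c.hqr.symm) c.hQR h)
  set D := Subgroup.zpowers d with hD
  have hd1 : d ≠ 1 := fun h => hdQ (h ▸ Subgroup.one_mem _)
  have hDc : Nat.card D = s := by rw [Nat.card_zpowers, orderOf_eq_prime hds hd1]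
  have hDp := isPGroup_of_card_prime hDc
  have hDUR : D ≤ U ⊓ Subgroup.centralizer (R : Set G) := Subgroup.zpowers_le.2 ⟨hdU, hdR⟩
  have hDR : D ≤ Subgroup.centralizer (R : Set G) := hDUR.trans inf_le_right
  have hDM : D ≤ M := Subgroup.zpowers_le.2 (hUM hdU)
  have hPD : P ≤ Subgroup.normalizer (D : Set G) :=
    (le_normalizer_inf (le_sup_right.trans hUn)
      ((Subgroup.le_centralizer_iff.1 c.hRP).trans Subgroup.le_normalizer)).trans
      (normalizer_le_of_cyclic hURc hDUR)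
  have hcPD : (Nat.card P).Coprime (Nat.card D) :=
    coprime_pGroups (isPGroup_of_card_prime c.hP) hDp hsp.symm
  have hDP : ⁅D, P⁆ = D := by
    have h := Coprime.abelian_sup_eq (A := P) (V := D) hPD hcPD
    have h0 : D ⊓ Subgroup.centralizer (P : Set G) = ⊥ := by
      rw [eq_bot_iff]
      rintro x ⟨hx, hxP⟩
      by_contra hx1
      refine hdQ ((Subgroup.le_centralizer_iff.1 hQUP) ⟨hdU, ?_⟩)
      rw [← OddTau2.line_eq hDc hx hx1] at hD
      exact Subgroup.zpowers_le.2 hxP (hD.symm ▸ Subgroup.mem_zpowers d : d ∈ Subgroup.zpowers x)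
    rwa [h0, bot_sup_eq] at h
  have hcu : CUnique M D := (F.unique_centralizer c.hM hsσ hDM hDc (Or.inl hsβ)).1
  have hrτ : r ∉ tau2 M := fun h => h.2.2.2 hr1
  obtain ⟨K, hK, hNK⟩ := F.exists_max_normalizer (isPGroup_of_card_prime c.hR)
    (ne_bot_of_card_prime c.hr c.hR)
  have hCK : Subgroup.centralizer (R : Set G) ≤ K := (Subgroup.centralizer_le_normalizer _).trans hNK
  have hPK : P ≤ K := (Subgroup.le_centralizer_iff.1 c.hRP).trans hCK
  have hRK : R ≤ K := Subgroup.le_normalizer.trans hNK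
  have hDK : D ≤ K := hDR.trans hCK
  have hncM : ∀ g : G, K ≠ MulAut.conj g • M := fun g => by
    by_cases h : r ∈ sigma K
    · exact not_conj_of_sigma h c.hrσ g
    · exact not_conj_of_rank hr1 (F.s1409 K hK r h R c.hR hNK).1.2 g
  have hncL : ∀ g : G, K ≠ MulAut.conj g • L := fun g => by
    by_cases h : r ∈ sigma K
    · exact not_conj_of_sigma h (c.r_not_sigma F) g
    · exact not_conj_of_rank (c.r_rank F) (F.s1409 K hK r h R c.hR hNK).1.2 g
  have hpK : p ∉ sigma K := fun h =>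
    F.not_alpha_of_sigma hK c.hL (not_conj_symm hncL) h (c.p_alpha F)
  have hsK : s ∉ sigma K := fun h => F.not_alpha_of_sigma hK c.hM (not_conj_symm hncM) h hsβ.1
  have hPDR : P ⊔ D ≤ Subgroup.centralizer (R : Set G) :=
    sup_le (Subgroup.le_centralizer_iff.1 c.hRP) hDR
  have hcPDn : ∀ {n : ℕ}, ¬ p ∣ n → ¬ s ∣ n → (Nat.card ↥(P ⊔ D)).Coprime n := fun hp' hs' =>
    Nat.Coprime.coprime_dvd_left (Facts.pair_relIndex.card_sup_dvd_mul hPD)
      ((coprime_of_not_dvd (isPGroup_of_card_prime c.hP) hp').mul_left (coprime_of_not_dvd hDp hs'))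
  have hDle : ∀ {Y : Subgroup G}, P ⊔ D ≤ Y → D ≤ ⁅Y, Y⁆ := fun h =>
    hDP.symm.le.trans (Subgroup.commutator_mono (le_sup_right.trans h) (le_sup_left.trans h))
  -- an elementary group of order `r ^ 2` centralising `D` would lie in `M`
  have hnoA : ∀ A : Subgroup G, IsElementaryAbelian r A → Nat.card A = r ^ 2 →
      ¬ A ≤ Subgroup.centralizer (D : Set G) :=
    fun A hA hAc h => not_prankLE_one hA hAc (h.trans hcu.1) hr1
  by_cases hrK : r ∈ sigma K
  · have hp1K : PRankLE p 1 K := by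
      by_contra h
      have hτ := F.mem_tau2 hK c.hp.1 hpK h
      obtain ⟨E, A, hE, hYE, hAE, hA, hAc, hEA, hlines, -⟩ :=
        F.exists_compl_tau2 hK hτ (Y := P) hPK (fun t ht hd =>
          eq_of_dvd_card_pGroup (isPGroup_of_card_prime c.hP) ht hd ▸ hpK)
      have hu := (F.s1418 K hK E hE p hτ A ⟨hAE, hA, hAc⟩).2.2 P (hlines P hYE c.hP) c.hP
        fun h0 => ne_bot_of_card_prime c.hr c.hR (le_bot_iff.1 (h0 ▸ le_inf
          (F.le_sigmaCore_of_pGroup hK hrK (isPGroup_of_card_prime c.hR) hRK) c.hRP))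
      exact hncL 1 (by rw [Solvable.conj_one_smul]; exact (hu.2 L c.hL c.hCL).symm)
    by_cases hrα : r ∈ alpha K
    · have hαK := F.alphaCore_ne_bot hK hrα
      have hhallK := (F.s1405 K hK).1
      have hnK : K ≤ Subgroup.normalizer (alphaCore K : Set G) := OddMax.le_normalizer_map_of_normal _
      have hKα : alphaCore K ≤ K := Subgroup.map_subtype_le _
      obtain ⟨T, hTK, hT, hTi, hRT, hTn⟩ := exists_invariant_ge (A := P ⊔ D)
        ((sup_le hPK hDK).trans hnK)
        (hcPDn (fun h => hpK (F.alpha_subset_sigma hK (hhallK.2.1 p c.hp.1 h)))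
          (fun h => hsK (F.alpha_subset_sigma hK (hhallK.2.1 s hs h))))
        (Coprime.isSolvable_of_le hKα (F.solvable hK))
        (le_of_isPiHallOf hhallK hnK hrα (isPGroup_of_card_prime c.hR) hRK)
        (isPGroup_of_card_prime c.hR) (hPDR.trans (Subgroup.centralizer_le_normalizer _))
      have hTc := F.isCyclic_centralizer hK hαK hpK hp1K hPK c.hP hT hTK
      have hDcyc : IsCyclic D := isCyclic_of_prime_card (p := s) hDc
      have hDT : D ≤ Subgroup.centralizer (T : Set G) :=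
        le_centralizer_of_frobenius (F.prime_ne_two (H := R) (by rw [c.hR])) hT
          IsCyclic.isMulCommutative (by rw [c.hP]; exact c.hp.1) (le_sup_right.trans hTn)
          (le_sup_left.trans hTn) hPD
          (coprime_of_not_dvd hDp fun h => hsr ((Nat.prime_dvd_prime_iff_eq hs c.hr).1 h))
          (coprime_of_not_dvd (isPGroup_of_card_prime c.hP)
            fun h => c.hrp ((Nat.prime_dvd_prime_iff_eq c.hp.1 c.hr).1 h).symm)
          hcPD hDP
          fun x hx hxP hxr => fun y hy =>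
            ((hDR hy) x (mem_of_pow_eq_one hTc (le_inf hRT c.hRP) c.hR ⟨hx, hxP⟩ hxr)).symm
      have hTi' : ¬ r ∣ T.relIndex K := by
        rw [← Subgroup.relIndex_mul_relIndex T _ K hTK hKα]
        exact Nat.Prime.not_dvd_mul c.hr hTi (hhallK.2.2 r c.hr hrα)
      obtain ⟨S', hS'⟩ := OddMax.exists_sylow_eq hT (hTK.trans hKα) hTi'
      obtain ⟨A, hAT, hA, hAc⟩ := exists_elementary_sq (k := 2) one_le_two
        fun h => hrα.2 (OddSigma.prankLE_of_sylow S' (by rw [hS']; exact h))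
      exact hnoA A hA hAc (hAT.trans (Subgroup.le_centralizer_iff.1 hDT))
    · have hrβ : r ∉ beta K := fun h => hrα h.1
      have hKs := OddMax.sigmaCore_le K
      obtain ⟨T, hTK, hT, hTi, hRT, hTn⟩ := exists_invariant_ge (A := D)
        (hDK.trans (OddMax.le_normalizer_sigmaCore K))
        (coprime_of_not_dvd hDp (F.not_dvd_sigmaCore hK hs hsK))
        (Coprime.isSolvable_of_le hKs (F.solvable hK))
        (F.le_sigmaCore_of_pGroup hK hrK (isPGroup_of_card_prime c.hR) hRK)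
        (isPGroup_of_card_prime c.hR) (hDR.trans (Subgroup.centralizer_le_normalizer _))
      have hDT : D ≤ Subgroup.centralizer (T : Set G) :=
        F.le_centralizer_commutator hK hrβ hT (hTK.trans (F.sigmaCore_le_commutator hK))
          ((hDle le_rfl).trans (Subgroup.commutator_mono (sup_le hPK hDK) (sup_le hPK hDK)))
          (coprime_of_not_dvd hDp fun h => hsr ((Nat.prime_dvd_prime_iff_eq hs c.hr).1 h)) hTn
      have hTM : T ≤ M := (Subgroup.le_centralizer_iff.1 hDT).trans hcu.1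
      have hTcyc : IsCyclic T := F.isCyclic_pSubgroup c.hM c.hrσ hrτ hT hTM
      have hTi' : ¬ r ∣ T.index := F.not_dvd_index_of_sylow hK hrK (hTK.trans hKs) (by
        rw [← Subgroup.relIndex_mul_relIndex T _ K hTK hKs]
        exact Nat.Prime.not_dvd_mul c.hr hTi ((F.s1350 K hK).1.2.2 r c.hr hrK))
      have hT1 : T ≠ ⊥ := fun h => ne_bot_of_card_prime c.hr c.hR (le_bot_iff.1 (h ▸ hRT))
      obtain ⟨Sc, hSc, hDSc, hScT, e, heT, heSc, hne⟩ :=
        F.exists_normalizer_not_centralizing hT hTi' hT1 hDp hDT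
      have hScK : Sc ≤ K := hScT.trans ((Subgroup.centralizer_le hRT).trans hCK)
      have hScc : IsCyclic Sc := F.isCyclic_pSubgroup hK hsK
        (fun h => F.tau2_not_beta hK h hsβ) hSc hScK
      have heM : e ∈ M := F.normalizer_le_of_cunique c.hM hsσ hDp
        (ne_bot_of_card_prime hs hDc) hDM hcu (normalizer_le_of_cyclic hScc hDSc heSc)
      -- `[T, e] ≠ 1` puts `R` in `M'`
      have hRM' : R ≤ ⁅M, M⁆ := by
        obtain ⟨u, hu, hue⟩ : ∃ u ∈ T, ⁅e, u⁆ ≠ 1 := by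
          by_contra h
          push Not at h
          exact hne fun u hu => (commutatorElement_eq_one_iff_mul_comm.1 (h u hu)).symm
        have huT : ⁅e, u⁆ ∈ T := T.mul_mem ((Subgroup.mem_normalizer_iff.1 heT u).1 hu) (T.inv_mem hu)
        obtain ⟨t, ht, htd, x, hx, hxo⟩ := OddMax.exists_prime_part hue
        have htr : t = r := eq_of_dvd_card_pGroup hT ht (htd.trans
          ((Subgroup.orderOf_mk _ huT).symm ▸ orderOf_dvd_natCard (⟨_, huT⟩ : T)))
        have hxR : Subgroup.zpowers x = R := eq_of_card_eq_of_cyclic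
          (Subgroup.zpowers_le.2 (Subgroup.zpowers_le.2 huT hx)) hRT
          (by rw [Nat.card_zpowers, hxo, htr, c.hR])
        rw [← hxR]
        exact Subgroup.zpowers_le.2
          (Subgroup.zpowers_le.2 (Subgroup.commutator_mem_commutator heM (hTM hu)) hx)
      exact c.not_le_centralizer (F.le_centralizer_commutator c.hM hqβ c.hQ
        (c.hQR.symm.le.trans (Subgroup.commutator_mono c.hQM c.hRM)) hRM'
        (coprime_of_not_dvd (isPGroup_of_card_prime c.hR)
          fun h => c.hqr ((Nat.prime_dvd_prime_iff_eq c.hr c.hq.1).1 h).symm) c.hRQ)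
  · have hτ := F.mem_tau2 hK c.hr hrK (F.s1409 K hK r hrK R c.hR hNK).1.2
    obtain ⟨E, A, hE, hYE, hAE, hA, hAc, hEA, hlines, -⟩ :=
      F.exists_compl_tau2 hK hτ (Y := (P ⊔ D) ⊔ R) (sup_le (sup_le hPK hDK) hRK) (fun t ht hd => by
        rcases ht.dvd_mul.1 (hd.trans (Facts.pair_relIndex.card_sup_dvd_mul
          (hPDR.trans (Subgroup.centralizer_le_normalizer _)))) with h | h
        · rcases ht.dvd_mul.1 (h.trans (Facts.pair_relIndex.card_sup_dvd_mul hPD)) with h | h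
          · exact eq_of_dvd_card_pGroup (isPGroup_of_card_prime c.hP) ht h ▸ hpK
          · exact eq_of_dvd_card_pGroup hDp ht h ▸ hsK
        · exact eq_of_dvd_card_pGroup (isPGroup_of_card_prime c.hR) ht h ▸ hrK)
    refine hnoA A hA hAc (Subgroup.le_centralizer_iff.1 ((hDle le_rfl).trans
      (commutator_le_centralizer_line hA hAc (hlines R (le_sup_right.trans hYE) c.hR) c.hR
        ((le_sup_left.trans hYE).trans hEA) (hPDR.trans (Subgroup.centralizer_le_normalizer _))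
        (hcPDn (fun h => c.hrp ((Nat.prime_dvd_prime_iff_eq c.hp.1 c.hr).1 h).symm)
          (fun h => hsr ((Nat.prime_dvd_prime_iff_eq hs c.hr).1 h))))))

end Tau1Cex

namespace Facts

variable (F : Facts G) {M : Subgroup G}
include F

/-- **Bender-Glauberman 13.3.** -/
theorem le_centralizer_of_tau1 (hM : IsCoatom M) {p : ℕ} (hp : p ∈ tau1 M) {P R : Subgroup G}
    (hPM : P ≤ M) (hP : Nat.card P = p) (hRM : R ≤ M) (hRP : R ≤ Subgroup.centralizer (P : Set G))
    {r : ℕ} (hr : r.Prime) (hR : Nat.card R = r) (hrσ : r ∉ sigma M) :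
    sigmaCore M ⊓ Subgroup.centralizer (P : Set G) ≤ Subgroup.centralizer (R : Set G) := by
  have := Fact.mk hp.1
  have := Fact.mk hr
  have hPp := isPGroup_of_card_prime hP
  have hRp := isPGroup_of_card_prime hR
  have hpσ : p ∉ sigma M := hp.2.1
  by_cases hrp : r = p
  · subst hrp
    have hRN : R ≤ Subgroup.normalizer (P : Set G) :=
      hRP.trans (Subgroup.centralizer_le_normalizer _)
    have := F.isCyclic_pSubgroup hM hpσ (fun h => h.2.2.2 hp.2.2.2.2)
      (hRp.to_sup_of_normal_right' hPp hRN) (sup_le hRM hPM)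
    rw [eq_of_card_eq_of_cyclic (le_sup_left : R ≤ R ⊔ P) le_sup_right (hR.trans hP.symm)]
    exact inf_le_right
  set C := sigmaCore M ⊓ Subgroup.centralizer (P : Set G) with hC
  have hCM : C ≤ M := inf_le_left.trans (OddMax.sigmaCore_le M)
  have hRC : R ≤ Subgroup.normalizer (C : Set G) := le_normalizer_inf
    (hRM.trans (OddMax.le_normalizer_sigmaCore M)) (hRP.trans Subgroup.le_normalizer)
  have hcop : (Nat.card R).Coprime (Nat.card C) := coprime_of_not_dvd hRp fun h =>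
    F.not_dvd_sigmaCore hM hr hrσ (h.trans (Subgroup.card_dvd_of_le inf_le_left))
  suffices key : ∀ (q : ℕ) [Fact q.Prime], q ∣ Nat.card C → ∀ Q : Subgroup G, Q ≤ C → IsPGroup q Q →
      R ≤ Subgroup.normalizer (Q : Set G) → Q ≤ Subgroup.centralizer (R : Set G) by
    suffices h : C ⊓ Subgroup.centralizer (R : Set G) = C from h.symm.le.trans inf_le_right
    refine eq_of_forall_prime inf_le_left fun q hq hd h => ?_
    have := Fact.mk hq
    obtain ⟨Q, hQC, hQ, hQi, hRQ⟩ :=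
      exists_invariant hRC hcop (Coprime.isSolvable_of_le hCM (F.solvable hM)) q
    exact hQi (h.trans (Subgroup.relIndex_dvd_of_le_left _ (le_inf hQC (key q hd Q hQC hQ hRQ))))
  intro q hq hqd Q hQC hQ hRQ
  have hqσ : q ∈ sigma M :=
    (F.s1350 M hM).1.2.1 q hq.out (hqd.trans (Subgroup.card_dvd_of_le inf_le_left))
  have hqr : r ≠ q := fun h => hrσ (h ▸ hqσ)
  by_contra hne
  obtain ⟨L, hL, hNL⟩ := F.exists_max_normalizer hPp (ne_bot_of_card_prime hp.1 hP)
  have hLM : L ≠ M := fun h =>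
    F.not_normalizer_le hM hpσ (fun h1 => h1.2.2.2 hp.2.2.2.2) hP (h ▸ hNL)
  have hQ'Q : ⁅Q, R⁆ ≤ Q := Subgroup.le_normalizer_iff_commutator_le_left.1 hRQ
  refine Tau1Cex.contra (p := p) (r := r) (q := q) (M := M) (L := L) (P := P) (R := R) (Q := ⁅Q, R⁆)
    ⟨hM, hL, hLM, hNL, hp, hP, hPM, hR, hr, hrσ, hRM, hRP, hrp, hqσ, hQ.to_le hQ'Q,
      (hQ'Q.trans hQC).trans hCM, (hQ'Q.trans hQC).trans inf_le_right,
      Coprime.le_normalizer_commutator hRQ Subgroup.le_normalizer,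
      Coprime.commutator_commutator_eq hRQ (coprime_pGroups hRp hQ hqr)
        (Or.inr (Coprime.isSolvable_of_isPGroup hQ)),
      fun h => hne (Subgroup.commutator_eq_bot_iff_le_centralizer.1 h)⟩ F

/-- The form of statement 1428. -/
theorem tau1_centralizer_le (hM : IsCoatom M) {E : Subgroup G} (hE : IsComplIn E (sigmaCore M) M)
    {p : ℕ} (hp : p ∈ tau1 M) {P : Subgroup G} (hPE : P ≤ E) (hP : Nat.card P = p) {R : Subgroup G}
    (hRE : R ≤ E ⊓ Subgroup.centralizer (P : Set G)) (hR : (Nat.card R).Prime) :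
    sigmaCore M ⊓ Subgroup.centralizer (P : Set G) ≤
      sigmaCore M ⊓ Subgroup.centralizer (R : Set G) :=
  le_inf inf_le_left (F.le_centralizer_of_tau1 hM hp (hPE.trans hE.1) hP
    ((hRE.trans inf_le_left).trans hE.1) (hRE.trans inf_le_right) hR rfl
    (F.not_sigma_of_compl hM hE hR (Subgroup.card_dvd_of_le (hRE.trans inf_le_left))))

end Facts

end Cfsg.Agent.OddPrime
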