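import Cfsg.Agent.Lib.OddOrder.Compl
import Cfsg.Agent.Lib.OddOrder.SigmaTrans
import Cfsg.Agent.Lib.Transfer.Residual
import Cfsg.Agent.Lib.Coprime.Invariant
import Cfsg.Agent.Lib.Isolated.RankOne

/-!
Bender-Glauberman 12.13-13: the bundle `Facts` of upstream statements (sections 7-12) and basic
consequences used throughout.
* `conj_of_alpha`, `conj_of_nilpotent`: non-conjugate maximal subgroups share few `σ`-primes
* `le_sigmaCore_of_pi`, `le_centralizer_sigmaCore`, `le_centralizer_commutator`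
* `le_sup_betaCore`: `M = N_M(Q) M_β` for a Sylow `q`-subgroup, `q ∈ σ(M) \ β(M)`
* `exists_compl_normalizing`, rank facts for primes outside `σ(M)`
-/

set_option autoImplicit false
set_option linter.unusedVariables false
set_option linter.unusedSectionVars false

universe u

namespace Cfsg.Agent.OddPrime

open scoped Pointwise

/-- The statements of sections 7-12 used below, for the group `G`. -/
structure Facts (G : Type u) [Group G] [Finite G] : Prop where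
  hG : Cfsg.IsMinSimpleOddOrder G
  /-- statement 1350 -/
  s1350 : ∀ (M : Subgroup G) (hM : IsCoatom M),
      Cfsg.IsPiHallOf (Cfsg.sigma M) (Cfsg.sigmaCore M) M ∧ Cfsg.IsPiHall (Cfsg.sigma M) (Cfsg.sigmaCore M) ∧
      ∀ N : Subgroup G, M ≤ Subgroup.normalizer (N : Set G) → Cfsg.IsPiHallOf (Cfsg.sigma M) N M →
        N = Cfsg.sigmaCore M
  /-- statement 1403 -/
  s1403 : ∀ (K : Subgroup G) (hK : K ≠ ⊤) (hK2 : ¬ Cfsg.RankLE 1 K)
    (hK3 : ¬ Cfsg.RankLE 2 K ∨ ¬ Cfsg.RankLE 2 (Subgroup.centralizer (K : Set G))),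
      Cfsg.InUniqueMaximal K
  /-- statement 1404 -/
  s1404 : ∀ (M : Subgroup G) (hM : IsCoatom M) (p : ℕ) [Fact p.Prime] (hp : p ∈ Cfsg.sigma M)
    (X : Subgroup G) (hXp : IsPGroup p X) (hX1 : X ≠ ⊥) (hXM : X ≤ M),
      (∀ g : G, X.map (MulAut.conj g).toMonoidHom ≤ M → ∃ m ∈ M, ∃ c ∈ Subgroup.centralizer (X : Set G), g = m * c) ∧
      Subgroup.normalizer (X : Set G) = (M ⊓ Subgroup.normalizer (X : Set G)) ⊔ Subgroup.centralizer (X : Set G)
  /-- statement 1405 -/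
  s1405 : ∀ (M : Subgroup G) (hM : IsCoatom M),
      Cfsg.IsPiHallOf (Cfsg.alpha M) (Cfsg.alphaCore M) M ∧ Cfsg.IsPiHall (Cfsg.alpha M) (Cfsg.alphaCore M) ∧
      Cfsg.alphaCore M ≤ Cfsg.sigmaCore M ∧ Cfsg.RankLE 2 (↥M ⧸ Cfsg.piCore (Cfsg.alpha M) ↥M) ∧
      Group.IsNilpotent ↥((commutator ↥M).map (QuotientGroup.mk' (Cfsg.piCore (Cfsg.alpha M) ↥M)))
  /-- statement 1407 -/
  s1407 : ∀ (M : Subgroup G) (hM : IsCoatom M) (hMα : Cfsg.alphaCore M ≠ ⊥) (p : ℕ) [Fact p.Prime] (hpM : p ∣ Nat.card M) (hp : p ∉ Cfsg.sigma M) (P : Sylow p M),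
      ∃ x : G, x ∈ ((Subgroup.center ↥(P : Subgroup M)).map (P : Subgroup M).subtype).map M.subtype ∧ orderOf x = p ∧
        IsZGroup ↥(Cfsg.alphaCore M ⊓ Subgroup.centralizer ({x} : Set G)) ∧
        ¬ (Subgroup.centralizer ({x} : Set G) ≤ M ∧ ∀ L : Subgroup G, IsCoatom L → Subgroup.centralizer ({x} : Set G) ≤ L → L = M)
  /-- statement 1408 -/
  s1408 : ∀ (M : Subgroup G) (hM : IsCoatom M) (p : ℕ) [Fact p.Prime] (hp : p ∉ Cfsg.sigma M) (hr2 : Cfsg.PRankLE p 2 M) (hr1 : ¬ Cfsg.PRankLE p 1 M),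
      ¬ Cfsg.IsIdealPrime p G ∧ ∀ A : Subgroup G, A ≤ M → Cfsg.IsElementaryAbelian p A → Nat.card A = p ^ 2 →
        ∀ B : Subgroup G, Cfsg.IsElementaryAbelian p B → A ≤ B → B = A
  /-- statement 1409 -/
  s1409 : ∀ (M : Subgroup G) (hM : IsCoatom M) (p : ℕ) [Fact p.Prime] (hp : p ∉ Cfsg.sigma M) (X : Subgroup G) (hX : Nat.card X = p)
    (hNX : Subgroup.normalizer (X : Set G) ≤ M),
      (Cfsg.PRankLE p 2 M ∧ ¬ Cfsg.PRankLE p 1 M) ∧ ¬ Cfsg.IsIdealPrime p G ∧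
      ∃ A : Subgroup G, Cfsg.IsElementaryAbelian p A ∧ Nat.card A = p ^ 2 ∧ X ≤ A
  /-- statement 1411 -/
  s1411 : ∀ (p : ℕ) [Fact p.Prime] (P : Sylow p G)
    (V : Subgroup G) (hV : Cfsg.IsComplIn (P : Subgroup G) V (Subgroup.normalizer ((P : Subgroup G) : Set G))),
      (P : Subgroup G) = ⁅(P : Subgroup G), V⁆ ∧
      (P : Subgroup G) ≤ ⁅Subgroup.normalizer ((P : Subgroup G) : Set G), Subgroup.normalizer ((P : Subgroup G) : Set G)⁆
  /-- statement 1412 -/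
  s1412 : ∀ (p : ℕ) [Fact p.Prime] (P : Sylow p G) (hr : Cfsg.PRankLE p 2 (P : Subgroup G)),
      IsMulCommutative (P : Subgroup G) ∨ ∃ P₁ P₂ : Subgroup G, P₁ ⊔ P₂ = (P : Subgroup G) ∧ (∀ a ∈ P₁, ∀ b ∈ P₂, a * b = b * a) ∧
        ¬ IsMulCommutative P₁ ∧ Nat.card P₁ = p ^ 3 ∧ Monoid.exponent P₁ = p ∧ IsCyclic P₂ ∧
        Subgroup.closure {x : G | x ∈ P₂ ∧ x ^ p = 1} = P₁ ⊓ Subgroup.centralizer (P₁ : Set G)
  /-- statement 1414 -/
  s1414 : ∀ (M : Subgroup G) (hM : IsCoatom M),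
      Cfsg.IsPiHallOf (Cfsg.beta M) (Cfsg.piCoreOf (Cfsg.beta M) M) M ∧ Cfsg.IsPiHall (Cfsg.beta M) (Cfsg.piCoreOf (Cfsg.beta M) M) ∧
      (∃ H : Subgroup G, Cfsg.IsPiHallOf {q | q.Prime ∧ q ∉ Cfsg.beta M} H ⁅M, M⁆ ∧ Group.IsNilpotent H) ∧
      (∃ H : Subgroup G, Cfsg.IsPiHallOf {q | q.Prime ∧ q ∉ Cfsg.beta M} H (Cfsg.sigmaCore M) ∧ Group.IsNilpotent H) ∧
      ∀ p : ℕ, p.Prime → p ∣ Nat.card M → p ∉ Cfsg.beta M →
        Cfsg.HasNormalPComplement p ↥⁅M, M⁆ ∧ Cfsg.HasNormalPComplement p ↥(Cfsg.sigmaCore M) ∧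
        ∀ q : ℕ, q.Prime → q ∣ (Cfsg.pPrimeCore p ↥M).index → q ≤ p
  /-- statement 1415 -/
  s1415 : ∀ (M : Subgroup G) (hM : IsCoatom M) (E : Subgroup G) (hE : Cfsg.IsComplIn E (Cfsg.sigmaCore M) M),
      Group.IsNilpotent ↥⁅E, E⁆ ∧
      (∀ E₁ : Subgroup G, Cfsg.IsPiHallOf (Cfsg.tau1 M) E₁ E → IsCyclic E₁) ∧
      ∀ E₃ : Subgroup G, Cfsg.IsPiHallOf (Cfsg.tau3 M) E₃ E → IsCyclic E₃ ∧ E₃ ≤ ⁅E, E⁆ ∧ E ≤ Subgroup.normalizer (E₃ : Set G)
  /-- statement 1416 -/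
  s1416 : ∀ (M : Subgroup G) (hM : IsCoatom M) (p : ℕ) [Fact p.Prime] (A : Subgroup G) (hA : (A ≤ M ∧ Cfsg.IsElementaryAbelian p A ∧ Nat.card A = p ^ 2)),
      Subgroup.centralizer (A : Set G) ≤ M ∧
      ((∀ A₀ : Subgroup G, A₀ ≤ A → Nat.card A₀ = p →
          ¬ (Subgroup.normalizer (A₀ : Set G) ≤ M ∧ ∀ L : Subgroup G, IsCoatom L → Subgroup.normalizer (A₀ : Set G) ≤ L → L = M)) →
        p ∈ Cfsg.sigma M ∧ Cfsg.alphaCore M = ⊥ ∧ Group.IsNilpotent (Cfsg.sigmaCore M))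
  /-- statement 1417 -/
  s1417 : ∀ (M : Subgroup G) (hM : IsCoatom M) (p : ℕ) [Fact p.Prime] (hp : p ∈ Cfsg.tau2 M) (A : Subgroup G) (hA : (A ≤ M ∧ Cfsg.IsElementaryAbelian p A ∧ Nat.card A = p ^ 2)),
      Group.IsNilpotent (Cfsg.sigmaCore M) ∧
      (∀ P : Sylow p M, IsMulCommutative (P : Subgroup M) ∧
        (A ≤ (P : Subgroup M).map M.subtype →
          (∀ x ∈ (P : Subgroup M).map M.subtype, x ^ p = 1 ↔ x ∈ A) ∧
          ¬ Subgroup.normalizer ((((P : Subgroup M).map M.subtype : Subgroup G)) : Set G) ≤ M)) ∧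
      M ≤ Subgroup.normalizer ((Cfsg.sigmaCore M ⊔ A : Subgroup G) : Set G) ∧
      Cfsg.sigmaCore M ⊓ Subgroup.centralizer (A : Set G) = ⊥ ∧
      (∀ Mstar : Subgroup G, IsCoatom Mstar → Mstar ≠ M → A ≤ Mstar → Cfsg.sigmaCore M ⊓ Mstar = ⊥) ∧
      ∃ A₁ : Subgroup G, A₁ ≤ A ∧ Nat.card A₁ = p ∧ Cfsg.sigmaCore M ⊓ Subgroup.centralizer (A₁ : Set G) = ⊥
  /-- statement 1418 -/
  s1418 : ∀ (M : Subgroup G) (hM : IsCoatom M) (E : Subgroup G) (hE : Cfsg.IsComplIn E (Cfsg.sigmaCore M) M) (p : ℕ) [Fact p.Prime] (hp : p ∈ Cfsg.tau2 M) (A : Subgroup G) (hA : (A ≤ E ∧ Cfsg.IsElementaryAbelian p A ∧ Nat.card A = p ^ 2)),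
      (E ≤ Subgroup.normalizer (A : Set G) ∧ ∀ X : Subgroup G, X ≤ E → Nat.card X = p → X ≤ A) ∧
      (Subgroup.centralizer (A : Set G) ≤ M ⊓ Subgroup.normalizer (A : Set G) ∧ M ⊓ Subgroup.normalizer (A : Set G) = E ∧
        ¬ Subgroup.normalizer (A : Set G) ≤ M) ∧
      ∀ X : Subgroup G, X ≤ A → Nat.card X = p → Cfsg.sigmaCore M ⊓ Subgroup.centralizer (X : Set G) ≠ ⊥ → (Subgroup.centralizer (X : Set G) ≤ M ∧ ∀ L : Subgroup G, IsCoatom L → Subgroup.centralizer (X : Set G) ≤ L → L = M)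
  /-- statement 1420 -/
  s1420 : ∀ (M : Subgroup G) (hM : IsCoatom M) (E : Subgroup G) (hE : Cfsg.IsComplIn E (Cfsg.sigmaCore M) M),
      (∀ N : Subgroup G, N ≤ M → Group.IsNilpotent N → (∀ p : ℕ, p.Prime → p ∣ Nat.card N → p ∉ Cfsg.sigma M) → IsMulCommutative N) ∧
      IsMulCommutative ↥⁅E, E⁆ ∧
      (∀ (p : ℕ) (P : Subgroup G), p ∈ Cfsg.sigma M → IsPGroup p P → P ≤ M → ¬ IsCyclic P → Subgroup.normalizer (P : Set G) ≤ M) ∧
      ∀ x ∈ M, x ≠ 1 → (∀ p : ℕ, p.Prime → p ∣ orderOf x → p ∈ Cfsg.tau2 M) → x ∈ Cfsg.sigmaHat M →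
        Subgroup.centralizer ({x} : Set G) ≤ M ∧ ∀ L : Subgroup G, IsCoatom L → Subgroup.centralizer ({x} : Set G) ≤ L → L = M

/-- `M_β`. -/
abbrev betaCore {G : Type u} [Group G] (M : Subgroup G) : Subgroup G := piCoreOf (beta M) M

section Generic

variable {G : Type u} [Group G] [Finite G]

/-- Two `p`-subgroups of `H` of `p'`-index are conjugate in `H`. -/
theorem exists_conj_sylow {p : ℕ} [Fact p.Prime] {H P Q : Subgroup G} (hP : IsPGroup p P)
    (hPH : P ≤ H) (hPi : ¬ p ∣ P.relIndex H) (hQ : IsPGroup p Q) (hQH : Q ≤ H)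
    (hQi : ¬ p ∣ Q.relIndex H) : ∃ h ∈ H, MulAut.conj h • P = Q := by
  obtain ⟨P', rfl⟩ := OddMax.exists_sylow_eq hP hPH hPi
  obtain ⟨Q', rfl⟩ := OddMax.exists_sylow_eq hQ hQH hQi
  obtain ⟨h, rfl⟩ := MulAction.exists_smul_eq H P' Q'
  exact ⟨h, h.2, (Coprime.map_subtype_smul h P').symm⟩

theorem isPGroup_of_card_prime {p : ℕ} {X : Subgroup G} (hX : Nat.card X = p) : IsPGroup p X :=
  IsPGroup.of_card (n := 1) (by rw [hX, pow_one])

theorem ne_bot_of_card_prime {p : ℕ} (hp : p.Prime) {X : Subgroup G} (hX : Nat.card X = p) :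
    X ≠ ⊥ := fun h => hp.one_lt.ne (by rw [← hX, h, Subgroup.card_bot])

theorem centralizer_singleton_eq (x : G) :
    Subgroup.centralizer ({x} : Set G) = Subgroup.centralizer (Subgroup.zpowers x : Set G) := by
  rw [Subgroup.zpowers_eq_closure, Subgroup.centralizer_closure]

theorem dvd_card_of_ne_bot {p : ℕ} [hp : Fact p.Prime] {P : Subgroup G} (hP : IsPGroup p P)
    (h : P ≠ ⊥) : p ∣ Nat.card P := by
  obtain ⟨j, hj⟩ := hP.exists_card_eq
  rw [hj]
  exact dvd_pow_self p fun h0 => h (Subgroup.card_eq_one.1 (by rw [hj, h0, pow_zero]))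

theorem eq_of_dvd_card_pGroup {p q : ℕ} [Fact p.Prime] {P : Subgroup G} (hP : IsPGroup p P)
    (hq : q.Prime) (hd : q ∣ Nat.card P) : q = p := by
  obtain ⟨j, hj⟩ := hP.exists_card_eq
  rw [hj] at hd
  exact (Nat.prime_dvd_prime_iff_eq hq Fact.out).1 (hq.dvd_of_dvd_pow hd)

theorem coprime_of_not_dvd {p : ℕ} [hp : Fact p.Prime] {P : Subgroup G} (hP : IsPGroup p P) {n : ℕ}
    (h : ¬ p ∣ n) : (Nat.card P).Coprime n := by
  obtain ⟨j, hj⟩ := hP.exists_card_eq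
  rw [hj]
  exact ((hp.out.coprime_iff_not_dvd).2 h).pow_left j

theorem coprime_pGroups {p q : ℕ} [Fact p.Prime] [hq : Fact q.Prime] {P Q : Subgroup G}
    (hP : IsPGroup p P) (hQ : IsPGroup q Q) (hne : p ≠ q) :
    (Nat.card P).Coprime (Nat.card Q) :=
  coprime_of_not_dvd hP fun h => hne (eq_of_dvd_card_pGroup hQ Fact.out h)

/-- A nontrivial `p`-subgroup has an element of order `p` in its centre. -/
theorem exists_center {p : ℕ} [hp : Fact p.Prime] {P : Subgroup G} (hP : IsPGroup p P) (h : P ≠ ⊥) :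
    ∃ z : G, z ∈ P ⊓ Subgroup.centralizer (P : Set G) ∧ orderOf z = p := by
  have : Nontrivial P := (Subgroup.nontrivial_iff_ne_bot P).mpr h
  have := hP.center_nontrivial
  obtain ⟨j, hj, hc⟩ := (hP.to_subgroup (Subgroup.center P)).nontrivial_iff_card.mp inferInstance
  obtain ⟨z, hz⟩ := exists_prime_orderOf_dvd_card' (G := Subgroup.center P) p
    (hc ▸ dvd_pow_self p hj.ne')
  exact ⟨((z : P) : G), ⟨(z : P).2, fun y hy => congrArg Subtype.val
    (Subgroup.mem_center_iff.mp z.2 ⟨y, hy⟩)⟩,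
    by rw [Subgroup.orderOf_coe, Subgroup.orderOf_coe, hz]⟩

/-- In a cyclic subgroup a subgroup of prime order is determined by its order. -/
theorem eq_of_card_eq_of_cyclic {S X Y : Subgroup G} [IsCyclic S] (hX : X ≤ S) (hY : Y ≤ S)
    (h : Nat.card X = Nat.card Y) : X = Y := by
  classical
  cases nonempty_fintype S
  have h1 : X.subgroupOf S = Y.subgroupOf S := by
    have key : ∀ Z : Subgroup G, Z ≤ S → Nat.card Z = Nat.card X →
        Finset.univ.filter (fun a : S => (a : G) ∈ Z) =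
          Finset.univ.filter (fun a : S => a ^ Nat.card X = 1) := by
      intro Z hZS hZc
      refine Finset.eq_of_subset_of_card_le (fun a ha => ?_) ?_
      · simp only [Finset.mem_filter, Finset.mem_univ, true_and] at ha ⊢
        have := congrArg Subtype.val (pow_card_eq_one' (x := (⟨a, ha⟩ : Z)))
        exact Subtype.ext (by simpa [hZc] using this)
      · refine (IsCyclic.card_pow_eq_one_le (α := S) Nat.card_pos).trans ?_
        have e : Nat.card (Z.subgroupOf S) =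
            (Finset.univ.filter (fun a : S => (a : G) ∈ Z)).card := by
          rw [← Fintype.card_subtype, ← Nat.card_eq_fintype_card]; rfl
        rw [← e, Cores.card_subgroupOf hZS, hZc]
    ext a
    have := congrArg (fun s => a ∈ s) ((key X hX rfl).trans (key Y hY h.symm).symm)
    simpa [Subgroup.mem_subgroupOf] using this
  rw [← Subgroup.map_subgroupOf_eq_of_le hX, h1, Subgroup.map_subgroupOf_eq_of_le hY]

/-- A subgroup with a normal `p`-complement: its `p'`-subgroups centralise the `p`-subgroups they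
normalise. -/
theorem le_centralizer_of_hasNormalPComplement {p : ℕ} [Fact p.Prime] {H Q X : Subgroup G}
    (h : HasNormalPComplement p H) (hQ : IsPGroup p Q) (hQH : Q ≤ H) (hXH : X ≤ H)
    (hcop : (Nat.card X).Coprime p) (hn : X ≤ Subgroup.normalizer (Q : Set G)) :
    X ≤ Subgroup.centralizer (Q : Set G) := by
  intro x hx
  have h1 := Transfer.mem_centralizer_of_coprime h (Q := Q.subgroupOf H)
    (hQ.comap_of_injective H.subtype H.subtype_injective) (g := ⟨x, hXH hx⟩)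
    (Coprime.mem_normalizer_of_forall fun y hy => (Subgroup.mem_normalizer_iff.1 (hn hx) _).1 hy)
    (hcop.coprime_dvd_left (by
      rw [Subgroup.orderOf_mk]
      exact (Subgroup.orderOf_mk x hx).symm ▸ orderOf_dvd_natCard (⟨x, hx⟩ : X)))
  intro y hy
  exact congrArg Subtype.val (h1 ⟨y, hQH hy⟩ hy)

end Generic

variable {G : Type u} [Group G] [Finite G]

namespace Facts

variable (F : Facts G) {M N : Subgroup G}
include F

theorem solvable (hM : IsCoatom M) : Group.IsSolvable M := OddSigma.proper_solvable F.hG hM.1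

theorem prime_ne_two {p : ℕ} {H : Subgroup G} (h : p ∣ Nat.card H) : p ≠ 2 :=
  OddSigma.prime_ne_two F.hG h

theorem uniqHyp : OddSigma.UniqHyp G := F.s1403

theorem ne_top_of_isPGroup {p : ℕ} [Fact p.Prime] {P : Subgroup G} (hP : IsPGroup p P) : P ≠ ⊤ :=
  OddSigma.top_not_pGroup F.hG hP

theorem unique_of_rank_three {p : ℕ} [hp : Fact p.Prime] {K : Subgroup G} (hK : K ≠ ⊤)
    (h : ¬ PRankLE p 2 ↥K) : InUniqueMaximal K :=
  F.s1403 K hK
    (OddSigma.not_rankLE_of_prank hp.out fun h1 => h (OddSigma.prankLE_le hp.out (by norm_num) h1))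
    (Or.inl (OddSigma.not_rankLE_of_prank hp.out h))

/-- An `α`-prime of `M` which is a `σ`-prime of `N` forces conjugacy. -/
theorem conj_of_alpha (hM : IsCoatom M) (hN : IsCoatom N) {p : ℕ} (hpM : p ∈ alpha M)
    (hpN : p ∈ sigma N) : ∃ g : G, N = MulAut.conj g • M := by
  have := Fact.mk hpN.1
  obtain ⟨E, hEM, hE, hc⟩ := OddSigma.exists_elementary hpM.2
  have hEp := Signalizer.isPGroup_of_elemAb hE
  obtain ⟨g, hg⟩ := OddSigma.exists_conj_le_of_sigma hpN hEp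
  have hu : InUniqueMaximal E := F.unique_of_rank_three (p := p) (F.ne_top_of_isPGroup hEp)
    (OddSigma.not_prankLE_of_le le_rfl hE
      (lt_of_lt_of_le (Nat.pow_lt_pow_right hpN.1.one_lt (by norm_num)) hc))
  have h1 : MulAut.conj g • N = M :=
    hu.unique ⟨OddSigma.isCoatom_conj hN g, hg⟩ ⟨hM, hEM⟩
  exact ⟨g⁻¹, by rw [← h1, Solvable.conj_inv_smul]⟩

theorem sigmaCore_coprime (hM : IsCoatom M) :
    (Nat.card (sigmaCore M)).Coprime ((sigmaCore M).relIndex M) :=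
  Nat.coprime_of_dvd fun p hp h1 h2 =>
    (F.s1350 M hM).1.2.2 p hp ((F.s1350 M hM).1.2.1 p hp h1) h2

theorem not_dvd_sigmaCore (hM : IsCoatom M) {p : ℕ} (hp : p.Prime) (h : p ∉ sigma M) :
    ¬ p ∣ Nat.card (sigmaCore M) := fun hd => h ((F.s1350 M hM).1.2.1 p hp hd)

theorem mem_sigmaCore (hM : IsCoatom M) {x : G} (hx : x ∈ M)
    (h : ∀ p : ℕ, p.Prime → p ∣ orderOf x → p ∈ sigma M) : x ∈ sigmaCore M :=
  OddMax.mem_of_coprime_relIndex (OddMax.le_normalizer_sigmaCore M) hx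
    (Nat.coprime_of_dvd fun p hp h1 h2 => (F.s1350 M hM).1.2.2 p hp (h p hp h1) h2)

theorem le_sigmaCore_of_pi (hM : IsCoatom M) {X : Subgroup G} (hX : X ≤ M)
    (h : ∀ p : ℕ, p.Prime → p ∣ Nat.card X → p ∈ sigma M) : X ≤ sigmaCore M := fun x hx =>
  F.mem_sigmaCore hM (hX hx) fun p hp hd =>
    h p hp (hd.trans ((Subgroup.orderOf_mk x hx).symm ▸ orderOf_dvd_natCard (⟨x, hx⟩ : X)))

theorem le_sigmaCore_of_pGroup (hM : IsCoatom M) {p : ℕ} [Fact p.Prime] (hp : p ∈ sigma M)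
    {X : Subgroup G} (hXp : IsPGroup p X) (hX : X ≤ M) : X ≤ sigmaCore M :=
  F.le_sigmaCore_of_pi hM hX fun _ hq hd => eq_of_dvd_card_pGroup hXp hq hd ▸ hp

/-- A nilpotent `σ`-core separates `M` from the maximal subgroups not conjugate to it. -/
theorem conj_of_nilpotent (hM : IsCoatom M) (hN : IsCoatom N)
    (hn : Group.IsNilpotent (sigmaCore M)) {p : ℕ} (hpM : p ∈ sigma M) (hpN : p ∈ sigma N) :
    ∃ g : G, N = MulAut.conj g • M := by
  have := Fact.mk hpM.1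
  obtain ⟨S⟩ : Nonempty (Sylow p (sigmaCore M)) := inferInstance
  set P := (S : Subgroup (sigmaCore M)).map (sigmaCore M).subtype with hP
  have hPp : IsPGroup p P := S.isPGroup'.map _
  have hPs : P ≤ sigmaCore M := Subgroup.map_subtype_le _
  have hPM : P ≤ M := hPs.trans (OddMax.sigmaCore_le M)
  have hPi : ¬ p ∣ P.index := by
    rw [← Subgroup.relIndex_mul_index hPs]
    exact Nat.Prime.not_dvd_mul hpM.1 (OddMax.sylow_relIndex S) ((F.s1350 M hM).2.1.2 p hpM.1 hpM)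
  have hP1 : P ≠ ⊥ := fun h => hPi (by
    rw [h, Subgroup.index_bot]
    exact (sigma_dvd hpM).trans (Subgroup.card_subgroup_dvd_card M))
  have hNP : Subgroup.normalizer (P : Set G) = M := OddMax.normalizer_eq F.hG hM hP1 hPM
    ((OddMax.le_normalizer_sigmaCore M).trans (OddMax.normalizer_le_normalizer_sylow hn S))
  obtain ⟨g, hg⟩ := OddSigma.exists_conj_le_of_sigma hpN hPp
  have h1 := OddMax.normalizer_le_of_mem_sigma (by rwa [OddMax.sigma_conj]) hPp hg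
    (fun hd => hPi (hd.trans (Subgroup.relIndex_dvd_index_of_le hg)))
  rw [hNP] at h1
  have hcN := OddSigma.isCoatom_conj hN g
  have h2 : MulAut.conj g • N = M :=
    (h1.eq_or_lt).elim Eq.symm fun h => absurd (hM.2 _ h) hcN.1
  exact ⟨g⁻¹, by rw [← h2, Solvable.conj_inv_smul]⟩
where
  sigma_dvd {p : ℕ} (hp : p ∈ sigma M) : p ∣ Nat.card M := hp.2.1

theorem alpha_subset_sigma (hM : IsCoatom M) : alpha M ⊆ sigma M := by
  intro p hp
  obtain ⟨hH, -, hle, -⟩ := F.s1405 M hM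
  refine (F.s1350 M hM).1.2.1 p hp.1 (dvd_trans ?_ (Subgroup.card_dvd_of_le hle))
  have h := OddSigma.alpha_dvd hp
  rw [← OddMax.card_mul_relIndex hH.1] at h
  exact (hp.1.dvd_mul.1 h).resolve_right (hH.2.2 p hp.1 hp)

theorem beta_subset_sigma (hM : IsCoatom M) : beta M ⊆ sigma M :=
  fun _ hp => F.alpha_subset_sigma hM hp.1

theorem betaCore_le_sigmaCore (hM : IsCoatom M) : betaCore M ≤ sigmaCore M :=
  OddMax.le_sigmaCore (OddTrans.piCoreOf_le _ _) (OddTrans.le_normalizer_piCoreOf _ _)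
    fun p hp hd => F.beta_subset_sigma hM (OddTrans.piCoreOf_pi _ _ p hp hd)

/-- `q'`-elements of `M_σ` centralise the `q`-subgroups of `M_σ` they normalise, `q ∉ β(M)`. -/
theorem le_centralizer_sigmaCore (hM : IsCoatom M) {q : ℕ} [hq : Fact q.Prime] (hqβ : q ∉ beta M)
    {Q X : Subgroup G} (hQ : IsPGroup q Q) (hQM : Q ≤ sigmaCore M) (hXM : X ≤ sigmaCore M)
    (hcop : (Nat.card X).Coprime q) (hn : X ≤ Subgroup.normalizer (Q : Set G)) :
    X ≤ Subgroup.centralizer (Q : Set G) := by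
  by_cases hQ1 : Q = ⊥
  · intro x _ y hy
    rw [hQ1] at hy
    rw [Subgroup.mem_bot.1 hy, one_mul, mul_one]
  have hd : q ∣ Nat.card M := (dvd_card_of_ne_bot hQ hQ1).trans
    (Subgroup.card_dvd_of_le (hQM.trans (OddMax.sigmaCore_le M)))
  exact le_centralizer_of_hasNormalPComplement ((F.s1414 M hM).2.2.2.2 q hq.out hd hqβ).2.1
    hQ hQM hXM hcop hn

/-- `q'`-elements of `M'` centralise the `q`-subgroups of `M'` they normalise, `q ∉ β(M)`. -/
theorem le_centralizer_commutator (hM : IsCoatom M) {q : ℕ} [hq : Fact q.Prime] (hqβ : q ∉ beta M)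
    {Q X : Subgroup G} (hQ : IsPGroup q Q) (hQM : Q ≤ ⁅M, M⁆) (hXM : X ≤ ⁅M, M⁆)
    (hcop : (Nat.card X).Coprime q) (hn : X ≤ Subgroup.normalizer (Q : Set G)) :
    X ≤ Subgroup.centralizer (Q : Set G) := by
  by_cases hQ1 : Q = ⊥
  · intro x _ y hy
    rw [hQ1] at hy
    rw [Subgroup.mem_bot.1 hy, one_mul, mul_one]
  have hd : q ∣ Nat.card M := (dvd_card_of_ne_bot hQ hQ1).trans
    (Subgroup.card_dvd_of_le (hQM.trans (OddMax.commutator_lt F.hG hM).le))
  exact le_centralizer_of_hasNormalPComplement ((F.s1414 M hM).2.2.2.2 q hq.out hd hqβ).1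
    hQ hQM hXM hcop hn

/-- A `p`-subgroup of `p'`-index of `M`, `p ∈ σ(M)`, is a Sylow subgroup of `G`. -/
theorem not_dvd_index_of_sylow (hM : IsCoatom M) {p : ℕ} [hpp : Fact p.Prime] (hp : p ∈ sigma M)
    {P : Subgroup G} (hPM : P ≤ M) (hi : ¬ p ∣ P.relIndex M) : ¬ p ∣ P.index := by
  rw [← Subgroup.relIndex_mul_index hPM]
  exact Nat.Prime.not_dvd_mul hpp.out hi (OddMax.not_dvd_index_of_mem_sigma hp)

theorem sigmaCore_le_commutator (hM : IsCoatom M) : sigmaCore M ≤ ⁅M, M⁆ := by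
  have hle : ⁅M, M⁆ ≤ M := (OddMax.commutator_lt F.hG hM).le
  suffices h : ∀ p : ℕ, p.Prime → p ∈ sigma M → ¬ p ∣ (⁅M, M⁆).relIndex M by
    intro x hx
    refine OddMax.mem_of_coprime_relIndex (M := M) ?_ (OddMax.sigmaCore_le M hx)
      (Nat.coprime_of_dvd fun p hp h1 h2 => h p hp ((F.s1350 M hM).1.2.1 p hp (h1.trans
        ((Subgroup.orderOf_mk x hx).symm ▸ orderOf_dvd_natCard (⟨x, hx⟩ : sigmaCore M)))) h2)
    exact Subgroup.le_normalizer_iff_commutator_le_right.2 (Subgroup.commutator_mono le_rfl hle)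
  intro p hp hpσ hd
  have := Fact.mk hp
  obtain ⟨S⟩ : Nonempty (Sylow p M) := inferInstance
  set P := (S : Subgroup M).map M.subtype with hP
  have hPp : IsPGroup p P := S.isPGroup'.map _
  have hPM : P ≤ M := Subgroup.map_subtype_le _
  have hPi := F.not_dvd_index_of_sylow hM hpσ hPM (OddMax.sylow_relIndex S)
  obtain ⟨T, hT⟩ : ∃ T : Sylow p G, (T : Subgroup G) = P := ⟨hPp.toSylow hPi, rfl⟩
  have hNM : Subgroup.normalizer (P : Set G) ≤ M := OddSigma.sigma_normalizer_le hpσ S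
  have := F.solvable hM
  have := Coprime.isSolvable_of_le hNM (F.solvable hM)
  obtain ⟨V, hV⟩ := OddMax.exists_compl (M := Subgroup.normalizer (P : Set G))
    (N := P) Subgroup.le_normalizer le_rfl (coprime_of_not_dvd hPp fun h =>
      hPi (h.trans (Subgroup.relIndex_dvd_index_of_le Subgroup.le_normalizer)))
  have h1 := (F.s1411 p T V (by rw [hT]; exact OddMax.compl_symm hV)).2
  rw [hT] at h1
  have h2 : P ≤ ⁅M, M⁆ := h1.trans (Subgroup.commutator_mono hNM hNM)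
  exact OddMax.sylow_relIndex S (hd.trans (Subgroup.relIndex_dvd_of_le_left _ h2))

theorem prankLE_two (hM : IsCoatom M) {p : ℕ} (hp : p.Prime) (h : p ∉ sigma M) : PRankLE p 2 M := by
  by_contra h2
  exact h (F.alpha_subset_sigma hM ⟨hp, h2⟩)

theorem mem_tau2 (hM : IsCoatom M) {p : ℕ} (hp : p.Prime) (h : p ∉ sigma M)
    (h1 : ¬ PRankLE p 1 M) : p ∈ tau2 M := ⟨hp, h, F.prankLE_two hM hp h, h1⟩

theorem tau2_not_ideal (hM : IsCoatom M) {p : ℕ} (hp : p ∈ tau2 M) : ¬ IsIdealPrime p G :=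
  have := Fact.mk hp.1
  (F.s1408 M hM p hp.2.1 hp.2.2.1 hp.2.2.2).1

theorem tau2_not_beta (hM : IsCoatom M) {p : ℕ} (hp : p ∈ tau2 M) : p ∉ beta N :=
  fun h => F.tau2_not_ideal hM hp h.2

/-- `p`-subgroups of `M` are cyclic for `p` outside `σ(M)` and `τ₂(M)`. -/
theorem isCyclic_pSubgroup (hM : IsCoatom M) {p : ℕ} [hp : Fact p.Prime] (hσ : p ∉ sigma M)
    (hτ : p ∉ tau2 M) {P : Subgroup G} (hP : IsPGroup p P) (hPM : P ≤ M) : IsCyclic P := by
  by_cases hP1 : P = ⊥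
  · subst hP1; infer_instance
  have hd := dvd_card_of_ne_bot hP hP1
  have h1 : PRankLE p 1 M := by_contra fun h => hτ (F.mem_tau2 hM hp.out hσ h)
  have := Isolated.isCyclic_of_rank_le_one (F.prime_ne_two hd) h1 (P.subgroupOf M)
    (hP.comap_of_injective M.subtype M.subtype_injective)
  exact isCyclic_of_surjective (Subgroup.subgroupOfEquivOfLe hPM).toMonoidHom
    (Subgroup.subgroupOfEquivOfLe hPM).surjective

/-- A maximal subgroup over `N(X)`, `|X| = p ∉ σ(M) ∪ τ₂(M)`, is not `M`. -/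
theorem not_normalizer_le (hM : IsCoatom M) {p : ℕ} [hp : Fact p.Prime] (hσ : p ∉ sigma M)
    (hτ : p ∉ tau2 M) {X : Subgroup G} (hX : Nat.card X = p) :
    ¬ Subgroup.normalizer (X : Set G) ≤ M := fun h =>
  hτ ⟨hp.out, hσ, (F.s1409 M hM p hσ X hX h).1.1, (F.s1409 M hM p hσ X hX h).1.2⟩

theorem exists_compl (hM : IsCoatom M) : ∃ E, IsComplIn E (sigmaCore M) M :=
  have := F.solvable hM
  OddMax.exists_compl (OddMax.sigmaCore_le M) (OddMax.le_normalizer_sigmaCore M)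
    (F.sigmaCore_coprime hM)

theorem exists_compl_ge (hM : IsCoatom M) {X : Subgroup G} (hX : X ≤ M)
    (h : ∀ p : ℕ, p.Prime → p ∣ Nat.card X → p ∉ sigma M) :
    ∃ E, IsComplIn E (sigmaCore M) M ∧ X ≤ E :=
  have := F.solvable hM
  OddMax.exists_compl_ge (OddMax.sigmaCore_le M) (OddMax.le_normalizer_sigmaCore M)
    (F.sigmaCore_coprime hM) hX
    (Nat.coprime_of_dvd fun p hp h1 h2 => h p hp h1 ((F.s1350 M hM).1.2.1 p hp h2))

/-- A complement of `M_σ` normalising a Sylow subgroup of `M_σ` and over a given `σ'`-subgroup. -/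
theorem exists_compl_normalizing (hM : IsCoatom M) {q : ℕ} [Fact q.Prime] {Q X : Subgroup G}
    (hQ : IsPGroup q Q) (hQM : Q ≤ sigmaCore M) (hQi : ¬ q ∣ Q.relIndex (sigmaCore M))
    (hX : X ≤ M) (hXQ : X ≤ Subgroup.normalizer (Q : Set G))
    (h : ∀ p : ℕ, p.Prime → p ∣ Nat.card X → p ∉ sigma M) :
    ∃ E, IsComplIn E (sigmaCore M) M ∧ X ≤ E ∧ E ≤ Subgroup.normalizer (Q : Set G) := by
  set N := M ⊓ Subgroup.normalizer (Q : Set G) with hN
  set K := sigmaCore M ⊓ Subgroup.normalizer (Q : Set G) with hK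
  have hKN : K ≤ N := inf_le_inf_right _ (OddMax.sigmaCore_le M)
  have hNK : N ≤ Subgroup.normalizer (K : Set G) := fun n hn => by
    refine Coprime.mem_normalizer_of_forall fun x hx => ⟨?_, ?_⟩
    · exact (Subgroup.mem_normalizer_iff.1 (OddMax.le_normalizer_sigmaCore M hn.1) x).1 hx.1
    · exact Subgroup.mul_mem _ (Subgroup.mul_mem _ hn.2 hx.2) (Subgroup.inv_mem _ hn.2)
  have hKd : K.relIndex N ∣ (sigmaCore M).relIndex M := by
    rw [hK, hN, show sigmaCore M ⊓ Subgroup.normalizer (Q : Set G) =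
      sigmaCore M ⊓ (M ⊓ Subgroup.normalizer (Q : Set G)) by
        rw [← inf_assoc, inf_eq_left.2 (OddMax.sigmaCore_le M)], Subgroup.inf_relIndex_right]
    exact relIndex_dvd (OddMax.le_normalizer_sigmaCore M) inf_le_left
  have := Coprime.isSolvable_of_le (inf_le_left : N ≤ M) (F.solvable hM)
  obtain ⟨E, hE, hXE⟩ := OddMax.exists_compl_ge hKN hNK
    (((F.sigmaCore_coprime hM).coprime_dvd_left (Subgroup.card_dvd_of_le inf_le_left)).coprime_dvd_right
      hKd) (X := X) (le_inf hX hXQ)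
    (Nat.coprime_of_dvd fun p hp h1 h2 =>
      h p hp h1 ((F.s1350 M hM).1.2.1 p hp (h2.trans (Subgroup.card_dvd_of_le inf_le_left))))
  refine ⟨E, ⟨hE.1.trans inf_le_left, OddMax.sigmaCore_le M, ?_, fun m hm => ?_⟩, hXE,
    hE.1.trans inf_le_right⟩
  · rw [eq_bot_iff]
    intro x hx
    exact hE.2.2.1 ▸ (⟨hx.1, hx.2, (hE.1 hx.1).2⟩ : x ∈ E ⊓ K)
  · obtain ⟨s, hs, hsQ⟩ := exists_conj_sylow hQ hQM hQi (Q := MulAut.conj m • Q)
      (OddMax.isPGroup_conj m hQ)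
      ((Solvable.conj_mono m hQM).trans (conj_sigmaCore hm).le)
      (by rw [← conj_sigmaCore hm, OddMax.relIndex_conj]; exact hQi)
    have hn : s⁻¹ * m ∈ N := by
      refine ⟨M.mul_mem (M.inv_mem (OddMax.sigmaCore_le M hs)) hm,
        Coprime.mem_normalizer_of_conj_eq ?_⟩
      rw [← Solvable.conj_conj, ← hsQ, Solvable.conj_inv_smul]
    obtain ⟨e, he, k, hk, hek⟩ := hE.2.2.2 _ hn
    refine ⟨e, he, e⁻¹ * s * e * k, mul_mem ((Subgroup.mem_normalizer_iff''.1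
      (OddMax.le_normalizer_sigmaCore M (hE.1 he).1) s).1 hs) hk.1, ?_⟩
    rw [show e * (e⁻¹ * s * e * k) = s * (e * k) by group, ← hek]
    group
where
  conj_sigmaCore {m : G} (hm : m ∈ M) : MulAut.conj m • sigmaCore M = sigmaCore M :=
    Solvable.mem_normalizer_iff_conj.1 (OddMax.le_normalizer_sigmaCore M hm)
  relIndex_dvd {H K L : Subgroup G} (hn : K ≤ Subgroup.normalizer (H : Set G)) (hLK : L ≤ K) :
      H.relIndex L ∣ H.relIndex K := by
    have := Subgroup.normal_subgroupOf_of_le_normalizer hn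
    rw [← Subgroup.relIndex_subgroupOf hLK]
    exact Subgroup.relIndex_dvd_index_of_normal _ _

/-- `M = N_M(Q) M_β` for a Sylow `q`-subgroup `Q`, `q ∈ σ(M) \ β(M)`. -/
theorem le_sup_betaCore (hM : IsCoatom M) {q : ℕ} [hqp : Fact q.Prime] (hq : q ∈ sigma M)
    (hqβ : q ∉ beta M) {Q : Subgroup G} (hQ : IsPGroup q Q) (hQM : Q ≤ M)
    (hQi : ¬ q ∣ Q.relIndex M) :
    M ≤ (M ⊓ Subgroup.normalizer (Q : Set G)) ⊔ betaCore M := by
  set K := betaCore M with hK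
  have hQs : Q ≤ sigmaCore M := F.le_sigmaCore_of_pGroup hM hq hQ hQM
  have hQis : ¬ q ∣ Q.relIndex (sigmaCore M) := fun h => hQi (h.trans
    (Dvd.intro _ (Subgroup.relIndex_mul_relIndex Q (sigmaCore M) M hQs (OddMax.sigmaCore_le M))))
  obtain ⟨hKH, -, -, ⟨H, hH, hHn⟩, -⟩ := F.s1414 M hM
  obtain ⟨S⟩ : Nonempty (Sylow q H) := inferInstance
  set Q0 := (S : Subgroup H).map H.subtype with hQ0
  have hQ0H : Q0 ≤ H := Subgroup.map_subtype_le _
  have hQ0p : IsPGroup q Q0 := S.isPGroup'.map _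
  have hQ0i : ¬ q ∣ Q0.relIndex (sigmaCore M) := by
    rw [← Subgroup.relIndex_mul_relIndex Q0 H (sigmaCore M) hQ0H hH.1]
    exact Nat.Prime.not_dvd_mul hqp.out (OddMax.sylow_relIndex S) (hH.2.2 q hqp.out ⟨hqp.out, hqβ⟩)
  obtain ⟨s, hs, hsQ⟩ := exists_conj_sylow hQ0p (hQ0H.trans hH.1) hQ0i hQ hQs hQis
  have hHN : MulAut.conj s • H ≤ Subgroup.normalizer (Q : Set G) := by
    rw [← hsQ, OddMax.normalizer_conj]
    exact Solvable.conj_mono s (Subgroup.le_normalizer.trans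
      (OddMax.normalizer_le_normalizer_sylow hHn S))
  have hHs : MulAut.conj s • H ≤ sigmaCore M :=
    (Solvable.conj_mono s hH.1).trans (Solvable.conj_eq_self hs).le
  set W := (sigmaCore M ⊓ Subgroup.normalizer (Q : Set G)) ⊔ K with hW
  have hKs : K ≤ sigmaCore M := F.betaCore_le_sigmaCore hM
  have hWs : W = sigmaCore M := by
    have hWle : W ≤ sigmaCore M := sup_le inf_le_left hKs
    refine le_antisymm hWle (Subgroup.relIndex_eq_one.1
      (by_contra fun h => ?_))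
    obtain ⟨r, hr, hrd⟩ := Nat.exists_prime_and_dvd h
    by_cases hrβ : r ∈ beta M
    · refine hKH.2.2 r hr hrβ ?_
      refine hrd.trans ((Subgroup.relIndex_dvd_of_le_left _ (le_sup_right : K ≤ W)).trans ?_)
      exact Dvd.intro _ (Subgroup.relIndex_mul_relIndex K (sigmaCore M) M hKs (OddMax.sigmaCore_le M))
    · refine hH.2.2 r hr ⟨hr, hrβ⟩ ?_
      have h1 : MulAut.conj s • H ≤ W := le_sup_of_le_left (le_inf hHs hHN)
      refine hrd.trans ((Subgroup.relIndex_dvd_of_le_left _ h1).trans ?_)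
      nth_rw 1 [← Solvable.conj_eq_self hs]
      rw [OddMax.relIndex_conj]
  intro m hm
  obtain ⟨t, ht, htQ⟩ := exists_conj_sylow hQ hQs hQis (Q := MulAut.conj m • Q)
    (OddMax.isPGroup_conj m hQ)
    ((Solvable.conj_mono m hQs).trans
      (Solvable.mem_normalizer_iff_conj.1 (OddMax.le_normalizer_sigmaCore M hm)).le)
    (by rw [← Solvable.mem_normalizer_iff_conj.1 (OddMax.le_normalizer_sigmaCore M hm),
      OddMax.relIndex_conj]; exact hQis)
  have hn : t⁻¹ * m ∈ M ⊓ Subgroup.normalizer (Q : Set G) := by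
    refine ⟨M.mul_mem (M.inv_mem (OddMax.sigmaCore_le M ht)) hm,
      Coprime.mem_normalizer_of_conj_eq ?_⟩
    rw [← Solvable.conj_conj, ← htQ, Solvable.conj_inv_smul]
  have htW : t ∈ (M ⊓ Subgroup.normalizer (Q : Set G)) ⊔ K :=
    (sup_le_sup_right (inf_le_inf_right _ (OddMax.sigmaCore_le M)) K) (hWs ▸ ht : t ∈ W)
  simpa [mul_assoc] using Subgroup.mul_mem _ htW (Subgroup.mem_sup_left hn)

end Facts

end Cfsg.Agent.OddPrime
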