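import Cfsg.Agent.Lib.OddPrime.PrimeTau1

/-!
Bender-Glauberman 13.9: maximal subgroups with a common `σ`-prime are conjugate
(`Facts.sigma_disjoint`), with the tools `le_normalizer_of_cyclic_sylows`, `sylow_fixed_bot`,
`le_commutator_of_rank_one`.
-/

set_option autoImplicit false
set_option linter.unusedVariables false
set_option linter.unusedSectionVars false

universe u

namespace Cfsg.Agent.OddPrime

open scoped Pointwise commutatorElement

variable {G : Type u} [Group G] [Finite G]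

theorem exists_hallOf_ge {M U : Subgroup G} (hM : Group.IsSolvable M) {π : Set ℕ} (hUM : U ≤ M)
    (hU : ∀ r : ℕ, r.Prime → r ∣ Nat.card U → r ∈ π) :
    ∃ H : Subgroup G, IsPiHallOf π H M ∧ U ≤ H := by
  have := hM
  obtain ⟨H, hH, hUH⟩ := Solvable.exists_piHall_ge_of_solvable (π := π) (U := U.subgroupOf M)
    (fun r hr hd => hU r hr (by rwa [Cores.card_subgroupOf hUM] at hd))
  exact ⟨_, Solvable.isPiHallOf_map_subtype hH, fun x hx => ⟨⟨x, hUM hx⟩, hUH hx, rfl⟩⟩

theorem exists_prime_subgroup {p : ℕ} [hp : Fact p.Prime] {H : Subgroup G} (h : p ∣ Nat.card H) :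
    ∃ X : Subgroup G, X ≤ H ∧ Nat.card X = p := by
  obtain ⟨x, hx⟩ := exists_prime_orderOf_dvd_card' p h
  exact ⟨Subgroup.zpowers (x : G), Subgroup.zpowers_le.2 x.2,
    by rw [Nat.card_zpowers, Subgroup.orderOf_coe, hx]⟩

theorem le_centralizer_of_le_cyclic {H X Y : Subgroup G} (hH : IsCyclic H) (hX : X ≤ H) (hY : Y ≤ H) :
    X ≤ Subgroup.centralizer (Y : Set G) :=
  (hX.trans (le_centralizer_self IsCyclic.isMulCommutative)).trans (Subgroup.centralizer_le hY)

theorem le_centralizer_conj {A B : Subgroup G} (h : A ≤ Subgroup.centralizer (B : Set G)) (g : G) :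
    MulAut.conj g • A ≤ Subgroup.centralizer ((MulAut.conj g • B : Subgroup G) : Set G) := by
  rintro _ ⟨a, ha, rfl⟩ _ ⟨b, hb, rfl⟩
  show MulAut.conj g b * MulAut.conj g a = MulAut.conj g a * MulAut.conj g b
  rw [← map_mul, ← map_mul, h ha b hb]

theorem conj_eq_of_mem_centralizer {P : Subgroup G} {c : G}
    (hc : c ∈ Subgroup.centralizer (P : Set G)) : MulAut.conj c • P = P :=
  Coprime.conj_eq_of_mem_normalizer (Subgroup.centralizer_le_normalizer _ hc)

/-- In a `{s, t}`-group with cyclic Sylow subgroups, `s < t`, order `s` normalises order `t`. -/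
theorem le_normalizer_of_cyclic_sylows {s t : ℕ} [hs : Fact s.Prime] [ht : Fact t.Prime] (hst : s < t)
    {H D F : Subgroup G} (hπ : ∀ r : ℕ, r.Prime → r ∣ Nat.card H → r = s ∨ r = t)
    (hcs : ∀ S : Subgroup G, S ≤ H → IsPGroup s S → IsCyclic S)
    (hct : ∀ S : Subgroup G, S ≤ H → IsPGroup t S → IsCyclic S)
    (hDH : D ≤ H) (hD : Nat.card D = s) (hFH : F ≤ H) (hF : Nat.card F = t) :
    D ≤ Subgroup.normalizer (F : Set G) := by
  have hsd : s ∣ Nat.card H := hD ▸ Subgroup.card_dvd_of_le hDH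
  have hne : Nat.card H ≠ 1 := fun h => hs.out.ne_one (Nat.dvd_one.1 (h ▸ hsd))
  have hmin : (Nat.card H).minFac = s := by
    rcases hπ _ (Nat.minFac_prime hne) (Nat.minFac_dvd _) with h | h
    · exact h
    · have := Nat.minFac_le_of_dvd hs.out.two_le hsd
      omega
  obtain ⟨S⟩ : Nonempty (Sylow s H) := inferInstance
  have hSc : IsCyclic (S : Subgroup H) :=
    (Subgroup.equivMapOfInjective _ H.subtype H.subtype_injective).isCyclic.2
      (hcs _ (Subgroup.map_subtype_le _) (S.isPGroup'.map _))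
  set f := MonoidHom.transferSylow S (hSc.normalizer_le_centralizer hmin) with hf
  have hK := hSc.isComplement' (P := S) hmin
  have hKc : Nat.card f.ker = (S : Subgroup H).index := hK.index_eq_card.symm
  set K := f.ker.map H.subtype with hKdef
  have hKp : IsPGroup t K := by
    have h1 : ∀ d : ℕ, d.Prime → d ∣ Nat.card K → d = t := fun d hd hdK => by
      rw [hKdef, Subgroup.card_map_of_injective H.subtype_injective, hKc] at hdK
      refine (hπ d hd (hdK.trans (Subgroup.index_dvd_card _))).resolve_left fun h => ?_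
      subst h
      exact S.not_dvd_index hdK
    exact IsPGroup.of_card (Nat.eq_prime_pow_of_unique_prime_dvd Nat.card_pos.ne' (fun {d} hd h => h1 d hd h))
  have hHK : H ≤ Subgroup.normalizer (K : Set G) := OddMax.le_normalizer_map_of_normal _
  have hFK : F ≤ K := fun x hx => by
    refine OddMax.mem_of_coprime_relIndex hHK (hFH hx) ?_
    have he : K.relIndex H = f.ker.index := OddMax.relIndex_eq_index H f.ker
    rw [he, hK.symm.index_eq_card]
    refine Nat.Coprime.coprime_dvd_left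
      ((Subgroup.orderOf_mk x hx).symm ▸ orderOf_dvd_natCard (⟨x, hx⟩ : F) :
        orderOf x ∣ Nat.card F) ?_
    obtain ⟨j, hj⟩ := S.isPGroup'.exists_card_eq
    rw [hF, hj]
    exact ((Nat.coprime_primes ht.out hs.out).2 hst.ne').pow_right j
  exact hDH.trans (hHK.trans (normalizer_le_of_cyclic (hct K (Subgroup.map_subtype_le _) hKp) hFK))

theorem tau1_conj {p : ℕ} (g : G) {M : Subgroup G} (h : p ∈ tau1 M) :
    p ∈ tau1 (MulAut.conj g • M) := by
  refine ⟨h.1, by rw [OddMax.sigma_conj]; exact h.2.1, by rw [Solvable.card_conj]; exact h.2.2.1,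
    fun hd => h.2.2.2.1 ?_, prankLE_conj g h.2.2.2.2⟩
  have he : ⁅MulAut.conj g • M, MulAut.conj g • M⁆ = MulAut.conj g • ⁅M, M⁆ :=
    (Subgroup.map_commutator M M _).symm
  rwa [he, Solvable.card_conj] at hd

theorem alpha_conj {p : ℕ} (g : G) {M : Subgroup G} (h : p ∈ alpha M) :
    p ∈ alpha (MulAut.conj g • M) := by
  refine ⟨h.1, fun h1 => h.2 ?_⟩
  have := prankLE_conj g⁻¹ h1
  rwa [Solvable.conj_inv_smul] at this

theorem beta_conj {p : ℕ} (g : G) {M : Subgroup G} (h : p ∈ beta M) :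
    p ∈ beta (MulAut.conj g • M) := ⟨alpha_conj g h.1, h.2⟩

/-- A maximal pair with a common Sylow `q`-subgroup `Q` and `P` of order `p ∈ τ₁` moving it. -/
structure Common (M N Q P : Subgroup G) (p q : ℕ) : Prop where
  hM : IsCoatom M
  hN : IsCoatom N
  hnc : ∀ g : G, N ≠ MulAut.conj g • M
  hqM : q ∈ sigma M
  hqN : q ∈ sigma N
  hQ : IsPGroup q Q
  hQi : ¬ q ∣ Q.index
  hNM : Subgroup.normalizer (Q : Set G) ≤ M
  hNN : Subgroup.normalizer (Q : Set G) ≤ N
  hpM : p ∈ tau1 M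
  hpN : p ∈ tau1 N
  hP : Nat.card P = p
  hPQ : P ≤ Subgroup.normalizer (Q : Set G)
  hmove : ¬ Q ≤ Subgroup.centralizer (P : Set G)

namespace Facts

variable (F : Facts G) {M N : Subgroup G}
include F

theorem no_tau2 (hM : IsCoatom M) (hN : IsCoatom N) (hnc : ∀ g : G, N ≠ MulAut.conj g • M) {q : ℕ}
    (hqM : q ∈ sigma M) (hqN : q ∈ sigma N) (r : ℕ) : r ∉ tau2 M := fun h =>
  F.not_sigma_of_tau2 hM hN h (not_conj_symm hnc) hqN hqM

theorem prankLE_one (hM : IsCoatom M) {r : ℕ} (hr : r.Prime) (hσ : r ∉ sigma M) (hτ : r ∉ tau2 M) :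
    PRankLE r 1 M := by_contra fun h => hτ (F.mem_tau2 hM hr hσ h)

/-- For a prime of rank one outside `σ(M)` dividing `|M'|`, the `r`-subgroups of `M` lie in `M'`. -/
theorem le_commutator_of_rank_one (hM : IsCoatom M) {r : ℕ} [hr : Fact r.Prime] (hσ : r ∉ sigma M)
    (h1 : PRankLE r 1 M) (hd : r ∣ Nat.card ↥⁅M, M⁆) {X : Subgroup G} (hX : IsPGroup r X)
    (hXM : X ≤ M) : X ≤ ⁅M, M⁆ := by
  obtain ⟨E, hE⟩ := F.exists_compl hM
  obtain ⟨E3, hE3, -⟩ := exists_hallOf_ge (U := ⊥) (Coprime.isSolvable_of_le hE.1 (F.solvable hM))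
    (π := tau3 M) bot_le (fun s hs hsd => absurd (Subgroup.card_bot (G := G) ▸ hsd) hs.not_dvd_one)
  have h3 := ((F.s1415 M hM E hE).2.2 E3 hE3).2.1
  have hE3M : E3 ≤ ⁅M, M⁆ := h3.trans (Subgroup.commutator_mono hE.1 hE.1)
  have hn : M ≤ Subgroup.normalizer ((⁅M, M⁆ : Subgroup G) : Set G) :=
    Subgroup.le_normalizer_iff_commutator_le_right.2
      (Subgroup.commutator_mono le_rfl (OddMax.commutator_lt F.hG hM).le)
  have hi : ¬ r ∣ (⁅M, M⁆).relIndex M := fun h => by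
    have h2 := h.trans (Subgroup.relIndex_dvd_of_le_left _ hE3M)
    rw [← Subgroup.relIndex_mul_relIndex E3 E M hE3.1 hE.1, OddMax.compl_relIndex_right hE] at h2
    rcases hr.out.dvd_mul.1 h2 with h | h
    · exact hE3.2.2 r hr.out ⟨hr.out, hσ, hd, h1⟩ h
    · exact F.not_dvd_sigmaCore hM hr.out hσ h
  exact fun x hx => OddMax.mem_of_coprime_relIndex hn (hXM hx)
    ((coprime_of_not_dvd hX hi).coprime_dvd_left
      ((Subgroup.orderOf_mk x hx).symm ▸ orderOf_dvd_natCard (⟨x, hx⟩ : X)))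

/-- `C_Q(P) = 1` for an abelian Sylow `q`-subgroup `Q` moved by `P`, `p ∈ τ₁(M)`, `τ₂(M)` empty. -/
theorem sylow_fixed_bot (hM : IsCoatom M) (hτ : ∀ r : ℕ, r ∉ tau2 M) {q : ℕ} [hq : Fact q.Prime]
    (hqσ : q ∈ sigma M) (hqβ : q ∉ beta M) {Q : Subgroup G} (hQ : IsPGroup q Q) (hQM : Q ≤ M)
    (hQi : ¬ q ∣ Q.index) (hab : IsMulCommutative Q) {p : ℕ} (hp : p ∈ tau1 M) {P : Subgroup G}
    (hP : Nat.card P = p) (hPM : P ≤ M) (hPQ : P ≤ Subgroup.normalizer (Q : Set G))
    (hmove : ¬ Q ≤ Subgroup.centralizer (P : Set G)) :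
    Q ⊓ Subgroup.centralizer (P : Set G) = ⊥ ∧ ⁅Q, P⁆ = Q := by
  have := Fact.mk hp.1
  have := hab
  have hpσ : p ∉ sigma M := hp.2.1
  have hPp := isPGroup_of_card_prime hP
  have hcPQ : (Nat.card P).Coprime (Nat.card Q) :=
    coprime_pGroups hPp hQ fun h => hpσ (h ▸ hqσ)
  suffices h : Q ⊓ Subgroup.centralizer (P : Set G) = ⊥ by
    refine ⟨h, ?_⟩
    have := Coprime.abelian_sup_eq (A := P) (V := Q) hPQ hcPQ
    rwa [h, bot_sup_eq] at this
  have hQs : Q ≤ sigmaCore M := F.le_sigmaCore_of_pGroup hM hqσ hQ hQM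
  have hQis : ¬ q ∣ Q.relIndex (sigmaCore M) := fun hd =>
    hQi (hd.trans (Subgroup.relIndex_dvd_index_of_le hQs))
  obtain ⟨E, hE, hPE, hEQ⟩ := F.exists_compl_normalizing hM hQ hQs hQis hPM hPQ
    fun r hr hd => eq_of_dvd_card_pGroup hPp hr hd ▸ hpσ
  have hcE := F.coprime_compl hM hE
  -- `E' ≤ K`, the kernel of the action on `Q`
  set K := E ⊓ Subgroup.centralizer (Q : Set G) with hKdef
  have hQM' : Q ≤ ⁅M, M⁆ := hQs.trans (F.sigmaCore_le_commutator hM)
  have hEE : ⁅E, E⁆ ≤ E := Subgroup.commutator_le.2 fun a ha b hb =>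
    E.mul_mem (E.mul_mem (E.mul_mem ha hb) (E.inv_mem ha)) (E.inv_mem hb)
  have hE'K : ⁅E, E⁆ ≤ K := le_inf hEE <|
    F.le_centralizer_commutator hM hqβ hQ hQM' (Subgroup.commutator_mono hE.1 hE.1)
      (((hq.out.coprime_iff_not_dvd).2 fun hd =>
        F.not_sigma_of_compl hM hE hq.out (hd.trans (Subgroup.card_dvd_of_le hEE)) hqσ).symm)
      (hEE.trans hEQ)
  set L := P ⊔ K with hL
  have hLE : L ≤ E := sup_le hPE inf_le_left
  have hEK : E ≤ Subgroup.normalizer (K : Set G) :=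
    le_normalizer_inf Subgroup.le_normalizer (hEQ.trans (normalizer_le_centralizer Q))
  have hEL : E ≤ Subgroup.normalizer (L : Set G) := Subgroup.le_normalizer_iff_commutator_le_right.2
    ((Subgroup.commutator_mono le_rfl hLE).trans (hE'K.trans le_sup_right))
  have hc : ∀ S : Subgroup G, S ≤ E → IsPGroup p S → IsCyclic S := fun S hS hSp =>
    F.isCyclic_pSubgroup hM hpσ (hτ p) hSp (hS.trans hE.1)
  have hpK : ¬ p ∣ Nat.card K := fun hd => by
    obtain ⟨X, hXK, hX⟩ := exists_prime_subgroup hd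
    obtain ⟨S, hS⟩ := ((isPGroup_of_card_prime hX).comap_of_injective E.subtype
      E.subtype_injective).exists_le_sylow
    obtain ⟨T, hT⟩ := (hPp.comap_of_injective E.subtype E.subtype_injective).exists_le_sylow
    obtain ⟨e, he, hST⟩ := exists_conj_sylow (S.isPGroup'.map E.subtype) (Subgroup.map_subtype_le _)
      (OddMax.sylow_relIndex S) (T.isPGroup'.map _) (Subgroup.map_subtype_le _) (OddMax.sylow_relIndex T)
    haveI := hc ((T : Subgroup E).map E.subtype) (Subgroup.map_subtype_le _) (T.isPGroup'.map _)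
    have h1 := eq_of_card_eq_of_cyclic (S := (T : Subgroup E).map E.subtype)
      (X := MulAut.conj e • X) (Y := P)
      (hST ▸ Solvable.conj_mono e (fun x hx => ⟨⟨x, (hXK.trans inf_le_left) hx⟩, hS hx, rfl⟩))
      (fun x hx => ⟨⟨x, hPE hx⟩, hT hx, rfl⟩) (by rw [Solvable.card_conj, hX, hP])
    refine hmove (Subgroup.le_centralizer_iff.1 ?_)
    rw [← h1]
    exact ((Solvable.conj_mono e hXK).trans
      (Coprime.conj_eq_of_mem_normalizer (hEK he)).le).trans inf_le_right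
  have hPi : ¬ p ∣ P.relIndex L := fun hd => hpK <| hd.trans <|
    Nat.dvd_of_mul_dvd_mul_left (k := Nat.card P) Nat.card_pos <| by
      rw [OddMax.card_mul_relIndex le_sup_left]
      exact pair_relIndex.card_sup_dvd_mul (hPE.trans hEK)
  have hNP : E ⊓ Subgroup.normalizer (P : Set G) ≤ Subgroup.centralizer (P : Set G) := fun e he =>
    mem_centralizer_of_not_dvd_commutator hp.2.2.2.1 hPp hPM (hE.1 he.1) he.2
  have hsup : E ≤ K ⊔ (E ⊓ Subgroup.centralizer (P : Set G)) := fun e he => by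
    obtain ⟨k, hk, hkP⟩ := exists_conj_sylow (H := L) hPp le_sup_left hPi (Q := MulAut.conj e • P)
      (OddMax.isPGroup_conj e hPp)
      ((Solvable.conj_mono e le_sup_left).trans (Coprime.conj_eq_of_mem_normalizer (hEL he)).le)
      (by rw [← Coprime.conj_eq_of_mem_normalizer (hEL he), OddMax.relIndex_conj]; exact hPi)
    have hn : k⁻¹ * e ∈ E ⊓ Subgroup.centralizer (P : Set G) := by
      have hkeE : k⁻¹ * e ∈ E := E.mul_mem (E.inv_mem (hLE hk)) he
      refine ⟨hkeE, hNP ⟨hkeE, Coprime.mem_normalizer_of_conj_eq ?_⟩⟩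
      rw [← Solvable.conj_conj, ← hkP, Solvable.conj_inv_smul]
    have hk' : k ∈ K ⊔ (E ⊓ Subgroup.centralizer (P : Set G)) :=
      (sup_le (le_sup_of_le_right (le_inf hPE (le_centralizer_self
        (have : IsCyclic P := isCyclic_of_prime_card (p := p) hP
         IsCyclic.isMulCommutative)))) le_sup_left) hk
    simpa using Subgroup.mul_mem _ hk' (Subgroup.mem_sup_right hn)
  set Z := Q ⊓ Subgroup.centralizer (P : Set G) with hZ
  have hF0 : E ⊓ Subgroup.centralizer (P : Set G) ≤ Subgroup.centralizer (Z : Set G) := by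
    set F0 := E ⊓ Subgroup.centralizer (P : Set G) with hF0def
    suffices h : F0 ⊓ Subgroup.centralizer (Z : Set G) = F0 from h.symm.le.trans inf_le_right
    refine eq_of_forall_prime inf_le_left fun r hr hd h => ?_
    have := Fact.mk hr
    obtain ⟨S⟩ : Nonempty (Sylow r F0) := inferInstance
    set S' := (S : Subgroup F0).map F0.subtype with hS'
    have hS'F : S' ≤ F0 := Subgroup.map_subtype_le _
    have hS'p : IsPGroup r S' := S.isPGroup'.map _
    refine OddMax.sylow_relIndex S (h.trans (Subgroup.relIndex_dvd_of_le_left _ (le_inf hS'F ?_)))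
    by_cases hS1 : S' = ⊥
    · exact le_trans (le_of_eq hS1) bot_le
    obtain ⟨R, hRS, hR⟩ := exists_prime_subgroup (dvd_card_of_ne_bot hS'p hS1)
    have hrσ : r ∉ sigma M := F.not_sigma_of_compl hM hE hr
      (hR ▸ Subgroup.card_dvd_of_le (hRS.trans (hS'F.trans inf_le_left)))
    have h28 := F.le_centralizer_of_tau1 hM hp hPM hP ((hRS.trans hS'F).trans (inf_le_left.trans hE.1))
      ((hRS.trans hS'F).trans inf_le_right) hr hR hrσ
    obtain ⟨T, hT⟩ := (hS'p.comap_of_injective E.subtype E.subtype_injective).exists_le_sylow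
    have hST : S' ≤ (T : Subgroup E).map E.subtype := fun x hx =>
      ⟨⟨x, (hS'F hx).1⟩, hT hx, rfl⟩
    have hTc : IsCyclic ↥((T : Subgroup E).map E.subtype) :=
      F.isCyclic_pSubgroup hM hrσ (hτ r) (T.isPGroup'.map _) ((Subgroup.map_subtype_le _).trans hE.1)
    have h27 := F.le_centralizer_of_cyclic_sylow hM hE (Subgroup.map_subtype_le _) (T.isPGroup'.map _)
      (OddMax.sylow_relIndex T) hTc (hRS.trans hST) hR
    refine hST.trans (h27.trans (Subgroup.centralizer_le (?_ : Z ≤ _)))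
    exact le_inf (inf_le_left.trans hQs) ((inf_le_inf_right _ hQs).trans h28)
  have hEZ : E ≤ Subgroup.centralizer (Z : Set G) :=
    hsup.trans (sup_le (inf_le_right.trans (Subgroup.centralizer_le inf_le_left)) hF0)
  -- `N_M(Q) ⊓ M_σ` centralises `Q`
  set H := sigmaCore M ⊓ Subgroup.normalizer (Q : Set G) with hHdef
  have hHC : H ≤ Subgroup.centralizer (Q : Set G) := by
    suffices h : H ⊓ Subgroup.centralizer (Q : Set G) = H from h.symm.le.trans inf_le_right
    refine eq_of_forall_prime inf_le_left fun r hr hd h => ?_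
    have := Fact.mk hr
    by_cases hrq : r = q
    · subst hrq
      exact hQi (h.trans ((Subgroup.relIndex_dvd_of_le_left _
        (le_inf (le_inf hQs Subgroup.le_normalizer) (le_centralizer_self hab) :
          Q ≤ H ⊓ Subgroup.centralizer (Q : Set G))).trans
            (Subgroup.relIndex_dvd_index_of_le (le_inf hQs Subgroup.le_normalizer))))
    · obtain ⟨S⟩ : Nonempty (Sylow r H) := inferInstance
      have hSH : (S : Subgroup H).map H.subtype ≤ H := Subgroup.map_subtype_le _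
      refine OddMax.sylow_relIndex S (h.trans (Subgroup.relIndex_dvd_of_le_left _ (le_inf hSH ?_)))
      exact F.le_centralizer_sigmaCore hM hqβ hQ hQs (hSH.trans inf_le_left)
        (coprime_of_not_dvd (S.isPGroup'.map _) fun hd =>
          hrq ((Nat.prime_dvd_prime_iff_eq hr hq.out).1 hd)) (hSH.trans inf_le_right)
  have hNQ : Subgroup.normalizer (Q : Set G) ≤ Subgroup.centralizer (Z : Set G) := fun n hn => by
    have hnM : n ∈ M := OddMax.normalizer_le_of_mem_sigma hqσ hQ hQM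
      (fun h => hQi (h.trans (Subgroup.relIndex_dvd_index_of_le hQM))) hn
    obtain ⟨e, he, s, hs, rfl⟩ := hE.2.2.2 n hnM
    refine Subgroup.mul_mem _ (hEZ he) (Subgroup.centralizer_le inf_le_left (hHC ⟨hs, ?_⟩))
    simpa using Subgroup.mul_mem _ (Subgroup.inv_mem _ (hEQ he)) hn
  have hQ1 : Q ≠ ⊥ := fun h => hmove (h ▸ bot_le)
  haveI : Group.IsSolvable ↥(Subgroup.normalizer (Q : Set G)) :=
    OddSigma.proper_solvable F.hG (F.normalizer_ne_top hQ1 (F.ne_top_of_isPGroup hQ))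
  obtain ⟨V, hV⟩ := OddMax.exists_compl (M := Subgroup.normalizer (Q : Set G)) (N := Q)
    Subgroup.le_normalizer le_rfl (coprime_of_not_dvd hQ fun h =>
      hQi (h.trans (Subgroup.relIndex_dvd_index_of_le Subgroup.le_normalizer)))
  obtain ⟨T, hT⟩ : ∃ T : Sylow q G, (T : Subgroup G) = Q := ⟨hQ.toSylow hQi, rfl⟩
  have h1 := (F.s1411 q T V (by rw [hT]; exact OddMax.compl_symm hV)).1
  rw [hT] at h1
  have hcV : (Nat.card V).Coprime (Nat.card Q) := by
    rw [← OddMax.compl_relIndex_left hV]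
    exact (coprime_of_not_dvd hQ fun h =>
      hQi (h.trans (Subgroup.relIndex_dvd_index_of_le Subgroup.le_normalizer))).symm
  have h := Coprime.abelian_inf_eq_bot (A := V) (V := Q) hV.1 hcV
  rw [← h1] at h
  rw [eq_bot_iff] at h ⊢
  exact fun z hz => h ⟨⟨hz.1, Subgroup.le_centralizer_iff.1 (hV.1.trans hNQ) hz⟩, hz.1⟩

/-- A common Sylow subgroup and a `τ₁`-element moving it. -/
theorem exists_common (hM : IsCoatom M) (hN : IsCoatom N) (hnc : ∀ g : G, N ≠ MulAut.conj g • M)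
    {q : ℕ} [hq : Fact q.Prime] (hqM : q ∈ sigma M) (hqN : q ∈ sigma N) :
    ∃ (g : G) (p : ℕ) (Q P : Subgroup G), Common M (MulAut.conj g • N) Q P p q := by
  obtain ⟨S⟩ : Nonempty (Sylow q M) := inferInstance
  set Q := (S : Subgroup M).map M.subtype with hQdef
  have hQ : IsPGroup q Q := S.isPGroup'.map _
  have hQM : Q ≤ M := Subgroup.map_subtype_le _
  have hQi := F.not_dvd_index_of_sylow hM hqM hQM (OddMax.sylow_relIndex S)
  obtain ⟨g, hg⟩ := OddSigma.exists_conj_le_of_sigma hqN hQ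
  set N' := MulAut.conj g • N with hN'
  have hN'c := OddSigma.isCoatom_conj hN g
  have hqN' : q ∈ sigma N' := by rw [hN', OddMax.sigma_conj]; exact hqN
  have hnc' : ∀ x : G, N' ≠ MulAut.conj x • M := fun x hx => hnc (g⁻¹ * x) (by
    rw [← Solvable.conj_conj, ← hx, hN', Solvable.conj_inv_smul])
  have hNM : Subgroup.normalizer (Q : Set G) ≤ M :=
    OddMax.normalizer_le_of_mem_sigma hqM hQ hQM (OddMax.sylow_relIndex S)
  have hNN : Subgroup.normalizer (Q : Set G) ≤ N' := OddMax.normalizer_le_of_mem_sigma hqN' hQ hg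
    fun h => hQi (h.trans (Subgroup.relIndex_dvd_index_of_le hg))
  have hQ1 : Q ≠ ⊥ := fun h => hQi (by
    rw [h, Subgroup.index_bot]
    exact (OddMax.sigma_dvd hqM).trans (Subgroup.card_subgroup_dvd_card M))
  have hne : N' ≠ M := fun h => hnc' 1 (by rw [Solvable.conj_one_smul]; exact h)
  have hab := F.isMulCommutative_of_two hQ hM hN'c hne hQM hg
  have hβ : ∀ K : Subgroup G, IsCoatom K → q ∈ sigma K → ∀ K' : Subgroup G, IsCoatom K' →
      (∀ x : G, K' ≠ MulAut.conj x • K) → q ∉ beta K' := fun K hK hqK K' hK' hx h =>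
    F.not_alpha_of_sigma hK hK' hx hqK h.1
  -- a prime-power element of `N(Q)` not centralising `Q`
  haveI : Group.IsSolvable ↥(Subgroup.normalizer (Q : Set G)) :=
    OddSigma.proper_solvable F.hG (F.normalizer_ne_top hQ1 (F.ne_top_of_isPGroup hQ))
  obtain ⟨V, hV⟩ := OddMax.exists_compl (M := Subgroup.normalizer (Q : Set G)) (N := Q)
    Subgroup.le_normalizer le_rfl (coprime_of_not_dvd hQ fun h =>
      hQi (h.trans (Subgroup.relIndex_dvd_index_of_le Subgroup.le_normalizer)))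
  obtain ⟨T, hT⟩ : ∃ T : Sylow q G, (T : Subgroup G) = Q := ⟨hQ.toSylow hQi, rfl⟩
  have h1 := (F.s1411 q T V (by rw [hT]; exact OddMax.compl_symm hV)).1
  rw [hT] at h1
  have hVC : ¬ V ≤ Subgroup.centralizer (Q : Set G) := fun h => hQ1 (by
    rw [h1, Subgroup.commutator_eq_bot_iff_le_centralizer]
    exact Subgroup.le_centralizer_iff.1 h)
  obtain ⟨p, hp, hpi⟩ := Nat.exists_prime_and_dvd
    (fun h => hVC ((Subgroup.relIndex_eq_one (H := Subgroup.centralizer (Q : Set G))).1 h))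
  have := Fact.mk hp
  obtain ⟨W⟩ : Nonempty (Sylow p V) := inferInstance
  set X := (W : Subgroup V).map V.subtype with hXdef
  have hXV : X ≤ V := Subgroup.map_subtype_le _
  have hX : IsPGroup p X := W.isPGroup'.map _
  have hXC : ¬ X ≤ Subgroup.centralizer (Q : Set G) := fun h => OddMax.sylow_relIndex W (by
    rw [← Subgroup.inf_relIndex_right] at hpi
    exact hpi.trans (Subgroup.relIndex_dvd_of_le_left _ (le_inf h hXV)))
  have hXQ : X ≤ Subgroup.normalizer (Q : Set G) := hXV.trans hV.1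
  have hpq : p ≠ q := fun h => by
    subst h
    refine hXC fun x hx => ?_
    have h0 : Q ⊓ V = ⊥ := by rw [inf_comm]; exact hV.2.2.1
    have hXle : X ≤ Q := fun y hy => OddMax.mem_of_coprime_relIndex (M := Subgroup.normalizer (Q : Set G))
      le_rfl (hXQ hy) ((coprime_of_not_dvd hX fun h =>
        hQi (h.trans (Subgroup.relIndex_dvd_index_of_le Subgroup.le_normalizer))).coprime_dvd_left
          ((Subgroup.orderOf_mk y hy).symm ▸ orderOf_dvd_natCard (⟨y, hy⟩ : X)))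
    rw [Subgroup.mem_bot.1 (h0 ▸ ⟨hXle hx, hXV hx⟩ : x ∈ (⊥ : Subgroup G))]
    exact Subgroup.one_mem _
  have hcXq : (Nat.card X).Coprime q :=
    coprime_of_not_dvd hX fun h => hpq ((Nat.prime_dvd_prime_iff_eq hp hq.out).1 h)
  have hτ1 : ∀ K : Subgroup G, IsCoatom K → Subgroup.normalizer (Q : Set G) ≤ K → q ∈ sigma K →
      q ∉ beta K → (∀ r, r ∉ tau2 K) → p ∈ tau1 K := by
    intro K hK hNK hqK hqβ hτ
    have hQK : Q ≤ K := Subgroup.le_normalizer.trans hNK
    have hXK : X ≤ K := hXQ.trans hNK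
    have hX1 : X ≠ ⊥ := fun h => hXC (h ▸ bot_le)
    have hQs := F.le_sigmaCore_of_pGroup hK hqK hQ hQK
    have hpσ : p ∉ sigma K := fun h => hXC (F.le_centralizer_sigmaCore hK hqβ hQ hQs
      (F.le_sigmaCore_of_pGroup hK h hX hXK) hcXq hXQ)
    refine ⟨hp, hpσ, (dvd_card_of_ne_bot hX hX1).trans (Subgroup.card_dvd_of_le hXK), fun hd => hXC ?_,
      F.prankLE_one hK hp hpσ (hτ p)⟩
    exact F.le_centralizer_commutator hK hqβ hQ (hQs.trans (F.sigmaCore_le_commutator hK))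
      (F.le_commutator_of_rank_one hK hpσ (F.prankLE_one hK hp hpσ (hτ p)) hd hX hXK) hcXq hXQ
  have hτM := F.no_tau2 hM hN'c hnc' hqM hqN'
  have hpM := hτ1 M hM hNM hqM (hβ N' hN'c hqN' M hM (not_conj_symm hnc')) hτM
  have hpN := hτ1 N' hN'c hNN hqN' (hβ M hM hqM N' hN'c hnc')
    (F.no_tau2 hN'c hM (not_conj_symm hnc') hqN' hqM)
  obtain ⟨P, hPX, hP⟩ :=
    exists_prime_subgroup (dvd_card_of_ne_bot hX fun h => hXC (h ▸ bot_le))
  refine ⟨g, p, Q, P, hM, hN'c, hnc', hqM, hqN', hQ, hQi, hNM, hNN, hpM, hpN, hP, hPX.trans hXQ,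
    fun hQP => hXC ?_⟩
  have hQs := F.le_sigmaCore_of_pGroup hM hqM hQ hQM
  obtain ⟨E, hE, hXE⟩ := F.exists_compl_ge hM (hXQ.trans hNM) fun r hr hd =>
    eq_of_dvd_card_pGroup hX hr hd ▸ hpM.2.1
  obtain ⟨S', hS'⟩ := (hX.comap_of_injective E.subtype E.subtype_injective).exists_le_sylow
  have hXS : X ≤ (S' : Subgroup E).map E.subtype := fun y hy => ⟨⟨y, hXE hy⟩, hS' hy, rfl⟩
  have h27 := F.le_centralizer_of_cyclic_sylow hM hE (Subgroup.map_subtype_le _) (S'.isPGroup'.map _)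
    (OddMax.sylow_relIndex S') (F.isCyclic_pSubgroup hM hpM.2.1 (hτM p) (S'.isPGroup'.map _)
      ((Subgroup.map_subtype_le _).trans hE.1)) (hPX.trans hXS) hP
  exact (hXS.trans h27).trans (Subgroup.centralizer_le (show Q ≤ _ from le_inf hQs hQP))

end Facts

namespace Common

variable {M N Q P : Subgroup G} {p q : ℕ} (c : Common M N Q P p q)
include c

theorem symm : Common N M Q P p q :=
  ⟨c.hN, c.hM, not_conj_symm c.hnc, c.hqN, c.hqM, c.hQ, c.hQi, c.hNN, c.hNM, c.hpN, c.hpM, c.hP,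
    c.hPQ, c.hmove⟩

theorem hQM : Q ≤ M := Subgroup.le_normalizer.trans c.hNM

theorem hPM : P ≤ M := c.hPQ.trans c.hNM

theorem hne : N ≠ M := fun h => c.hnc 1 (by rw [Solvable.conj_one_smul]; exact h)

variable (F : Facts G)
include F

theorem hτ (r : ℕ) : r ∉ tau2 M := F.no_tau2 c.hM c.hN c.hnc c.hqM c.hqN r

theorem q_not_beta : q ∉ beta M := fun h =>
  F.not_alpha_of_sigma c.hN c.hM (not_conj_symm c.hnc) c.hqN h.1

theorem bot : Q ⊓ Subgroup.centralizer (P : Set G) = ⊥ ∧ ⁅Q, P⁆ = Q :=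
  have := Fact.mk c.hqM.1
  F.sylow_fixed_bot c.hM (c.hτ F) c.hqM (c.q_not_beta F) c.hQ c.hQM c.hQi
    (F.isMulCommutative_of_two c.hQ c.hM c.hN c.hne c.hQM (Subgroup.le_normalizer.trans c.hNN))
    c.hpM c.hP c.hPM c.hPQ c.hmove

theorem betaCore_ne_bot : betaCore M ≠ ⊥ := fun h => by
  have := Fact.mk c.hqM.1
  have hle := F.le_sup_betaCore c.hM c.hqM (c.q_not_beta F) c.hQ c.hQM
    fun h => c.hQi (h.trans (Subgroup.relIndex_dvd_index_of_le c.hQM))
  rw [h, sup_bot_eq] at hle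
  exact c.hne ((((hle.trans inf_le_right).trans c.hNN).eq_or_lt.resolve_right
    fun hlt => c.hN.1 (c.hM.2 _ hlt)).symm)

/-- An invariant Sylow subgroup of `M_β`. -/
theorem exists_beta_sylow {s : ℕ} [hs : Fact s.Prime] (hsβ : s ∈ beta M) {D : Subgroup G}
    (hDM : D ≤ M) (hD : IsPGroup s D) (hDn : Q ⊔ P ≤ Subgroup.normalizer (D : Set G)) :
    ∃ U : Subgroup G, D ≤ U ∧ IsPGroup s U ∧ U ≤ M ∧ U ≤ alphaCore M ∧
      Q ⊔ P ≤ Subgroup.normalizer (U : Set G) ∧ ¬ Q ≤ Subgroup.centralizer (U : Set G) := by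
  have := Fact.mk c.hqM.1
  have := Fact.mk c.hpM.1
  have hMβ : betaCore M ≤ M := OddTrans.piCoreOf_le _ _
  have hhall := (F.s1414 M c.hM).1
  have hn : M ≤ Subgroup.normalizer (betaCore M : Set G) := OddTrans.le_normalizer_piCoreOf _ _
  have hpi := OddTrans.piCoreOf_pi (beta M) M
  have hcop : (Nat.card ↥(Q ⊔ P)).Coprime (Nat.card (betaCore M)) := by
    refine Nat.Coprime.coprime_dvd_left
      (show Nat.card ↥(Q ⊔ P) ∣ Nat.card P * Nat.card Q by
        rw [sup_comm]; exact Facts.pair_relIndex.card_sup_dvd_mul c.hPQ)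
      (Nat.Coprime.mul_left ?_ ?_)
    · exact coprime_of_not_dvd (isPGroup_of_card_prime c.hP) fun h =>
        c.hpM.2.1 (F.beta_subset_sigma c.hM (hpi p c.hpM.1 h))
    · exact coprime_of_not_dvd c.hQ fun h => c.q_not_beta F (hpi q c.hqM.1 h)
  obtain ⟨U, hUK, hU, hUi, hDU, hUn⟩ := exists_invariant_ge ((sup_le c.hQM c.hPM).trans hn) hcop
    (Coprime.isSolvable_of_le hMβ (F.solvable c.hM)) (le_of_isPiHallOf hhall hn hsβ hD hDM) hD hDn
  refine ⟨U, hDU, hU, hUK.trans hMβ, hUK.trans (betaCore_le_alphaCore M), hUn, fun hQU => ?_⟩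
  have hUi' : ¬ s ∣ U.relIndex M := by
    rw [← Subgroup.relIndex_mul_relIndex U _ M hUK hMβ]
    exact Nat.Prime.not_dvd_mul hs.out hUi (hhall.2.2 s hs.out hsβ)
  obtain ⟨S, hS⟩ := OddMax.exists_sylow_eq hU (hUK.trans hMβ) hUi'
  have hUu : InUniqueMaximal U := F.unique_of_rank_three (p := s) (F.ne_top_of_isPGroup hU)
    fun h => hsβ.1.2 (OddSigma.prankLE_of_sylow S (by rw [hS]; exact h))
  exact c.hne ((F.cunique_of_unique c.hM (fun h => c.hmove (by rw [h]; exact bot_le)) hUu (hUK.trans hMβ)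
    (Subgroup.le_centralizer_iff.1 hQU)).2 N c.hN
      ((Subgroup.centralizer_le_normalizer _).trans c.hNN))

theorem le_centralizer_frobenius {s : ℕ} [hs : Fact s.Prime] (hsβ : s ∈ beta M) {U : Subgroup G}
    (hU : IsPGroup s U) (hUn : Q ⊔ P ≤ Subgroup.normalizer (U : Set G)) (hU1 : s ∣ Nat.card G)
    (hfix : ∀ x ∈ U, x ∈ Subgroup.centralizer (P : Set G) → x ^ s = 1 →
      x ∈ Subgroup.centralizer (Q : Set G)) : Q ≤ Subgroup.centralizer (U : Set G) := by
  have := Fact.mk c.hqM.1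
  have := Fact.mk c.hpM.1
  refine le_centralizer_of_frobenius (F.prime_ne_two (H := (⊤ : Subgroup G))
    (by rw [Subgroup.card_top]; exact hU1)) hU
    (F.isMulCommutative_of_two c.hQ c.hM c.hN c.hne c.hQM (Subgroup.le_normalizer.trans c.hNN))
    (by rw [c.hP]; exact c.hpM.1) (le_sup_left.trans hUn) (le_sup_right.trans hUn) c.hPQ ?_ ?_
    (coprime_pGroups (isPGroup_of_card_prime c.hP) c.hQ fun h => c.hpM.2.1 (h ▸ c.hqM)) (c.bot F).2 hfix
  · exact coprime_of_not_dvd c.hQ fun h =>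
      c.q_not_beta F ((Nat.prime_dvd_prime_iff_eq c.hqM.1 hs.out).1 h ▸ hsβ)
  · exact coprime_of_not_dvd (isPGroup_of_card_prime c.hP) fun h =>
      c.hpM.2.1 ((Nat.prime_dvd_prime_iff_eq c.hpM.1 hs.out).1 h ▸ F.beta_subset_sigma c.hM hsβ)

theorem exists_core_element : ∃ (s : ℕ) (D : Subgroup G), s ∈ beta M ∧ Nat.card D = s ∧ D ≤ M ∧
    D ≤ Subgroup.centralizer (P : Set G) := by
  obtain ⟨s, hs, hsd⟩ := Nat.exists_prime_and_dvd (mt Subgroup.card_eq_one.1 (c.betaCore_ne_bot F))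
  have := Fact.mk hs
  have hsβ := OddTrans.piCoreOf_pi (beta M) M s hs hsd
  obtain ⟨U, -, hU, hUM, -, hUn, hQU⟩ :=
    c.exists_beta_sylow F hsβ (D := ⊥) bot_le IsPGroup.of_bot (fun x _ =>
      Coprime.mem_normalizer_of_forall fun y hy => by
        rw [Subgroup.mem_bot] at hy ⊢
        rw [hy]; group)
  by_contra h
  refine hQU (c.le_centralizer_frobenius F hsβ hU hUn
    (hsd.trans (Subgroup.card_subgroup_dvd_card _)) fun x hx hxP hxs => ?_)
  by_cases hx1 : x = 1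
  · exact hx1 ▸ Subgroup.one_mem _
  · exact absurd ⟨s, Subgroup.zpowers x, hsβ,
      by rw [Nat.card_zpowers, orderOf_eq_prime hxs hx1], Subgroup.zpowers_le.2 (hUM hx),
      Subgroup.zpowers_le.2 hxP⟩ h

/-- A `σ(N)`-prime is not in `τ₁(M)`. -/
theorem not_tau1 {t : ℕ} (htN : t ∈ sigma N) : t ∉ tau1 M := fun ht => by
  have := Fact.mk c.hqM.1
  have := Fact.mk c.hpM.1
  have := Fact.mk ht.1
  have hQs := F.le_sigmaCore_of_pGroup c.hM c.hqM c.hQ c.hQM
  have hPp := isPGroup_of_card_prime c.hP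
  obtain ⟨E, hE, hPE, hEQ⟩ := F.exists_compl_normalizing c.hM c.hQ hQs
    (fun hd => c.hQi (hd.trans (Subgroup.relIndex_dvd_index_of_le hQs))) c.hPM c.hPQ
    fun r hr hd => eq_of_dvd_card_pGroup hPp hr hd ▸ c.hpM.2.1
  have htE : t ∣ Nat.card E := by
    have h := ht.2.2.1
    rw [← OddMax.compl_card hE] at h
    exact (ht.1.dvd_mul.1 h).resolve_right (F.not_dvd_sigmaCore c.hM ht.1 ht.2.1)
  obtain ⟨T, hTE, hT⟩ := exists_prime_subgroup htE
  obtain ⟨E1, hE1, -⟩ := exists_hallOf_ge (U := ⊥) (π := tau1 M)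
    (Coprime.isSolvable_of_le hE.1 (F.solvable c.hM)) bot_le
    (fun s hs hsd => absurd (Subgroup.card_bot (G := G) ▸ hsd) hs.not_dvd_one)
  have hcyc := (F.s1415 M c.hM E hE).2.1 E1 hE1
  have hsolv := Coprime.isSolvable_of_le hE.1 (F.solvable c.hM)
  obtain ⟨e, he, heP⟩ := F.exists_conj_le_of_relIndex hsolv (π := tau1 M) hE1.1 hPE
    (fun s hs hd => eq_of_dvd_card_pGroup hPp hs hd ▸ c.hpM) hE1.2.2
  obtain ⟨f, hf, hfT⟩ := F.exists_conj_le_of_relIndex hsolv (π := tau1 M) hE1.1 hTE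
    (fun s hs hd => eq_of_dvd_card_pGroup (isPGroup_of_card_prime hT) hs hd ▸ ht) hE1.2.2
  have hfE : MulAut.conj f • T ≤ E := hfT.trans hE1.1
  have hfc : Nat.card ↥(MulAut.conj f • T) = t := by rw [Solvable.card_conj, hT]
  have hQN : Q ≤ N := Subgroup.le_normalizer.trans c.hNN
  have hcent : MulAut.conj f • T ≤ Subgroup.centralizer (Q : Set G) :=
    F.le_centralizer_sigmaCore c.hN (fun h => c.symm.q_not_beta F h) c.hQ
      (F.le_sigmaCore_of_pGroup c.hN c.hqN c.hQ hQN)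
      (F.le_sigmaCore_of_pGroup c.hN htN (isPGroup_of_card_prime hfc) ((hfE.trans hEQ).trans c.hNN))
      (by rw [hfc]; exact (Nat.coprime_primes ht.1 c.hqM.1).2 fun h => ht.2.1 (h ▸ c.hqM))
      (hfE.trans hEQ)
  have h28 := F.le_centralizer_of_tau1 c.hM ht (hfE.trans hE.1) hfc ((heP.trans hE1.1).trans hE.1)
    (le_centralizer_of_le_cyclic hcyc heP hfT) c.hpM.1
    (by rw [Solvable.card_conj, c.hP]) c.hpM.2.1
  have hQeP : Q ≤ Subgroup.centralizer ((MulAut.conj e • P : Subgroup G) : Set G) :=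
    (le_inf hQs (Subgroup.le_centralizer_iff.1 hcent)).trans h28
  refine c.hmove ?_
  have := le_centralizer_conj hQeP e⁻¹
  rwa [Coprime.conj_eq_of_mem_normalizer (Subgroup.inv_mem _ (hEQ he)), Solvable.conj_inv_smul] at this

end Common

namespace Facts

variable (F : Facts G) {M N : Subgroup G}
include F

theorem le_commutator_of_sigma (hM : IsCoatom M) (hN : IsCoatom N)
    (hnc : ∀ g : G, N ≠ MulAut.conj g • M) {q : ℕ} [Fact q.Prime] (hqM : q ∈ sigma M)
    (hqN : q ∈ sigma N) {t : ℕ} [Fact t.Prime] (htM : t ∉ sigma M) (htN : t ∈ sigma N)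
    {X : Subgroup G} (hX : Nat.card X = t) (hXM : X ≤ M) : X ≤ ⁅M, M⁆ := by
  have h1 := F.prankLE_one hM Fact.out htM (F.no_tau2 hM hN hnc hqM hqN t)
  obtain ⟨g, p, Q, P, c⟩ := F.exists_common hM hN hnc hqM hqN
  refine F.le_commutator_of_rank_one hM htM h1 (by_contra fun hd => ?_) (isPGroup_of_card_prime hX) hXM
  exact c.not_tau1 F (t := t) (by rw [OddMax.sigma_conj]; exact htN)
    ⟨Fact.out, htM, hX ▸ Subgroup.card_dvd_of_le hXM, hd, h1⟩

/-- An element normalising `D` puts both elements into both subgroups. -/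
theorem mem_both (hM : IsCoatom M) (hN : IsCoatom N) (hnc : ∀ g : G, N ≠ MulAut.conj g • M) {p : ℕ}
    (hp : p ∈ tau1 M) {P : Subgroup G} (hP : Nat.card P = p) (hPM : P ≤ M) {s t : ℕ} [Fact s.Prime]
    [Fact t.Prime] (hs : s ∈ sigma M) (ht : t ∈ alpha N) {D T : Subgroup G} (hD : Nat.card D = s)
    (hDM : D ≤ M) (hDP : D ≤ Subgroup.centralizer (P : Set G)) (hT : Nat.card T = t)
    (hTP : T ≤ Subgroup.centralizer (P : Set G)) (hTD : T ≤ Subgroup.normalizer (D : Set G))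
    (hcM : CUnique M D) (hcN : CUnique N T) : T ≤ M ∧ D ≤ N := by
  have hTM : T ≤ M := hTD.trans (F.normalizer_le_of_cunique hM hs (isPGroup_of_card_prime hD)
    (ne_bot_of_card_prime Fact.out hD) hDM hcM)
  have htM : t ∉ sigma M := fun h => F.not_alpha_of_sigma hM hN hnc h ht
  exact ⟨hTM, ((le_inf (F.le_sigmaCore_of_pGroup hM hs (isPGroup_of_card_prime hD) hDM) hDP).trans
    (F.le_centralizer_of_tau1 hM hp hPM hP hTM hTP Fact.out hT htM)).trans hcN.1⟩

/-- **Bender-Glauberman 13.9.** -/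
theorem sigma_disjoint (hM : IsCoatom M) (hN : IsCoatom N) {q : ℕ} (hqM : q ∈ sigma M)
    (hqN : q ∈ sigma N) : ∃ g : G, N = MulAut.conj g • M := by
  by_contra hnot
  push Not at hnot
  have := Fact.mk hqM.1
  obtain ⟨g, p, Q, P, c⟩ := F.exists_common hM hN hnot hqM hqN
  have := Fact.mk c.hpM.1
  set N0 := MulAut.conj g • N with hN0
  obtain ⟨s, D, hsβ, hD, hDM, hDP⟩ := c.exists_core_element F
  obtain ⟨t, T, htβ, hT, hTN, hTP⟩ := c.symm.exists_core_element F
  have := Fact.mk hsβ.1.1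
  have := Fact.mk htβ.1.1
  have hsσ := F.beta_subset_sigma c.hM hsβ
  have htσ := F.beta_subset_sigma c.hN htβ
  have hst : s ≠ t := fun h =>
    F.not_alpha_of_sigma c.hN c.hM (not_conj_symm c.hnc) htσ (h ▸ hsβ.1)
  -- a Hall subgroup of `C(P)` for the two primes
  have hPp := isPGroup_of_card_prime c.hP
  obtain ⟨L, hL, hNL⟩ := F.exists_max_normalizer hPp (ne_bot_of_card_prime c.hpM.1 c.hP)
  have hCL : Subgroup.centralizer (P : Set G) ≤ L := (Subgroup.centralizer_le_normalizer _).trans hNL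
  have hnL : ∀ {K : Subgroup G}, p ∈ tau1 K → ∀ x : G, L ≠ MulAut.conj x • K := fun {K} hK x => by
    by_cases h : p ∈ sigma L
    · exact not_conj_of_sigma h hK.2.1 x
    · exact not_conj_of_rank hK.2.2.2.2 (F.s1409 L hL p h P c.hP hNL).1.2 x
  have hcyc : ∀ {K : Subgroup G}, IsCoatom K → p ∈ tau1 K → ∀ {r : ℕ} [Fact r.Prime], r ∈ beta K →
      ∀ S : Subgroup G, S ≤ L → IsPGroup r S → IsCyclic S := fun {K} hK hpK {r} _ hr S hSL hS =>
    F.isCyclic_pSubgroup hL (fun h => F.not_alpha_of_sigma hL hK (not_conj_symm (hnL hpK)) h hr.1)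
      (fun h => F.tau2_not_beta hL h hr) hS hSL
  have hCs : Group.IsSolvable (Subgroup.centralizer (P : Set G)) :=
    Coprime.isSolvable_of_le hCL (F.solvable hL)
  obtain ⟨H, hH, hDH⟩ := exists_hallOf_ge hCs (π := {s, t}) hDP
    (fun r hr hd => Or.inl (eq_of_dvd_card_pGroup (isPGroup_of_card_prime hD) hr hd))
  obtain ⟨y, hy, hyT⟩ := F.exists_conj_le_of_relIndex hCs (π := {s, t}) hH.1 hTP
    (fun r hr hd => Or.inr (eq_of_dvd_card_pGroup (isPGroup_of_card_prime hT) hr hd)) hH.2.2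
  set N1 := MulAut.conj y • N0 with hN1
  set T1 := MulAut.conj y • T with hT1
  have hN1c := OddSigma.isCoatom_conj c.hN y
  have hnc1 : ∀ x : G, N1 ≠ MulAut.conj x • M := fun x hx => c.hnc (y⁻¹ * x) (by
    rw [← Solvable.conj_conj, ← hx, hN1, Solvable.conj_inv_smul])
  have hPN1 : P ≤ N1 := by
    rw [← conj_eq_of_mem_centralizer hy]
    exact Solvable.conj_mono y c.symm.hPM
  have hpN1 : p ∈ tau1 N1 := tau1_conj y c.hpN
  have htβ1 : t ∈ beta N1 := beta_conj y htβ
  have htσ1 : t ∈ sigma N1 := F.beta_subset_sigma hN1c htβ1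
  have hqN1 : q ∈ sigma N1 := by rw [hN1, OddMax.sigma_conj]; exact c.hqN
  have hT1N : T1 ≤ N1 := Solvable.conj_mono y hTN
  have hT1P : T1 ≤ Subgroup.centralizer (P : Set G) := hyT.trans hH.1
  have hT1c : Nat.card T1 = t := by rw [hT1, Solvable.card_conj, hT]
  have hcM : CUnique M D := (F.unique_centralizer c.hM hsσ hDM hD (Or.inl hsβ)).1
  have hcN : CUnique N1 T1 := (F.unique_centralizer hN1c htσ1 hT1N hT1c (Or.inl htβ1)).1
  have hπ : ∀ r : ℕ, r.Prime → r ∣ Nat.card H → r = s ∨ r = t := fun r hr hd => hH.2.1 r hr hd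
  have hboth : T1 ≤ M ∧ D ≤ N1 := by
    rcases hst.lt_or_gt with h | h
    · exact (F.mem_both hN1c c.hM (not_conj_symm hnc1) hpN1 c.hP hPN1 htσ1 hsβ.1 hT1c hT1N hT1P hD
        hDP (le_normalizer_of_cyclic_sylows h hπ
          (fun S hS => hcyc c.hM c.hpM hsβ S ((hS.trans hH.1).trans hCL))
          (fun S hS => hcyc c.hN c.hpN htβ S ((hS.trans hH.1).trans hCL)) hDH hD hyT hT1c)
        hcN hcM).symm
    · exact F.mem_both c.hM hN1c hnc1 c.hpM c.hP c.hPM hsσ htβ1.1 hD hDM hDP hT1c hT1P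
        (le_normalizer_of_cyclic_sylows h (fun r hr hd => (hπ r hr hd).symm)
          (fun S hS => hcyc c.hN c.hpN htβ S ((hS.trans hH.1).trans hCL))
          (fun S hS => hcyc c.hM c.hpM hsβ S ((hS.trans hH.1).trans hCL)) hyT hT1c hDH hD)
        hcM hcN
  obtain ⟨hT1M, hDN1⟩ := hboth
  -- Sylow `q`-subgroups of `M` and `N1` centralised by the two elements
  have hinv : ∀ {K K' : Subgroup G}, IsCoatom K → IsCoatom K' → (∀ x : G, K' ≠ MulAut.conj x • K) →
      q ∈ sigma K → q ∈ sigma K' → p ∈ tau1 K → P ≤ K → ∀ {r : ℕ} [Fact r.Prime] (X : Subgroup G),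
      Nat.card X = r → X ≤ K → X ≤ Subgroup.centralizer (P : Set G) → r ∈ beta K' →
      ∃ R : Subgroup G, R ≤ sigmaCore K ∧ IsPGroup q R ∧ ¬ q ∣ R.index ∧
        P ≤ Subgroup.normalizer (R : Set G) ∧ R ≤ Subgroup.centralizer (X : Set G) := by
    intro K K' hK hK' hne hqK hqK' hpK hPK r _ X hX hXK hXP hr
    have hrK : r ∉ sigma K := fun h => F.not_alpha_of_sigma hK hK' hne h hr.1
    have hKs := OddMax.sigmaCore_le K
    have hXn : P ⊔ X ≤ Subgroup.normalizer (sigmaCore K : Set G) :=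
      (sup_le hPK hXK).trans (OddMax.le_normalizer_sigmaCore K)
    obtain ⟨R, hRK, hR, hRi, hRn⟩ := exists_invariant hXn
      (Nat.Coprime.coprime_dvd_left (show Nat.card ↥(P ⊔ X) ∣ Nat.card X * Nat.card P by
          rw [sup_comm]
          exact pair_relIndex.card_sup_dvd_mul (hXP.trans (Subgroup.centralizer_le_normalizer _)))
        (Nat.Coprime.mul_left
          (coprime_of_not_dvd (isPGroup_of_card_prime hX) (F.not_dvd_sigmaCore hK Fact.out hrK))
          (coprime_of_not_dvd hPp (F.not_dvd_sigmaCore hK c.hpM.1 hpK.2.1))))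
      (Coprime.isSolvable_of_le hKs (F.solvable hK)) q
    have hRi' : ¬ q ∣ R.index := F.not_dvd_index_of_sylow hK hqK (hRK.trans hKs) (by
      rw [← Subgroup.relIndex_mul_relIndex R _ K hRK hKs]
      exact Nat.Prime.not_dvd_mul hqM.1 hRi ((F.s1350 K hK).1.2.2 q hqM.1 hqK))
    refine ⟨R, hRK, hR, hRi', le_sup_left.trans hRn, Subgroup.le_centralizer_iff.1 ?_⟩
    refine F.le_centralizer_commutator hK (fun h => F.not_alpha_of_sigma hK' hK
        (not_conj_symm hne) hqK' h.1) hR (hRK.trans (F.sigmaCore_le_commutator hK))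
      (F.le_commutator_of_sigma hK hK' hne hqK hqK' hrK (F.beta_subset_sigma hK' hr) hX hXK)
      (coprime_of_not_dvd (isPGroup_of_card_prime hX) fun h =>
        hrK ((Nat.prime_dvd_prime_iff_eq Fact.out hqM.1).1 h ▸ hqK)) (le_sup_right.trans hRn)
  obtain ⟨Q1, hQ1s, hQ1, hQ1i, hPQ1, hQ1T⟩ :=
    hinv c.hM hN1c hnc1 c.hqM hqN1 c.hpM c.hPM T1 hT1c hT1M hT1P htβ1
  obtain ⟨Q2, hQ2s, hQ2, hQ2i, hPQ2, hQ2D⟩ :=
    hinv hN1c c.hM (not_conj_symm hnc1) hqN1 c.hqM hpN1 hPN1 D hD hDN1 hDP hsβ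
  have hQ1M : Q1 ≤ M := hQ1s.trans (OddMax.sigmaCore_le M)
  have hQ1N : Q1 ≤ N1 := hQ1T.trans hcN.1
  have hQ2M : Q2 ≤ M := hQ2D.trans hcM.1
  have hQ2N : Q2 ≤ N1 := hQ2s.trans (OddMax.sigmaCore_le N1)
  -- conjugate `Q2` to `Q1` inside `C(P)`
  set K := sigmaCore M ⊓ N1 with hKdef
  have hPK : P ≤ Subgroup.normalizer (K : Set G) := le_normalizer_inf
    (c.hPM.trans (OddMax.le_normalizer_sigmaCore M)) (hPN1.trans Subgroup.le_normalizer)
  have hK1 : Q1 ≤ K := le_inf hQ1s hQ1N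
  have hK2 : Q2 ≤ K := le_inf (F.le_sigmaCore_of_pGroup c.hM c.hqM hQ2 hQ2M) hQ2N
  obtain ⟨k, hk, hkQ⟩ := exists_conj_sylow hQ2 hK2
    (fun h => hQ2i (h.trans (Subgroup.relIndex_dvd_index_of_le hK2))) hQ1 hK1
    (fun h => hQ1i (h.trans (Subgroup.relIndex_dvd_index_of_le hK1)))
  have hcopK : (Nat.card P).Coprime (Nat.card K) := coprime_of_not_dvd hPp fun h =>
    F.not_dvd_sigmaCore c.hM c.hpM.1 c.hpM.2.1 (h.trans (Subgroup.card_dvd_of_le inf_le_left))
  have hKs : Group.IsSolvable K := Coprime.isSolvable_of_le inf_le_right (F.solvable hN1c)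
  obtain ⟨z, ⟨hzK, hzP⟩, hzQ⟩ := Coprime.exists_mem_centralizer_conj hPK hcopK (Or.inr hKs) hk hPQ2
    (by rw [hkQ]; exact hPQ1)
  rw [hkQ] at hzQ
  -- the common Sylow subgroup `Q1` of `M` and `N1`
  have hNQ : ∀ {X : Subgroup G}, q ∈ sigma X → Q1 ≤ X → Subgroup.normalizer (Q1 : Set G) ≤ X :=
    fun hX hle => OddMax.normalizer_le_of_mem_sigma hX hQ1 hle
      fun h => hQ1i (h.trans (Subgroup.relIndex_dvd_index_of_le hle))
  have hmove1 : ¬ Q1 ≤ Subgroup.centralizer (P : Set G) := fun h => by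
    have hQs := F.le_sigmaCore_of_pGroup c.hM c.hqM c.hQ c.hQM
    obtain ⟨m, hm, hmQ⟩ := exists_conj_sylow hQ1 hQ1s
      (fun h => hQ1i (h.trans (Subgroup.relIndex_dvd_index_of_le hQ1s))) c.hQ hQs
      (fun h => c.hQi (h.trans (Subgroup.relIndex_dvd_index_of_le hQs)))
    obtain ⟨w, ⟨-, hwP⟩, hwQ⟩ := Coprime.exists_mem_centralizer_conj
      (c.hPM.trans (OddMax.le_normalizer_sigmaCore M))
      (coprime_of_not_dvd hPp (F.not_dvd_sigmaCore c.hM c.hpM.1 c.hpM.2.1))
      (Or.inr (Coprime.isSolvable_of_le (OddMax.sigmaCore_le M) (F.solvable c.hM))) hm hPQ1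
      (by rw [hmQ]; exact c.hPQ)
    apply c.hmove
    rw [← hmQ, ← hwQ, ← conj_eq_of_mem_centralizer hwP]
    exact le_centralizer_conj h w
  have c1 : Common M N1 Q1 P p q := ⟨c.hM, hN1c, hnc1, c.hqM, hqN1, hQ1, hQ1i, hNQ c.hqM hQ1M,
    hNQ hqN1 hQ1N, c.hpM, hpN1, c.hP, hPQ1, hmove1⟩
  set D1 := MulAut.conj z • D with hD1
  have hD1c : Nat.card D1 = s := by rw [hD1, Solvable.card_conj, hD]
  have hD1Q : Q1 ≤ Subgroup.centralizer (D1 : Set G) := hzQ ▸ le_centralizer_conj hQ2D z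
  have hD1P : D1 ≤ Subgroup.centralizer (P : Set G) := by
    have := le_centralizer_conj hDP z
    rwa [conj_eq_of_mem_centralizer hzP] at this
  have hD1M : D1 ≤ M := (Solvable.conj_mono z hDM).trans
    (Solvable.conj_eq_self (OddMax.sigmaCore_le M hzK.1)).le
  obtain ⟨U, hDU, hU, hUM, hUα, hUn, hnot'⟩ := c1.exists_beta_sylow F hsβ hD1M
    (isPGroup_of_card_prime hD1c) (sup_le (hD1Q.trans (Subgroup.centralizer_le_normalizer _))
      ((Subgroup.le_centralizer_iff.1 hD1P).trans (Subgroup.centralizer_le_normalizer _)))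
  have hUc := F.isCyclic_centralizer c.hM (F.alphaCore_ne_bot c.hM hsβ.1) c.hpM.2.1 c.hpM.2.2.2.2
    c.hPM c.hP hU hUα
  exact hnot' (c1.le_centralizer_frobenius F hsβ hU hUn
    (hD ▸ Subgroup.card_subgroup_dvd_card D) fun x hx hxP hxs =>
      Subgroup.le_centralizer_iff.1 hD1Q
        (mem_of_pow_eq_one hUc (le_inf hDU hD1P) hD1c ⟨hx, hxP⟩ hxs))

end Facts

end Cfsg.Agent.OddPrime
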