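import Cfsg.Agent.Lib.OddPrime.Disjoint

/-!
Bender-Glauberman 13.10-13.11, the core: for `|P| = p ∈ τ₃(M)` with `C_{M_σ}(P) ≠ 1` a `τ₁`-subgroup
`R` of prime order normalising `P` centralises `P` (`tau3_no_fix`) and `C_{M_σ}(P)`
(`tau1_centralizes`).
-/

set_option autoImplicit false
set_option linter.unusedVariables false
set_option linter.unusedSectionVars false

universe u

namespace Cfsg.Agent.OddPrime

open scoped Pointwise commutatorElement

variable {G : Type u} [Group G] [Finite G]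

theorem commutator_eq_of_prime {p : ℕ} [hp : Fact p.Prime] {P R : Subgroup G} (hP : Nat.card P = p)
    (hRP : R ≤ Subgroup.normalizer (P : Set G)) (h : ¬ R ≤ Subgroup.centralizer (P : Set G)) :
    ⁅P, R⁆ = P := by
  have hle : ⁅P, R⁆ ≤ P := Subgroup.le_normalizer_iff_commutator_le_left.1 hRP
  rcases (Nat.dvd_prime hp.out).1 (hP ▸ Subgroup.card_dvd_of_le hle) with h1 | h1
  · exact absurd (Subgroup.le_centralizer_iff.1
      (Subgroup.commutator_eq_bot_iff_le_centralizer.1 (Subgroup.card_eq_one.1 h1))) h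
  · exact Subgroup.eq_of_le_of_card_ge hle (by rw [hP, h1])

theorem le_centralizer_of_normal {A B : Subgroup G} (hAB : A ≤ Subgroup.normalizer (B : Set G))
    (hBA : B ≤ Subgroup.normalizer (A : Set G)) (h : (Nat.card A).Coprime (Nat.card B)) :
    A ≤ Subgroup.centralizer (B : Set G) := by
  rw [← Subgroup.commutator_eq_bot_iff_le_centralizer, ← le_bot_iff, ← Coprime.inf_eq_bot h]
  exact le_inf (Subgroup.le_normalizer_iff_commutator_le_left.1 hBA)
    (Subgroup.le_normalizer_iff_commutator_le_right.1 hAB)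

theorem commutator_le_centralizer_of_le {A B W : Subgroup G}
    (hB : B ≤ Subgroup.centralizer (W : Set G)) (hA : A ≤ Subgroup.normalizer (W : Set G)) :
    ⁅A, B⁆ ≤ Subgroup.centralizer (W : Set G) :=
  (Subgroup.commutator_mono le_rfl hB).trans
    (Subgroup.le_normalizer_iff_commutator_le_right.1 (hA.trans (normalizer_le_centralizer W)))

/-- With cyclic `r`-subgroups, a normal subgroup containing one subgroup of order `r` contains all. -/
theorem le_of_normal_cyclic {r : ℕ} [hr : Fact r.Prime] {H C R R₂ : Subgroup G}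
    (hCH : H ≤ Subgroup.normalizer (C : Set G))
    (hc : ∀ S : Subgroup G, S ≤ H → IsPGroup r S → IsCyclic S) (hRH : R ≤ H) (hR : Nat.card R = r)
    (hR₂H : R₂ ≤ H) (hR₂ : Nat.card R₂ = r) (h : R₂ ≤ C) : R ≤ C := by
  obtain ⟨S, hS⟩ := ((isPGroup_of_card_prime hR₂).comap_of_injective H.subtype
    H.subtype_injective).exists_le_sylow
  obtain ⟨T, hT⟩ := ((isPGroup_of_card_prime hR).comap_of_injective H.subtype
    H.subtype_injective).exists_le_sylow
  obtain ⟨e, he, hST⟩ := exists_conj_sylow (S.isPGroup'.map H.subtype) (Subgroup.map_subtype_le _)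
    (OddMax.sylow_relIndex S) (T.isPGroup'.map _) (Subgroup.map_subtype_le _) (OddMax.sylow_relIndex T)
  haveI := hc ((T : Subgroup H).map H.subtype) (Subgroup.map_subtype_le _) (T.isPGroup'.map _)
  rw [← eq_of_card_eq_of_cyclic (S := (T : Subgroup H).map H.subtype) (X := MulAut.conj e • R₂) (Y := R)
    (hST ▸ Solvable.conj_mono e (fun x hx => ⟨⟨x, hR₂H hx⟩, hS hx, rfl⟩))
    (fun x hx => ⟨⟨x, hRH hx⟩, hT hx, rfl⟩) (by rw [Solvable.card_conj, hR₂, hR])]
  exact (Solvable.conj_mono e h).trans (Coprime.conj_eq_of_mem_normalizer (hCH he)).le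

namespace Facts

variable (F : Facts G) {M N K : Subgroup G}
include F

theorem sigma_sep (hM : IsCoatom M) (hN : IsCoatom N) (hnc : ∀ g : G, N ≠ MulAut.conj g • M) {r : ℕ}
    (hr : r ∈ sigma M) : r ∉ sigma N := fun h => by
  obtain ⟨g, hg⟩ := F.sigma_disjoint hM hN hr h
  exact hnc g hg

theorem sigmaCore_inf_bot (hM : IsCoatom M) (hN : IsCoatom N)
    (hnc : ∀ g : G, N ≠ MulAut.conj g • M) : sigmaCore M ⊓ sigmaCore N = ⊥ :=
  Coprime.inf_eq_bot <| Nat.coprime_of_dvd fun r hr h1 h2 =>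
    F.sigma_sep hM hN hnc ((F.s1350 M hM).1.2.1 r hr h1) ((F.s1350 N hN).1.2.1 r hr h2)

theorem not_conj_of_normalizer (hM : IsCoatom M) (hK : IsCoatom K) {p : ℕ} [hp : Fact p.Prime]
    (hpσ : p ∉ sigma M) (hp1 : PRankLE p 1 M) {P : Subgroup G} (hP : Nat.card P = p)
    (hNK : Subgroup.normalizer (P : Set G) ≤ K) (g : G) : K ≠ MulAut.conj g • M := by
  by_cases h : p ∈ sigma K
  · exact not_conj_of_sigma h hpσ g
  · exact not_conj_of_rank hp1 (F.s1409 K hK p h P hP hNK).1.2 g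

theorem not_cunique (hM : IsCoatom M) {p : ℕ} [hp : Fact p.Prime] (hpσ : p ∉ sigma M)
    (hp1 : PRankLE p 1 M) {P : Subgroup G} (hP : Nat.card P = p) : ¬ CUnique M P := fun h => by
  obtain ⟨K, hK, hNK⟩ := F.exists_max_normalizer (isPGroup_of_card_prime hP)
    (ne_bot_of_card_prime hp.out hP)
  refine F.not_conj_of_normalizer hM hK hpσ hp1 hP hNK 1 ?_
  rw [Solvable.conj_one_smul]
  exact h.2 K hK ((Subgroup.centralizer_le_normalizer _).trans hNK)

/-- The subgroups of order `p ∈ τ₃(M)` of a complement are normal in it. -/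
theorem tau3_normal (hM : IsCoatom M) {E : Subgroup G} (hE : IsComplIn E (sigmaCore M) M) {p : ℕ}
    (hp : p ∈ tau3 M) {P : Subgroup G} (hPE : P ≤ E) (hP : Nat.card P = p) :
    E ≤ Subgroup.normalizer (P : Set G) := by
  have := Fact.mk hp.1
  obtain ⟨E3, hE3, hPE3⟩ := exists_hallOf_ge (π := tau3 M)
    (Coprime.isSolvable_of_le hE.1 (F.solvable hM)) hPE
    (fun r hr hd => eq_of_dvd_card_pGroup (isPGroup_of_card_prime hP) hr hd ▸ hp)
  obtain ⟨hc, -, hn⟩ := (F.s1415 M hM E hE).2.2 E3 hE3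
  exact hn.trans (normalizer_le_of_cyclic hc hPE3)

/-- No `τ₂` when an element of order `p ∈ τ₃(M)` has fixed points on `M_σ`. -/
theorem tau3_no_tau2 (hM : IsCoatom M) {p : ℕ} (hp : p ∈ tau3 M) {P : Subgroup G} (hPM : P ≤ M)
    (hP : Nat.card P = p) (hC : sigmaCore M ⊓ Subgroup.centralizer (P : Set G) ≠ ⊥) (r : ℕ) :
    r ∉ tau2 M := fun hr => by
  have := Fact.mk hp.1
  have := Fact.mk hr.1
  have hrp : r ≠ p := fun h => (h ▸ hr : p ∈ tau2 M).2.2.2 hp.2.2.2
  have hPp := isPGroup_of_card_prime hP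
  obtain ⟨E, hE, hPE⟩ := F.exists_compl_ge hM hPM fun s hs hd =>
    eq_of_dvd_card_pGroup hPp hs hd ▸ hp.2.1
  obtain ⟨A, hAE, hA, hAc, hEA, -, -⟩ := F.compl_tau2 hM hr hE
  have hAp := Signalizer.isPGroup_of_elemAb hA
  have hAP : A ≤ Subgroup.centralizer (P : Set G) := le_centralizer_of_normal
    (hAE.trans (F.tau3_normal hM hE hp hPE hP)) (hPE.trans hEA) (coprime_pGroups hAp hPp hrp)
  obtain ⟨K, hK, hNK⟩ := F.exists_max_normalizer hPp (ne_bot_of_card_prime hp.1 hP)
  have hCK : Subgroup.centralizer (P : Set G) ≤ K := (Subgroup.centralizer_le_normalizer _).trans hNK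
  have hAK : A ≤ K := hAP.trans hCK
  have hPK : P ≤ K := Subgroup.le_normalizer.trans hNK
  have hnc := F.not_conj_of_normalizer hM hK hp.2.1 hp.2.2.2 hP hNK
  have hne : M ≠ K := fun h => hnc 1 (by rw [Solvable.conj_one_smul]; exact h.symm)
  have hAM : A ≤ M := hAE.trans hE.1
  have hbot := (F.s1417 M hM r hr A ⟨hAM, hA, hAc⟩).2.2.2.1
  by_cases hrK : r ∈ sigma K
  · set C := sigmaCore M ⊓ Subgroup.centralizer (P : Set G)
    have h1 : ⁅C, A⁆ ≤ sigmaCore M ⊓ sigmaCore K := le_inf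
      ((Subgroup.commutator_mono inf_le_left le_rfl).trans
        (Subgroup.le_normalizer_iff_commutator_le_left.1 (hAM.trans (OddMax.le_normalizer_sigmaCore M))))
      ((Subgroup.commutator_mono le_rfl (F.le_sigmaCore_of_pGroup hK hrK hAp hAK)).trans
        (Subgroup.le_normalizer_iff_commutator_le_right.1
          ((inf_le_right.trans hCK).trans (OddMax.le_normalizer_sigmaCore K))))
    rw [F.sigmaCore_inf_bot hM hK hnc, le_bot_iff, Subgroup.commutator_eq_bot_iff_le_centralizer] at h1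
    exact hC (le_bot_iff.1 (hbot ▸ le_inf inf_le_left h1))
  · have hτ : r ∈ tau2 K := F.mem_tau2 hK hr.1 hrK (not_prankLE_one hA hAc hAK)
    have hKM : sigmaCore K ⊓ M = ⊥ := (F.s1417 K hK r hτ A ⟨hAK, hA, hAc⟩).2.2.2.2.1 M hM hne hAM
    have hpK : p ∉ sigma K := fun h => ne_bot_of_card_prime hp.1 hP
      (le_bot_iff.1 (hKM ▸ le_inf (F.le_sigmaCore_of_pGroup hK h hPp hPK) hPM))
    have hτp : p ∈ tau2 K := F.mem_tau2 hK hp.1 hpK (F.s1409 K hK p hpK P hP hNK).1.2
    obtain ⟨E', hE', hYE'⟩ := F.exists_compl_ge hK (X := A) hAK fun s hs hd =>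
      eq_of_dvd_card_pGroup hAp hs hd ▸ hrK
    obtain ⟨B, hBE, hB, hBc, hE'B, -, -⟩ := F.compl_tau2 hK hτp hE'
    have hE'A : E' ≤ Subgroup.normalizer (A : Set G) :=
      (F.s1418 K hK E' hE' r hτ A ⟨hYE', hA, hAc⟩).1.1
    have hBA : B ≤ Subgroup.centralizer (A : Set G) := le_centralizer_of_normal (hBE.trans hE'A)
      (hYE'.trans hE'B) (coprime_pGroups (Signalizer.isPGroup_of_elemAb hB) hAp hrp.symm)
    exact not_prankLE_one hB hBc (hBA.trans (F.s1416 M hM r A ⟨hAM, hA, hAc⟩).1) hp.2.2.2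

/-- `E = E' C_E(P)`, so `E` centralises what `E'` and `P` centralise, `p ∈ τ₁(M)`, `τ₂(M)` empty. -/
theorem tau1_compl_centralizes (hM : IsCoatom M) (hτ : ∀ r : ℕ, r ∉ tau2 M) {E : Subgroup G}
    (hE : IsComplIn E (sigmaCore M) M) {p : ℕ} (hp : p ∈ tau1 M) {P : Subgroup G} (hPE : P ≤ E)
    (hP : Nat.card P = p) {Z : Subgroup G}
    (hZ : Z ≤ sigmaCore M ⊓ Subgroup.centralizer (P : Set G))
    (hE' : ⁅E, E⁆ ≤ Subgroup.centralizer (Z : Set G)) : E ≤ Subgroup.centralizer (Z : Set G) := by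
  have := Fact.mk hp.1
  have hPp := isPGroup_of_card_prime hP
  have hPM : P ≤ M := hPE.trans hE.1
  set K := ⁅E, E⁆ with hKdef
  have hKE : K ≤ E := Subgroup.commutator_le.2 fun a ha b hb =>
    E.mul_mem (E.mul_mem (E.mul_mem ha hb) (E.inv_mem ha)) (E.inv_mem hb)
  set L := P ⊔ K with hL
  have hLE : L ≤ E := sup_le hPE hKE
  have hEK : E ≤ Subgroup.normalizer (K : Set G) :=
    Subgroup.le_normalizer_iff_commutator_le_right.2 (Subgroup.commutator_mono le_rfl hKE)
  have hEL : E ≤ Subgroup.normalizer (L : Set G) := Subgroup.le_normalizer_iff_commutator_le_right.2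
    ((Subgroup.commutator_mono le_rfl hLE).trans le_sup_right)
  have hpK : ¬ p ∣ Nat.card K := fun hd =>
    hp.2.2.2.1 (hd.trans (Subgroup.card_dvd_of_le (Subgroup.commutator_mono hE.1 hE.1)))
  have hPi : ¬ p ∣ P.relIndex L := fun hd => hpK <| hd.trans <|
    Nat.dvd_of_mul_dvd_mul_left (k := Nat.card P) Nat.card_pos <| by
      rw [OddMax.card_mul_relIndex le_sup_left]
      exact pair_relIndex.card_sup_dvd_mul (hPE.trans hEK)
  set F0 := E ⊓ Subgroup.centralizer (P : Set G) with hF0def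
  have hsup : E ≤ K ⊔ F0 := fun e he => by
    obtain ⟨k, hk, hkP⟩ := exists_conj_sylow (H := L) hPp le_sup_left hPi (Q := MulAut.conj e • P)
      (OddMax.isPGroup_conj e hPp)
      ((Solvable.conj_mono e le_sup_left).trans (Coprime.conj_eq_of_mem_normalizer (hEL he)).le)
      (by rw [← Coprime.conj_eq_of_mem_normalizer (hEL he), OddMax.relIndex_conj]; exact hPi)
    have hn : k⁻¹ * e ∈ F0 := by
      have hkeE : k⁻¹ * e ∈ E := E.mul_mem (E.inv_mem (hLE hk)) he
      refine ⟨hkeE, mem_centralizer_of_not_dvd_commutator hp.2.2.2.1 hPp hPM (hE.1 hkeE)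
        (Coprime.mem_normalizer_of_conj_eq ?_)⟩
      rw [← Solvable.conj_conj, ← hkP, Solvable.conj_inv_smul]
    have hk' : k ∈ K ⊔ F0 :=
      (sup_le (le_sup_of_le_right (le_inf hPE (le_centralizer_self
        (have : IsCyclic P := isCyclic_of_prime_card (p := p) hP
         IsCyclic.isMulCommutative)))) le_sup_left) hk
    simpa using Subgroup.mul_mem _ hk' (Subgroup.mem_sup_right hn)
  refine hsup.trans (sup_le hE' ?_)
  suffices h : F0 ⊓ Subgroup.centralizer (Z : Set G) = F0 from h.symm.le.trans inf_le_right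
  refine eq_of_forall_prime inf_le_left fun r hr hd h => ?_
  have := Fact.mk hr
  obtain ⟨S⟩ : Nonempty (Sylow r F0) := inferInstance
  set S' := (S : Subgroup F0).map F0.subtype with hS'
  have hS'F : S' ≤ F0 := Subgroup.map_subtype_le _
  have hS'p : IsPGroup r S' := S.isPGroup'.map _
  refine OddMax.sylow_relIndex S (h.trans (Subgroup.relIndex_dvd_of_le_left _ (le_inf hS'F ?_)))
  by_cases hS1 : S' = ⊥
  · exact le_trans (le_of_eq hS1) bot_le
  obtain ⟨R, hRS, hR⟩ := exists_prime_subgroup (dvd_card_of_ne_bot hS'p hS1)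
  have hrσ : r ∉ sigma M := F.not_sigma_of_compl hM hE hr
    (hR ▸ Subgroup.card_dvd_of_le (hRS.trans (hS'F.trans inf_le_left)))
  have h28 := F.le_centralizer_of_tau1 hM hp hPM hP ((hRS.trans hS'F).trans (inf_le_left.trans hE.1))
    ((hRS.trans hS'F).trans inf_le_right) hr hR hrσ
  obtain ⟨T, hT⟩ := (hS'p.comap_of_injective E.subtype E.subtype_injective).exists_le_sylow
  have hST : S' ≤ (T : Subgroup E).map E.subtype := fun x hx => ⟨⟨x, (hS'F hx).1⟩, hT hx, rfl⟩
  have hTc : IsCyclic ↥((T : Subgroup E).map E.subtype) :=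
    F.isCyclic_pSubgroup hM hrσ (hτ r) (T.isPGroup'.map _) ((Subgroup.map_subtype_le _).trans hE.1)
  exact hST.trans ((F.le_centralizer_of_cyclic_sylow hM hE (Subgroup.map_subtype_le _) (T.isPGroup'.map _)
    (OddMax.sylow_relIndex T) hTc (hRS.trans hST) hR).trans
      (Subgroup.centralizer_le (le_inf (hZ.trans inf_le_left) (hZ.trans h28) : Z ≤ _)))

/-- An element of order `s ∈ β(M)` fixed by `P` and `R`, `[P, R] = P`, is impossible. -/
theorem beta_contra (hM : IsCoatom M) {p r s : ℕ} [hp : Fact p.Prime] [hr : Fact r.Prime]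
    [hs : Fact s.Prime] (hpσ : p ∉ sigma M) (hp1 : PRankLE p 1 M) (hrσ : r ∉ sigma M)
    (hr1 : PRankLE r 1 M) (hrp : r ≠ p) {P R D : Subgroup G} (hP : Nat.card P = p) (hPM : P ≤ M)
    (hR : Nat.card R = r) (hRM : R ≤ M) (hRP : R ≤ Subgroup.normalizer (P : Set G))
    (hPR : ⁅P, R⁆ = P) (hsβ : s ∈ beta M) (hD : Nat.card D = s) (hDM : D ≤ M)
    (hDP : D ≤ Subgroup.centralizer (P : Set G)) (hDR : D ≤ Subgroup.centralizer (R : Set G)) :
    False := by
  have hsσ := F.beta_subset_sigma hM hsβ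
  have hPp := isPGroup_of_card_prime hP
  have hRp := isPGroup_of_card_prime hR
  have hMβ : betaCore M ≤ M := OddTrans.piCoreOf_le _ _
  have hhall := (F.s1414 M hM).1
  have hn : M ≤ Subgroup.normalizer (betaCore M : Set G) := OddTrans.le_normalizer_piCoreOf _ _
  have hpi := OddTrans.piCoreOf_pi (beta M) M
  obtain ⟨U, hUK, hU, hUi, hDU, hUn⟩ := exists_invariant_ge (A := R ⊔ P) ((sup_le hRM hPM).trans hn)
    (Nat.Coprime.coprime_dvd_left (pair_relIndex.card_sup_dvd_mul hRP) (Nat.Coprime.mul_left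
      (coprime_of_not_dvd hRp fun h => hrσ (F.beta_subset_sigma hM (hpi r hr.out h)))
      (coprime_of_not_dvd hPp fun h => hpσ (F.beta_subset_sigma hM (hpi p hp.out h)))))
    (Coprime.isSolvable_of_le hMβ (F.solvable hM))
    (le_of_isPiHallOf hhall hn hsβ (isPGroup_of_card_prime hD) hDM) (isPGroup_of_card_prime hD)
    (sup_le ((Subgroup.le_centralizer_iff.1 hDR).trans (Subgroup.centralizer_le_normalizer _))
      ((Subgroup.le_centralizer_iff.1 hDP).trans (Subgroup.centralizer_le_normalizer _)))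
  have hUi' : ¬ s ∣ U.relIndex M := by
    rw [← Subgroup.relIndex_mul_relIndex U _ M hUK hMβ]
    exact Nat.Prime.not_dvd_mul hs.out hUi (hhall.2.2 s hs.out hsβ)
  obtain ⟨S, hS⟩ := OddMax.exists_sylow_eq hU (hUK.trans hMβ) hUi'
  have hUu : InUniqueMaximal U := F.unique_of_rank_three (p := s) (F.ne_top_of_isPGroup hU)
    fun h => hsβ.1.2 (OddSigma.prankLE_of_sylow S (by rw [hS]; exact h))
  have hUc := F.isCyclic_centralizer hM (F.alphaCore_ne_bot hM hsβ.1) hrσ hr1 hRM hR hU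
    (hUK.trans (betaCore_le_alphaCore M))
  have hPc : IsMulCommutative P :=
    have : IsCyclic P := isCyclic_of_prime_card (p := p) hP
    IsCyclic.isMulCommutative
  have hPU : P ≤ Subgroup.centralizer (U : Set G) :=
    le_centralizer_of_frobenius (F.prime_ne_two (H := D) (by rw [hD])) hU hPc
      (by rw [hR]; exact hr.out) (le_sup_right.trans hUn) (le_sup_left.trans hUn) hRP
      (coprime_of_not_dvd hPp fun h => hpσ ((Nat.prime_dvd_prime_iff_eq hp.out hs.out).1 h ▸ hsσ))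
      (coprime_of_not_dvd hRp fun h => hrσ ((Nat.prime_dvd_prime_iff_eq hr.out hs.out).1 h ▸ hsσ))
      (coprime_pGroups hRp hPp hrp) hPR
      fun x hx hxR hxs => hDP (mem_of_pow_eq_one hUc (le_inf hDU hDR) hD ⟨hx, hxR⟩ hxs)
  exact F.not_cunique hM hpσ hp1 hP (F.cunique_of_unique hM (ne_bot_of_card_prime hp.out hP) hUu
    (hUK.trans hMβ) (Subgroup.le_centralizer_iff.1 hPU))

/-- `P` of order `p ∈ τ₃(M)` moved by `R`, `r ∈ τ₁(M)`: no common fixed points on `M_σ`. -/
theorem tau3_no_fix (hM : IsCoatom M) {p r s : ℕ} (hp : p ∈ tau3 M) (hr : r ∈ tau1 M)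
    [hs : Fact s.Prime] {P R D : Subgroup G} (hP : Nat.card P = p) (hPM : P ≤ M) (hR : Nat.card R = r)
    (hRM : R ≤ M) (hRP : R ≤ Subgroup.normalizer (P : Set G))
    (hne : ¬ R ≤ Subgroup.centralizer (P : Set G)) (hD : Nat.card D = s) (hDs : D ≤ sigmaCore M)
    (hDP : D ≤ Subgroup.centralizer (P : Set G)) (hDR : D ≤ Subgroup.centralizer (R : Set G)) :
    False := by
  have := Fact.mk hp.1
  have := Fact.mk hr.1
  have hpσ := hp.2.1
  have hrσ := hr.2.1
  have hrp : r ≠ p := fun h => (h ▸ hr : p ∈ tau1 M).2.2.2.1 hp.2.2.1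
  have hPp := isPGroup_of_card_prime hP
  have hRp := isPGroup_of_card_prime hR
  have hPR := commutator_eq_of_prime hP hRP hne
  have hsσ : s ∈ sigma M := (F.s1350 M hM).1.2.1 s hs.out (hD ▸ Subgroup.card_dvd_of_le hDs)
  have hDM : D ≤ M := hDs.trans (OddMax.sigmaCore_le M)
  by_cases hsβ : s ∈ beta M
  · exact F.beta_contra hM hpσ hp.2.2.2 hrσ hr.2.2.2.2 hrp hP hPM hR hRM hRP hPR hsβ hD hDM hDP hDR
  have hC : sigmaCore M ⊓ Subgroup.centralizer (P : Set G) ≠ ⊥ := fun h =>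
    ne_bot_of_card_prime hs.out hD (le_bot_iff.1 (h ▸ le_inf hDs hDP))
  have hτ := F.tau3_no_tau2 hM hp hPM hP hC
  have hMs := OddMax.sigmaCore_le M
  obtain ⟨Q, hQK, hQ, hQi, hDQ, hQn⟩ := exists_invariant_ge (A := R ⊔ P)
    ((sup_le hRM hPM).trans (OddMax.le_normalizer_sigmaCore M))
    (Nat.Coprime.coprime_dvd_left (pair_relIndex.card_sup_dvd_mul hRP) (Nat.Coprime.mul_left
      (coprime_of_not_dvd hRp (F.not_dvd_sigmaCore hM hr.1 hrσ))
      (coprime_of_not_dvd hPp (F.not_dvd_sigmaCore hM hp.1 hpσ))))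
    (Coprime.isSolvable_of_le hMs (F.solvable hM)) hDs (isPGroup_of_card_prime hD)
    (sup_le ((Subgroup.le_centralizer_iff.1 hDR).trans (Subgroup.centralizer_le_normalizer _))
      ((Subgroup.le_centralizer_iff.1 hDP).trans (Subgroup.centralizer_le_normalizer _)))
  obtain ⟨E, hE, hYE, hEQ⟩ := F.exists_compl_normalizing hM hQ hQK hQi (sup_le hRM hPM) hQn
    fun t ht hd => by
      rcases ht.dvd_mul.1 (hd.trans (pair_relIndex.card_sup_dvd_mul hRP)) with h | h
      · exact eq_of_dvd_card_pGroup hRp ht h ▸ hrσ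
      · exact eq_of_dvd_card_pGroup hPp ht h ▸ hpσ
  have hEE : ⁅E, E⁆ ≤ E := Subgroup.commutator_le.2 fun a ha b hb =>
    E.mul_mem (E.mul_mem (E.mul_mem ha hb) (E.inv_mem ha)) (E.inv_mem hb)
  have hE'Q : ⁅E, E⁆ ≤ Subgroup.centralizer (Q : Set G) :=
    F.le_centralizer_commutator hM hsβ hQ (hQK.trans (F.sigmaCore_le_commutator hM))
      (Subgroup.commutator_mono hE.1 hE.1)
      (((hs.out.coprime_iff_not_dvd).2 fun hd =>
        F.not_sigma_of_compl hM hE hs.out (hd.trans (Subgroup.card_dvd_of_le hEE)) hsσ).symm)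
      (hEE.trans hEQ)
  have hED := F.tau1_compl_centralizes hM hτ hE hr (le_sup_left.trans hYE) hR (le_inf hDs hDR)
    (hE'Q.trans (Subgroup.centralizer_le hDQ))
  obtain ⟨-, hu⟩ := F.unique_centralizer hM hsσ hDM hD (Or.inr ((le_inf hDs
    (Subgroup.le_centralizer_iff.1 hED)).trans (F.compl_action hM hE).2))
  have hPQ : P ≤ Subgroup.centralizer (Q : Set G) := hPR.symm.le.trans
    ((Subgroup.commutator_mono (le_sup_right.trans hYE) (le_sup_left.trans hYE)).trans hE'Q)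
  exact F.not_cunique hM hpσ hp.2.2.2 hP (F.cunique_of_unique hM (ne_bot_of_card_prime hp.1 hP)
    (hu Q hQ hQK hQi) (hQK.trans hMs) (Subgroup.le_centralizer_iff.1 hPQ))

/-- An element of order `s ∈ β(M)` of `C_M(R)`. -/
theorem exists_fix_element (hM : IsCoatom M) {p r : ℕ} (hp : p ∈ tau3 M) (hr : r ∈ tau1 M)
    {P R : Subgroup G} (hP : Nat.card P = p) (hPM : P ≤ M) (hR : Nat.card R = r) (hRM : R ≤ M)
    (hRP : R ≤ Subgroup.normalizer (P : Set G)) (hPR : ⁅P, R⁆ = P) :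
    ∃ (s : ℕ) (D : Subgroup G), s ∈ beta M ∧ Nat.card D = s ∧ D ≤ M ∧
      D ≤ Subgroup.centralizer (R : Set G) := by
  have := Fact.mk hp.1
  have := Fact.mk hr.1
  have hPp := isPGroup_of_card_prime hP
  have hRp := isPGroup_of_card_prime hR
  have hrp : r ≠ p := fun h => (h ▸ hr : p ∈ tau1 M).2.2.2.1 hp.2.2.1
  have hMs := OddMax.sigmaCore_le M
  have hnot : ¬ sigmaCore M ≤ Subgroup.centralizer (P : Set G) := fun h => by
    obtain ⟨E, hE, hPE⟩ := F.exists_compl_ge hM hPM fun t ht hd =>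
      eq_of_dvd_card_pGroup hPp ht hd ▸ hp.2.1
    refine F.not_normalizer_le hM hp.2.1 (fun h => h.2.2.2 hp.2.2.2) hP ?_
    have hMN : M ≤ Subgroup.normalizer (P : Set G) := by
      rw [← OddMax.compl_eq_sup hE]
      exact sup_le (F.tau3_normal hM hE hp hPE hP) (h.trans (Subgroup.centralizer_le_normalizer _))
    rcases hMN.eq_or_lt with h' | h'
    · exact h'.ge
    · exact absurd (hM.2 _ h')
        (F.normalizer_ne_top (ne_bot_of_card_prime hp.1 hP) (F.ne_top_of_isPGroup hPp))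
  have hn : R ⊔ P ≤ Subgroup.normalizer (sigmaCore M : Set G) :=
    (sup_le hRM hPM).trans (OddMax.le_normalizer_sigmaCore M)
  have hcop : (Nat.card ↥(R ⊔ P)).Coprime (Nat.card (sigmaCore M)) :=
    Nat.Coprime.coprime_dvd_left (pair_relIndex.card_sup_dvd_mul hRP) (Nat.Coprime.mul_left
      (coprime_of_not_dvd hRp (F.not_dvd_sigmaCore hM hr.1 hr.2.1))
      (coprime_of_not_dvd hPp (F.not_dvd_sigmaCore hM hp.1 hp.2.1)))
  obtain ⟨s, hs, hsd, U, hUK, hU, hUi, hUn, hUP⟩ : ∃ s, s.Prime ∧ s ∣ Nat.card (sigmaCore M) ∧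
      ∃ U : Subgroup G, U ≤ sigmaCore M ∧ IsPGroup s U ∧ ¬ s ∣ U.relIndex (sigmaCore M) ∧
        R ⊔ P ≤ Subgroup.normalizer (U : Set G) ∧ ¬ U ≤ Subgroup.centralizer (P : Set G) := by
    by_contra h
    push Not at h
    refine hnot ?_
    suffices he : sigmaCore M ⊓ Subgroup.centralizer (P : Set G) = sigmaCore M from
      he.symm.le.trans inf_le_right
    refine eq_of_forall_prime inf_le_left fun t ht htd hi => ?_
    have := Fact.mk ht
    obtain ⟨U, hUK, hU, hUi, hUn⟩ :=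
      exists_invariant hn hcop (Coprime.isSolvable_of_le hMs (F.solvable hM)) t
    exact hUi (hi.trans (Subgroup.relIndex_dvd_of_le_left _ (le_inf hUK (h t ht htd U hUK hU hUi hUn))))
  have := Fact.mk hs
  have hsσ : s ∈ sigma M := (F.s1350 M hM).1.2.1 s hs hsd
  have hcPs : (Nat.card P).Coprime s :=
    coprime_of_not_dvd hPp fun h => hp.2.1 ((Nat.prime_dvd_prime_iff_eq hp.1 hs).1 h ▸ hsσ)
  have hsβ : s ∈ beta M := by
    by_contra h
    refine hUP (Subgroup.le_centralizer_iff.1 ?_)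
    exact F.le_centralizer_commutator hM h hU (hUK.trans (F.sigmaCore_le_commutator hM))
      (F.le_commutator_of_rank_one hM hp.2.1 hp.2.2.2 hp.2.2.1 hPp hPM) hcPs (le_sup_right.trans hUn)
  have hPc : IsMulCommutative P :=
    have : IsCyclic P := isCyclic_of_prime_card (p := p) hP
    IsCyclic.isMulCommutative
  by_contra hcon
  refine hUP (Subgroup.le_centralizer_iff.1 (le_centralizer_of_frobenius (F.prime_ne_two hsd) hU hPc
    (by rw [hR]; exact hr.1) (le_sup_right.trans hUn) (le_sup_left.trans hUn) hRP hcPs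
    (coprime_of_not_dvd hRp fun h => hr.2.1 ((Nat.prime_dvd_prime_iff_eq hr.1 hs).1 h ▸ hsσ))
    (coprime_pGroups hRp hPp hrp) hPR fun x hx hxR hxs => ?_))
  by_cases hx1 : x = 1
  · exact hx1 ▸ Subgroup.one_mem _
  · exact absurd ⟨s, Subgroup.zpowers x, hsβ, by rw [Nat.card_zpowers, orderOf_eq_prime hxs hx1],
      Subgroup.zpowers_le.2 (hMs (hUK hx)), Subgroup.zpowers_le.2 hxR⟩ hcon

/-- `R` cannot move both `P` (`τ₃` in `M`, in `K_σ`) and `X ≤ C_{M_σ}(P)` (`τ₃` in `K`). -/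
theorem both_move_contra (hM : IsCoatom M) (hK : IsCoatom K) {p q r : ℕ} (hp : p ∈ tau3 M)
    (hq : q ∈ tau3 K) (hrM : r ∈ tau1 M) (hrK : r ∈ tau1 K) {P X R : Subgroup G}
    (hP : Nat.card P = p) (hPM : P ≤ M) (hX : Nat.card X = q) (hXs : X ≤ sigmaCore M)
    (hXP : X ≤ Subgroup.centralizer (P : Set G)) (hXK : X ≤ K) (hR : Nat.card R = r) (hRM : R ≤ M)
    (hRK : R ≤ K) (hNK : Subgroup.normalizer (P : Set G) ≤ K)
    (hRP : R ≤ Subgroup.normalizer (P : Set G)) (hRX : R ≤ Subgroup.normalizer (X : Set G))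
    (hPR : ⁅P, R⁆ = P) (hXR : ⁅X, R⁆ = X) : False := by
  have := Fact.mk hp.1
  have := Fact.mk hq.1
  have := Fact.mk hrM.1
  have hPp := isPGroup_of_card_prime hP
  have hRp := isPGroup_of_card_prime hR
  have hpσ := hp.2.1
  have hrσ := hrM.2.1
  have hrp : r ≠ p := fun h => (h ▸ hrM : p ∈ tau1 M).2.2.2.1 hp.2.2.1
  have hnc := F.not_conj_of_normalizer hM hK hpσ hp.2.2.2 hP hNK
  have hC : sigmaCore M ⊓ Subgroup.centralizer (P : Set G) ≠ ⊥ := fun h =>
    ne_bot_of_card_prime hq.1 hX (le_bot_iff.1 (h ▸ le_inf hXs hXP))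
  have hτ := F.tau3_no_tau2 hM hp hPM hP hC
  obtain ⟨s, D, hsβ, hD, hDM, hDR⟩ := F.exists_fix_element hM hp hrM hP hPM hR hRM hRP hPR
  obtain ⟨t, T, htβ, hT, hTK, hTR⟩ := F.exists_fix_element hK hq hrK hX hXK hR hRK hRX hXR
  have := Fact.mk hsβ.1.1
  have := Fact.mk htβ.1.1
  have hsσ := F.beta_subset_sigma hM hsβ
  have htσ := F.beta_subset_sigma hK htβ
  have hst : s ≠ t := fun h => F.sigma_sep hM hK hnc hsσ (h.symm ▸ htσ)
  -- a Hall subgroup of `C(R)` for the two primes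
  obtain ⟨L, hL, hNL⟩ := F.exists_max_normalizer hRp (ne_bot_of_card_prime hrM.1 hR)
  have hCL : Subgroup.centralizer (R : Set G) ≤ L := (Subgroup.centralizer_le_normalizer _).trans hNL
  have hcyc : ∀ {H : Subgroup G}, IsCoatom H → r ∈ tau1 H → ∀ {u : ℕ} [Fact u.Prime], u ∈ beta H →
      ∀ S : Subgroup G, S ≤ L → IsPGroup u S → IsCyclic S := fun {H} hH hrH {u} _ hu S hSL hS =>
    F.isCyclic_pSubgroup hL (fun h => F.sigma_sep hH hL
        (F.not_conj_of_normalizer hH hL hrH.2.1 hrH.2.2.2.2 hR hNL) (F.beta_subset_sigma hH hu) h)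
      (fun h => F.tau2_not_beta hL h hu) hS hSL
  have hCs : Group.IsSolvable (Subgroup.centralizer (R : Set G)) :=
    Coprime.isSolvable_of_le hCL (F.solvable hL)
  obtain ⟨H, hH, hDH⟩ := exists_hallOf_ge hCs (π := {s, t}) hDR
    (fun u hu hd => Or.inl (eq_of_dvd_card_pGroup (isPGroup_of_card_prime hD) hu hd))
  obtain ⟨y, hy, hyT⟩ := F.exists_conj_le_of_relIndex hCs (π := {s, t}) hH.1 hTR
    (fun u hu hd => Or.inr (eq_of_dvd_card_pGroup (isPGroup_of_card_prime hT) hu hd)) hH.2.2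
  set K1 := MulAut.conj y • K with hK1
  set T1 := MulAut.conj y • T with hT1
  have hK1c := OddSigma.isCoatom_conj hK y
  have hnc1 : ∀ g : G, K1 ≠ MulAut.conj g • M := fun g hg => hnc (y⁻¹ * g) (by
    rw [← Solvable.conj_conj, ← hg, hK1, Solvable.conj_inv_smul])
  have hRK1 : R ≤ K1 := by
    rw [← conj_eq_of_mem_centralizer hy]
    exact Solvable.conj_mono y hRK
  have hrK1 : r ∈ tau1 K1 := tau1_conj y hrK
  have htβ1 : t ∈ beta K1 := beta_conj y htβ
  have htσ1 : t ∈ sigma K1 := F.beta_subset_sigma hK1c htβ1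
  have hT1K : T1 ≤ K1 := Solvable.conj_mono y hTK
  have hT1R : T1 ≤ Subgroup.centralizer (R : Set G) := hyT.trans hH.1
  have hT1c : Nat.card T1 = t := by rw [hT1, Solvable.card_conj, hT]
  have hcM : CUnique M D := (F.unique_centralizer hM hsσ hDM hD (Or.inl hsβ)).1
  have hcK : CUnique K1 T1 := (F.unique_centralizer hK1c htσ1 hT1K hT1c (Or.inl htβ1)).1
  have hπ : ∀ u : ℕ, u.Prime → u ∣ Nat.card H → u = s ∨ u = t := fun u hu hd => hH.2.1 u hu hd
  have hboth : T1 ≤ M ∧ D ≤ K1 := by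
    rcases hst.lt_or_gt with h | h
    · exact (F.mem_both hK1c hM (not_conj_symm hnc1) hrK1 hR hRK1 htσ1 hsβ.1 hT1c hT1K hT1R hD
        hDR (le_normalizer_of_cyclic_sylows h hπ
          (fun S hS => hcyc hM hrM hsβ S ((hS.trans hH.1).trans hCL))
          (fun S hS => hcyc hK hrK htβ S ((hS.trans hH.1).trans hCL)) hDH hD hyT hT1c)
        hcK hcM).symm
    · exact F.mem_both hM hK1c hnc1 hrM hR hRM hsσ htβ1.1 hD hDM hDR hT1c hT1R
        (le_normalizer_of_cyclic_sylows h (fun u hu hd => (hπ u hu hd).symm)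
          (fun S hS => hcyc hK hrK htβ S ((hS.trans hH.1).trans hCL))
          (fun S hS => hcyc hM hrM hsβ S ((hS.trans hH.1).trans hCL)) hyT hT1c hDH hD)
        hcM hcK
  have hTM := hboth.1
  have htM : t ∉ sigma M := fun h => F.sigma_sep hM hK hnc h htσ
  have ht1 : PRankLE t 1 M := F.prankLE_one hM htβ.1.1 htM (hτ t)
  have hdT : D ≤ Subgroup.centralizer (T1 : Set G) :=
    (le_inf (F.le_sigmaCore_of_pGroup hM hsσ (isPGroup_of_card_prime hD) hDM) hDR).trans
      (F.le_centralizer_of_tau1 hM hrM hRM hR hTM hT1R htβ.1.1 hT1c htM)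
  -- `t ∈ τ₃(M)`
  have htτ : t ∈ tau3 M := by
    refine ⟨htβ.1.1, htM, by_contra fun hd => ?_, ht1⟩
    have htτ1 : t ∈ tau1 M := ⟨htβ.1.1, htM, hT1c ▸ Subgroup.card_dvd_of_le hTM, hd, ht1⟩
    obtain ⟨E, hE, hYE⟩ := F.exists_compl_ge hM (X := R ⊔ P) (sup_le hRM hPM) fun u hu hd => by
      rcases hu.dvd_mul.1 (hd.trans (pair_relIndex.card_sup_dvd_mul hRP)) with h | h
      · exact eq_of_dvd_card_pGroup hRp hu h ▸ hrσ
      · exact eq_of_dvd_card_pGroup hPp hu h ▸ hpσ
    have hEP := F.tau3_normal hM hE hp (le_sup_right.trans hYE) hP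
    obtain ⟨T2, hT2E, hT2⟩ := exists_prime_subgroup (p := t) (H := E) (by
      have h := htτ1.2.2.1
      rw [← OddMax.compl_card hE] at h
      exact (htβ.1.1.dvd_mul.1 h).resolve_right (F.not_dvd_sigmaCore hM htβ.1.1 htM))
    have hsolv := Coprime.isSolvable_of_le hE.1 (F.solvable hM)
    obtain ⟨E1, hE1, hRE1⟩ := exists_hallOf_ge (π := tau1 M) hsolv (le_sup_left.trans hYE)
      (fun u hu hd => eq_of_dvd_card_pGroup hRp hu hd ▸ hrM)
    have hE1c := (F.s1415 M hM E hE).2.1 E1 hE1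
    obtain ⟨f, hf, hfT⟩ := F.exists_conj_le_of_relIndex hsolv (π := tau1 M) hE1.1 hT2E
      (fun u hu hd => eq_of_dvd_card_pGroup (isPGroup_of_card_prime hT2) hu hd ▸ htτ1) hE1.2.2
    set T3 := MulAut.conj f • T2 with hT3
    have hT3E : T3 ≤ E := hfT.trans hE1.1
    have hT3c : Nat.card T3 = t := by rw [hT3, Solvable.card_conj, hT2]
    have hT3K : T3 ≤ K := (hT3E.trans hEP).trans hNK
    set C := sigmaCore M ⊓ Subgroup.centralizer (P : Set G) with hCdef
    have hCK : C ≤ K := (inf_le_right.trans (Subgroup.centralizer_le_normalizer _)).trans hNK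
    have hCT : C ≤ Subgroup.centralizer (T3 : Set G) := by
      rw [← Subgroup.commutator_eq_bot_iff_le_centralizer, ← le_bot_iff, ← F.sigmaCore_inf_bot hM hK hnc]
      exact le_inf ((Subgroup.commutator_mono inf_le_left le_rfl).trans
        (Subgroup.le_normalizer_iff_commutator_le_left.1
          ((hT3E.trans hE.1).trans (OddMax.le_normalizer_sigmaCore M))))
        ((Subgroup.commutator_mono le_rfl (F.le_sigmaCore_of_pGroup hK htσ
            (isPGroup_of_card_prime hT3c) hT3K)).trans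
          (Subgroup.le_normalizer_iff_commutator_le_right.1
            (hCK.trans (OddMax.le_normalizer_sigmaCore K))))
    have hCR : C ≤ Subgroup.centralizer (R : Set G) := (le_inf inf_le_left hCT).trans
      (F.le_centralizer_of_tau1 hM htτ1 (hT3E.trans hE.1) hT3c hRM
        (le_centralizer_of_le_cyclic hE1c hRE1 hfT) hrM.1 hR hrσ)
    refine ne_bot_of_card_prime hq.1 hX ?_
    rw [← hXR, Subgroup.commutator_eq_bot_iff_le_centralizer]
    exact (le_inf hXs hXP).trans hCR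
  -- move `P` next to `R` and `T1`
  obtain ⟨E2, hE2, hY2⟩ := F.exists_compl_ge hM (X := R ⊔ T1) (sup_le hRM hTM) fun u hu hd => by
    rw [sup_comm] at hd
    rcases hu.dvd_mul.1 (hd.trans (pair_relIndex.card_sup_dvd_mul
      (hT1R.trans (Subgroup.centralizer_le_normalizer _)))) with h | h
    · exact eq_of_dvd_card_pGroup (isPGroup_of_card_prime hT1c) hu h ▸ htM
    · exact eq_of_dvd_card_pGroup hRp hu h ▸ hrσ
  obtain ⟨P2, hP2E, hP2⟩ := exists_prime_subgroup (p := p) (H := E2) (by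
    have h : p ∣ Nat.card M := hP ▸ Subgroup.card_dvd_of_le hPM
    rw [← OddMax.compl_card hE2] at h
    exact (hp.1.dvd_mul.1 h).resolve_right (F.not_dvd_sigmaCore hM hp.1 hpσ))
  have hP2M : P2 ≤ M := hP2E.trans hE2.1
  have hE2P := F.tau3_normal hM hE2 hp hP2E hP2
  have hE2T := F.tau3_normal hM hE2 htτ (le_sup_right.trans hY2) hT1c
  have hP2T : P2 ≤ Subgroup.centralizer (T1 : Set G) := by
    by_cases hpt : p = t
    · subst hpt
      have hc : IsCyclic ↥(P2 ⊔ T1) := F.isCyclic_pSubgroup hM hpσ (hτ p)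
        ((isPGroup_of_card_prime hP2).to_sup_of_normal_right' (isPGroup_of_card_prime hT1c)
          (hP2E.trans hE2T)) (sup_le hP2M hTM)
      exact le_centralizer_of_le_cyclic hc le_sup_left le_sup_right
    · exact le_centralizer_of_normal (hP2E.trans hE2T) ((le_sup_right.trans hY2).trans hE2P)
        (coprime_pGroups (isPGroup_of_card_prime hP2) (isPGroup_of_card_prime hT1c) hpt)
  have hR2 : R ≤ E2 := le_sup_left.trans hY2
  have hP2R : ⁅P2, R⁆ = P2 := by
    refine commutator_eq_of_prime hP2 (hR2.trans hE2P) fun hc => ?_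
    obtain ⟨S, hS⟩ := ((isPGroup_of_card_prime hP2).comap_of_injective M.subtype
      M.subtype_injective).exists_le_sylow
    obtain ⟨m, hm, hmP⟩ := F.exists_conj_le_of_relIndex (F.solvable hM) (π := {p})
      (Subgroup.map_subtype_le (S : Subgroup M)) hPM
      (fun u hu hd => eq_of_dvd_card_pGroup hPp hu hd)
      (fun u hu hup => by rw [Set.mem_singleton_iff.1 hup]; exact OddMax.sylow_relIndex S)
    haveI := F.isCyclic_pSubgroup hM hpσ (hτ p) (S.isPGroup'.map M.subtype) (Subgroup.map_subtype_le _)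
    have he := eq_of_card_eq_of_cyclic (S := (S : Subgroup M).map M.subtype)
      (X := MulAut.conj m • P) (Y := P2) hmP (fun x hx => ⟨⟨x, hP2M hx⟩, hS hx, rfl⟩)
      (by rw [Solvable.card_conj, hP, hP2])
    have hR' : MulAut.conj m⁻¹ • R ≤ Subgroup.centralizer (P : Set G) := by
      have := le_centralizer_conj hc m⁻¹
      rwa [← he, Solvable.conj_inv_smul] at this
    have hR'M : MulAut.conj m⁻¹ • R ≤ M :=
      (Solvable.conj_mono _ hRM).trans (Solvable.conj_eq_self (M.inv_mem hm)).le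
    have hRc := le_of_normal_cyclic (r := r) (H := M ⊓ Subgroup.normalizer (P : Set G))
      (inf_le_right.trans (normalizer_le_centralizer P))
      (fun S hS hSp => F.isCyclic_pSubgroup hM hrσ (hτ r) hSp (hS.trans inf_le_left))
      (le_inf hRM hRP) hR (le_inf hR'M (hR'.trans (Subgroup.centralizer_le_normalizer _)))
      (by rw [Solvable.card_conj, hR]) hR'
    refine ne_bot_of_card_prime hp.1 hP ?_
    rw [← hPR, Subgroup.commutator_eq_bot_iff_le_centralizer]
    exact Subgroup.le_centralizer_iff.1 hRc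
  -- an element of order `s` fixed by `P2` and `R`
  have hMβ : betaCore M ≤ M := OddTrans.piCoreOf_le _ _
  set Y0 := betaCore M ⊓ Subgroup.centralizer (T1 : Set G) with hY0
  have hY0n : R ⊔ P2 ≤ Subgroup.normalizer (Y0 : Set G) := le_normalizer_inf
    ((sup_le hRM hP2M).trans (OddTrans.le_normalizer_piCoreOf _ _))
    ((sup_le hR2 hP2E).trans (hE2T.trans (normalizer_le_centralizer T1)))
  have hY0d : ∀ {u : ℕ}, u.Prime → u ∉ sigma M → ¬ u ∣ Nat.card Y0 := fun hu hσ hd => hσ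
    (F.beta_subset_sigma hM
      (OddTrans.piCoreOf_pi (beta M) M _ hu (hd.trans (Subgroup.card_dvd_of_le inf_le_left))))
  have hRP2 : R ≤ Subgroup.normalizer (P2 : Set G) := hR2.trans hE2P
  have hY0s : Group.IsSolvable Y0 :=
    Coprime.isSolvable_of_le (inf_le_left.trans hMβ) (F.solvable hM)
  obtain ⟨S, hSY, hS, hSi, hSn⟩ := exists_invariant hY0n
    (Nat.Coprime.coprime_dvd_left (pair_relIndex.card_sup_dvd_mul hRP2) (Nat.Coprime.mul_left
      (coprime_of_not_dvd hRp (hY0d hrM.1 hrσ))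
      (coprime_of_not_dvd (isPGroup_of_card_prime hP2) (hY0d hp.1 hpσ)))) hY0s s
  have hcopR : (Nat.card R).Coprime (Nat.card Y0) := coprime_of_not_dvd hRp (hY0d hrM.1 hrσ)
  have hDY : D ≤ Y0 := le_inf (le_of_isPiHallOf (F.s1414 M hM).1
    (OddTrans.le_normalizer_piCoreOf _ _) hsβ (isPGroup_of_card_prime hD) hDM) hdT
  obtain ⟨S', hS'Y, hS', hS'i, hDS', hS'n⟩ := exists_invariant_ge (le_sup_left.trans hY0n) hcopR hY0s
    hDY (isPGroup_of_card_prime hD)
    ((Subgroup.le_centralizer_iff.1 hDR).trans (Subgroup.centralizer_le_normalizer _))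
  obtain ⟨k, hk, hkS⟩ := exists_conj_sylow hS' hS'Y hS'i hS hSY hSi
  obtain ⟨z, ⟨hzY, hzR⟩, hzS⟩ := Coprime.exists_mem_centralizer_conj (le_sup_left.trans hY0n) hcopR
    (Or.inr hY0s) hk hS'n (by rw [hkS]; exact le_sup_left.trans hSn)
  rw [hkS] at hzS
  have hzD : MulAut.conj z • D ≤ S := (Solvable.conj_mono z hDS').trans hzS.le
  have hzDR : MulAut.conj z • D ≤ Subgroup.centralizer (R : Set G) := by
    have := le_centralizer_conj hDR z
    rwa [conj_eq_of_mem_centralizer hzR] at this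
  have hSc : IsCyclic S := by
    have h := F.isCyclic_centralizer hM (F.alphaCore_ne_bot hM hsβ.1) htM ht1 hTM hT1c hS
      ((hSY.trans inf_le_left).trans (betaCore_le_alphaCore M))
    rwa [inf_eq_left.2 (hSY.trans inf_le_right)] at h
  have hP2S : P2 ≤ Subgroup.centralizer (S : Set G) := hP2R.symm.le.trans
    ((Subgroup.commutator_mono le_sup_right le_sup_left).trans
      (OddUniq.commutator_le_centralizer_cyclic hSc hSn))
  exact F.beta_contra hM hpσ hp.2.2.2 hrσ hrM.2.2.2.2 hrp hP2 hP2M hR hRM hRP2 hP2R hsβ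
    (show Nat.card ↥(MulAut.conj z • D) = s by rw [Solvable.card_conj, hD])
    ((hzD.trans hSY).trans (inf_le_left.trans hMβ))
    (hzD.trans (Subgroup.le_centralizer_iff.1 hP2S)) hzDR

/-- A `τ₁`-subgroup normalising `P`, `p ∈ τ₃(M)`, centralises `C_{M_σ}(P)`. -/
theorem tau1_centralizes (hM : IsCoatom M) {p r : ℕ} (hp : p ∈ tau3 M) (hr : r ∈ tau1 M)
    {P R : Subgroup G} (hP : Nat.card P = p) (hPM : P ≤ M) (hR : Nat.card R = r) (hRM : R ≤ M)
    (hRP : R ≤ Subgroup.normalizer (P : Set G)) :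
    sigmaCore M ⊓ Subgroup.centralizer (P : Set G) ≤ Subgroup.centralizer (R : Set G) := by
  have := Fact.mk hp.1
  have := Fact.mk hr.1
  have hPp := isPGroup_of_card_prime hP
  have hRp := isPGroup_of_card_prime hR
  have hpσ := hp.2.1
  have hrσ := hr.2.1
  have hrp : r ≠ p := fun h => (h ▸ hr : p ∈ tau1 M).2.2.2.1 hp.2.2.1
  set C := sigmaCore M ⊓ Subgroup.centralizer (P : Set G) with hC
  have hCs : C ≤ sigmaCore M := inf_le_left
  have hCM : C ≤ M := hCs.trans (OddMax.sigmaCore_le M)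
  have hRC : R ≤ Subgroup.normalizer (C : Set G) := le_normalizer_inf
    (hRM.trans (OddMax.le_normalizer_sigmaCore M)) (hRP.trans (normalizer_le_centralizer P))
  have hcop : (Nat.card R).Coprime (Nat.card C) := coprime_of_not_dvd hRp fun h =>
    F.not_dvd_sigmaCore hM hr.1 hrσ (h.trans (Subgroup.card_dvd_of_le hCs))
  suffices key : ∀ (q : ℕ) [Fact q.Prime], q ∣ Nat.card C → ∀ Q : Subgroup G, Q ≤ C → IsPGroup q Q →
      R ≤ Subgroup.normalizer (Q : Set G) → Q ≤ Subgroup.centralizer (R : Set G) by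
    suffices h : C ⊓ Subgroup.centralizer (R : Set G) = C from h.symm.le.trans inf_le_right
    refine eq_of_forall_prime inf_le_left fun q hq hd h => ?_
    have := Fact.mk hq
    obtain ⟨Q, hQC, hQ, hQi, hRQ⟩ :=
      exists_invariant hRC hcop (Coprime.isSolvable_of_le hCM (F.solvable hM)) q
    exact hQi (h.trans (Subgroup.relIndex_dvd_of_le_left _ (le_inf hQC (key q hd Q hQC hQ hRQ))))
  intro q hq hqd Q0 hQ0C hQ0 hRQ0
  have hqσ : q ∈ sigma M := (F.s1350 M hM).1.2.1 q hq.out (hqd.trans (Subgroup.card_dvd_of_le hCs))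
  have hqr : r ≠ q := fun h => hrσ (h ▸ hqσ)
  have hqp : q ≠ p := fun h => hpσ (h ▸ hqσ)
  by_contra hne
  set Q := ⁅Q0, R⁆ with hQdef
  have hQQ0 : Q ≤ Q0 := Subgroup.le_normalizer_iff_commutator_le_left.1 hRQ0
  have hQ : IsPGroup q Q := hQ0.to_le hQQ0
  have hQC : Q ≤ C := hQQ0.trans hQ0C
  have hQ1 : Q ≠ ⊥ := fun h => hne (Subgroup.commutator_eq_bot_iff_le_centralizer.1 h)
  have hRQ : R ≤ Subgroup.normalizer (Q : Set G) :=
    Coprime.le_normalizer_commutator hRQ0 Subgroup.le_normalizer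
  have hQR : ⁅Q, R⁆ = Q := Coprime.commutator_commutator_eq hRQ0 (coprime_pGroups hRp hQ0 hqr)
    (Or.inr (Coprime.isSolvable_of_isPGroup hQ0))
  have hQP : Q ≤ Subgroup.centralizer (P : Set G) := hQC.trans inf_le_right
  have hQM : Q ≤ M := hQC.trans hCM
  obtain ⟨K, hK, hNK⟩ := F.exists_max_normalizer hPp (ne_bot_of_card_prime hp.1 hP)
  have hQK : Q ≤ K := (hQP.trans (Subgroup.centralizer_le_normalizer _)).trans hNK
  have hRK : R ≤ K := hRP.trans hNK
  have hPK : P ≤ K := Subgroup.le_normalizer.trans hNK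
  have hnc := F.not_conj_of_normalizer hM hK hpσ hp.2.2.2 hP hNK
  have hKM : K ≠ M := fun h => hnc 1 (by rw [Solvable.conj_one_smul]; exact h)
  have hqK : q ∉ sigma K := F.sigma_sep hM hK hnc hqσ
  have hrK : r ∉ sigma K := fun h => hqK <| (F.s1350 K hK).1.2.1 q hq.out <|
    (dvd_card_of_ne_bot hQ hQ1).trans <| Subgroup.card_dvd_of_le <| hQR.symm.le.trans <|
      (Subgroup.commutator_mono le_rfl (F.le_sigmaCore_of_pGroup hK h hRp hRK)).trans <|
        Subgroup.le_normalizer_iff_commutator_le_right.1 (hQK.trans (OddMax.le_normalizer_sigmaCore K))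
  have hRQP : R ⊔ Q ≤ Subgroup.normalizer (P : Set G) :=
    sup_le hRP (hQP.trans (Subgroup.centralizer_le_normalizer _))
  have hdQR : ∀ u : ℕ, u.Prime → u ∣ Nat.card ↥(R ⊔ Q) → u ∉ sigma K := fun u hu hd => by
    rcases hu.dvd_mul.1 (hd.trans (pair_relIndex.card_sup_dvd_mul hRQ)) with h | h
    · exact eq_of_dvd_card_pGroup hRp hu h ▸ hrK
    · exact eq_of_dvd_card_pGroup hQ hu h ▸ hqK
  have hQle : ∀ {Y : Subgroup G}, R ⊔ Q ≤ Y → Q ≤ ⁅Y, Y⁆ := fun h =>
    hQR.symm.le.trans (Subgroup.commutator_mono (le_sup_right.trans h) (le_sup_left.trans h))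
  have hpK : p ∈ sigma K := by
    by_contra hpK
    have hτ := F.mem_tau2 hK hp.1 hpK (F.s1409 K hK p hpK P hP hNK).1.2
    obtain ⟨E, A, hE, hYE, hAE, hA, hAc, hEA, hlines, -⟩ :=
      F.exists_compl_tau2 hK hτ (Y := (R ⊔ Q) ⊔ P) (sup_le (sup_le hRK hQK) hPK) (fun u hu hd => by
        rcases hu.dvd_mul.1 (hd.trans (pair_relIndex.card_sup_dvd_mul hRQP)) with h | h
        · exact hdQR u hu h
        · exact eq_of_dvd_card_pGroup hPp hu h ▸ hpK)
    have hQA : Q ≤ Subgroup.centralizer (A : Set G) := (hQle le_rfl).trans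
      (commutator_le_centralizer_line hA hAc (hlines P (le_sup_right.trans hYE) hP) hP
        ((le_sup_left.trans hYE).trans hEA) hRQP
        (Nat.Coprime.coprime_dvd_left (pair_relIndex.card_sup_dvd_mul hRQ) (Nat.Coprime.mul_left
          (coprime_of_not_dvd hRp fun h => hrp ((Nat.prime_dvd_prime_iff_eq hr.1 hp.1).1 h))
          (coprime_of_not_dvd hQ fun h => hqp ((Nat.prime_dvd_prime_iff_eq hq.out hp.1).1 h)))))
    exact F.pair_rank_contra hM hpσ hp.2.2.2 (fun N => F.tau2_not_beta hK hτ) hqσ hQ hQ1 hQM hP hPM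
      (Subgroup.le_centralizer_iff.1 hQP) hA hAc (Subgroup.le_centralizer_iff.1 hQA)
  have hr1K : PRankLE r 1 K := by
    by_contra h
    obtain ⟨E, A, hE, hYE, hAE, hA, hAc, hEA, hlines, -⟩ :=
      F.exists_compl_tau2 hK (F.mem_tau2 hK hr.1 hrK h) (Y := R ⊔ Q) (sup_le hRK hQK) hdQR
    have h1 : Q ≤ A := hQR.symm.le.trans
      ((Subgroup.commutator_mono le_rfl (hlines R (le_sup_left.trans hYE) hR)).trans
        (Subgroup.le_normalizer_iff_commutator_le_right.1 ((le_sup_right.trans hYE).trans hEA)))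
    exact hqr (eq_of_dvd_card_pGroup (Signalizer.isPGroup_of_elemAb hA) hq.out
      ((dvd_card_of_ne_bot hQ hQ1).trans (Subgroup.card_dvd_of_le h1))).symm
  have hPKs : P ≤ sigmaCore K := F.le_sigmaCore_of_pGroup hK hpK hPp hPK
  obtain ⟨X, hXQ, hX⟩ := exists_prime_subgroup (dvd_card_of_ne_bot hQ hQ1)
  have hXP : X ≤ Subgroup.centralizer (P : Set G) := hXQ.trans hQP
  have hXK : X ≤ K := hXQ.trans hQK
  have hq1K : PRankLE q 1 K := by
    by_contra h
    have hτ := F.mem_tau2 hK hq.out hqK h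
    obtain ⟨E, A, hE, hYE, hAE, hA, hAc, hEA, hlines, -⟩ :=
      F.exists_compl_tau2 hK hτ (Y := X) hXK fun u hu hd =>
        eq_of_dvd_card_pGroup (isPGroup_of_card_prime hX) hu hd ▸ hqK
    have hu := (F.s1418 K hK E hE q hτ A ⟨hAE, hA, hAc⟩).2.2 X (hlines X hYE hX) hX fun h0 =>
      ne_bot_of_card_prime hp.1 hP (le_bot_iff.1 (h0 ▸ le_inf hPKs (Subgroup.le_centralizer_iff.1 hXP)))
    obtain ⟨K', hK', hNK'⟩ := F.exists_max_normalizer (isPGroup_of_card_prime hX)
      (ne_bot_of_card_prime hq.out hX)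
    rw [hu.2 K' hK' ((Subgroup.centralizer_le_normalizer _).trans hNK')] at hNK'
    obtain ⟨-, -, hcomp, -, -⟩ := F.pair_tau2 hM hK hqσ (isPGroup_of_card_prime hX)
      (ne_bot_of_card_prime hq.out hX) (hXQ.trans hQM) hKM hNK' hqK
    exact ne_bot_of_card_prime hp.1 hP (le_bot_iff.1 (hcomp.2.2.1 ▸ le_inf (le_inf hPM hPK) hPKs))
  have hQc : IsCyclic Q := F.isCyclic_pSubgroup hK hqK (fun h => h.2.2.2 hq1K) hQ hQK
  have hRX : R ≤ Subgroup.normalizer (X : Set G) := hRQ.trans (normalizer_le_of_cyclic hQc hXQ)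
  have hXR0 : ¬ R ≤ Subgroup.centralizer (X : Set G) := fun h => by
    have : IsMulCommutative Q := IsCyclic.isMulCommutative
    have h1 := Coprime.abelian_inf_eq_bot (A := R) (V := Q) hRQ (coprime_pGroups hRp hQ hqr)
    rw [hQR] at h1
    exact ne_bot_of_card_prime hq.out hX (le_bot_iff.1
      (h1 ▸ le_inf (le_inf hXQ (Subgroup.le_centralizer_iff.1 h)) hXQ))
  have hXR := commutator_eq_of_prime hX hRX hXR0
  have hq3 : q ∈ tau3 K := ⟨hq.out, hqK, hX ▸ Subgroup.card_dvd_of_le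
    (hXR.symm.le.trans (Subgroup.commutator_mono hXK hRK)), hq1K⟩
  have hr3 : r ∈ tau1 K := by
    refine ⟨hr.1, hrK, hR ▸ Subgroup.card_dvd_of_le hRK, fun hd => hXR0 ?_, hr1K⟩
    obtain ⟨E, hE, hYE⟩ := F.exists_compl_ge hK (X := R ⊔ X) (sup_le hRK hXK) fun u hu hd =>
      hdQR u hu (hd.trans (Subgroup.card_dvd_of_le (sup_le_sup_left hXQ R)))
    refine le_centralizer_of_normal hRX ((le_sup_right.trans hYE).trans
      (F.tau3_normal hK hE ⟨hr.1, hrK, hd, hr1K⟩ (le_sup_left.trans hYE) hR))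
      (coprime_pGroups hRp (isPGroup_of_card_prime hX) hqr)
  by_cases hRPc : R ≤ Subgroup.centralizer (P : Set G)
  · exact F.tau3_no_fix (s := p) hK hq3 hr3 hX hXK hR hRK hRX hXR0 hP hPKs
      (Subgroup.le_centralizer_iff.1 hXP) (Subgroup.le_centralizer_iff.1 hRPc)
  · exact F.both_move_contra hM hK hp hq3 hr hr3 hP hPM hX (hXQ.trans (hQC.trans hCs)) hXP hXK hR hRM
      hRK hNK hRP hRX (commutator_eq_of_prime hP hRP hRPc) hXR

end Facts

end Cfsg.Agent.OddPrime
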