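import Cfsg.Agent.Lib.OddPrime.Basic
import Cfsg.Agent.Lib.OddOrder.SigmaInputs
import Cfsg.Agent.Lib.OddOrder.TauTwoBad
import Cfsg.Agent.Lib.OddOrder.TauTwoNormal
import Cfsg.Agent.Lib.OddOrder.TauTwoCompl
import Cfsg.Agent.Lib.OddOrder.TauTwoPrimes

/-!
`Facts.of_inputs`: the bundle `Facts G` from the inputs of sections 3-9.
-/

set_option autoImplicit false
set_option linter.unusedVariables false

universe u

namespace Cfsg.Agent.OddPrime

variable {G : Type u} [Group G] [Finite G]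

theorem Facts.of_inputs (I : OddSigma.Inputs G) : Facts G where
  hG := I.hG
  s1350 := I.s1350
  s1403 := I.hU
  s1404 := I.s1404
  s1405 := I.s1405
  s1407 := I.s1407
  s1408 := I.s1408
  s1409 := I.s1409
  s1411 := I.s1411
  s1412 := I.s1412
  s1414 := I.s1414
  s1415 := OddTau2.s1415 (OddTau2.base I)
  s1416 := fun M hM p _ A hA => OddTau2.s1416 I M hM A hA
  s1417 := fun M hM p _ hp A hA => OddTau2.s1417 I hM ⟨hM, hp.2.1, hA.1, hA.2.1, hA.2.2⟩
  s1418 := fun M hM E hE p _ hp A hA =>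
    OddTau2.s1418 I hM hE ⟨hM, hp.2.1, hA.1.trans hE.1, hA.2.1, hA.2.2⟩ hA.1
  s1420 := fun M hM E hE => OddTau2.s1420 I hM hE

/-- `Facts G` from the hypothesis that is left of sections 3-9. -/
theorem Facts.of_pLengthCommHyp (hG : Cfsg.IsMinSimpleOddOrder G)
    (hP : OddSigma.PLengthCommHyp.{u}) : Facts G :=
  Facts.of_inputs ⟨hG, OddSigma.uniqHyp hG, OddSigma.rankTwoHyp hG, OddSigma.rankTwoFittingHyp, hP,
    OddSigma.rankTwoOperatorHyp, OddSigma.narrowStructHyp⟩

end Cfsg.Agent.OddPrime
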